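import Cfsg.Agent.Lib.Blocks.Order10200960.Search

/-!
# The checks on degrees and columns, order 244823040
-/

set_option autoImplicit false

namespace CfsgLib.Blocks.Order244823040

open CfsgLib.Blocks.Order10200960 (Cell Run consRun combos pick vals flat combos_sound vals_sound combos_runs flat_cons flat_consRun)

/-- The order. -/
def ord : ℕ := 244823040

/-- The sign of a degree congruent to `±1`. -/
def sgn (p d : ℕ) : ℤ := if d % p == 1 then 1 else -1

/-- The divisors of the order. -/
def divs : List ℕ :=
  (List.range 11).flatMap fun a => (List.range 4).flatMap fun b => (List.range 2).flatMap fun c =>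
    (List.range 2).flatMap fun d => (List.range 2).flatMap fun e => (List.range 2).map fun f =>
      2 ^ a * 3 ^ b * 5 ^ c * 7 ^ d * 11 ^ e * 23 ^ f

/-- The possible degrees other than one. -/
def degList : List ℕ := divs.filter fun d => decide (1 < d) && decide (d * d < ord)

/-- The possible degrees, given the principal 23-block. -/
def degP : List ℕ := degList.filter fun d => [0, 1, 22, 11, 12].contains (d % 23)

/-- The possible centralizer orders of involutions. -/
def centList : List ℕ := divs.filter fun C => C % 2 == 0 && decide (C ≤ 10644480)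

/-- The possible shapes `(e, c)` of the normalizer of a Sylow `p`-subgroup. -/
def candList (p : ℕ) : List (ℕ × ℕ) :=
  ((List.range p).filter fun e => decide (1 < e) && (p - 1) % e == 0).flatMap fun e =>
    (divs.filter fun c => ord / p % (e * c) == 0 && ord / p / (e * c) % p == 1 &&
      ord / p / (e * c) != 1 && c % p != 0).map fun c => (e, c)

/-- The two-part of a number dividing the order. -/
def twoPart (c : ℕ) : ℕ :=
  2 ^ (((List.range 11).filter fun k => c % 2 ^ (k + 1) == 0).length)

/-- The condition on the centralizer of a central two-element of the centralizer of a Sylow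
`p`-subgroup. -/
def sylok (C p e c : ℕ) : Bool :=
  C % (p * twoPart c) == 0 &&
    (List.range (min C (e * p * c) / (p * twoPart c) + 1)).any fun i =>
      0 < i && e * p * c % (i * (p * twoPart c)) == 0 && C % (i * (p * twoPart c)) == 0 &&
        C / (i * (p * twoPart c)) % p == 1

/-- The sum of the squares of the values. -/
def nsq (l : List Cell) : ℕ := (l.map fun t => t.2.natAbs * t.2.natAbs).sum

/-- The sum of the squares of the degrees. -/
def dsq (l : List ℕ) : ℕ := (l.map fun d => d * d).sum

/-- The signed sum of the degrees. -/
def dsum (p : ℕ) (l : List ℕ) : ℤ := 1 + (l.map fun d => sgn p d * (d : ℤ)).sum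

/-- The signed sum of the values. -/
def vsum (p : ℕ) (l : List Cell) : ℤ := 1 + (l.map fun t => sgn p t.1 * t.2).sum

/-- The weighted sum of the squares of the values. -/
def qsum (p : ℕ) (l : List Cell) : ℤ :=
  (ord : ℤ) + (l.map fun t => sgn p t.1 * (t.2 * t.2) * ((ord / t.1 : ℕ) : ℤ)).sum

/-- The sign of an integer. -/
def eps (S : ℤ) : ℤ := if 0 ≤ S then 1 else -1

/-- Binary digits of the square root. -/
def isqGo (C : ℕ) : ℕ → ℕ → ℕ
  | 0, r => r
  | k + 1, r => isqGo C k (if (r + 2 ^ k) * (r + 2 ^ k) ≤ C then r + 2 ^ k else r)

/-- The conditions on a nontrivial value at an involution with centralizer order `C`. -/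
def okv (C d : ℕ) (w : ℤ) : Bool :=
  ((d : ℤ) - w) % 4 == 0 && decide (w.natAbs < d) && decide (w.natAbs * w.natAbs < C) &&
    ((ord / C : ℕ) : ℤ) * w % (d : ℤ) == 0

/-- The integers congruent to `d` modulo four of absolute value at most `m`. -/
def window (d m : ℕ) : List ℤ :=
  ((List.range (m / 2 + 2)).map fun a : ℕ => (d : ℤ) - 4 * (((d + m) / 4 : ℕ) : ℤ) + 4 * (a : ℤ))
    |>.filter fun w => decide (w.natAbs ≤ m)

/-- The values at an involution for a degree. -/
def valsAt (C d : ℕ) : List ℤ := (window d (min (d - 1) (isqGo C 12 0))).filter (okv C d)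

/-- The integers of absolute value at most `m` in the class of `r` modulo `k`. -/
def progression (k r m : ℕ) : List ℤ :=
  ((List.range (2 * m / k + 2)).map fun a : ℕ =>
      (r : ℤ) - (k : ℤ) * (((r + m) / k : ℕ) : ℤ) + (k : ℤ) * (a : ℤ))
    |>.filter fun w => decide (w.natAbs ≤ m)

/-- The class modulo `4 p` of the values congruent to `d` and to the sign. -/
def classOf (p d : ℕ) : ℕ :=
  ((List.range (4 * p)).find? fun r =>
    r % 4 == d % 4 && r % p == (if d % p == 1 then 1 else p - 1)).getD 0

/-- The values for a non-exceptional member at a central element of the complement. -/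
def valsC (p C d : ℕ) : List ℤ :=
  (progression (4 * p) (classOf p d) (min (d - 1) (isqGo C 12 0))).filter (okv C d)

/-- The least square in a list. -/
def minSq : List ℤ → ℕ
  | [] => 0
  | [v] => v.natAbs * v.natAbs
  | v :: u :: l => min (v.natAbs * v.natAbs) (minSq (u :: l))

/-- The conditions on a degree congruent to `±1` in the block. -/
def okd (p c d : ℕ) : Bool :=
  (d % p == 1 || d % p == p - 1) && ord / (p * c) % d == 0 && (c == 1 || decide (p ≤ d))

/-- The test on the degree of the exceptional members. -/
def degOk (p e c : ℕ) (pool l : List ℕ) : Bool :=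
  let S := dsum p l
  let y := S.natAbs
  decide (1 < y) && ord % y == 0 && ((y : ℤ) - eps S * (e : ℤ)) % (p : ℤ) == 0 &&
    decide (1 + dsq l + (p - 1) / e * (y * y) ≤ ord) &&
    ((p - 1) / e != 1 || (ord / (p * c) % y == 0 && (c == 1 || decide (p ≤ y)))) &&
    pool.contains y

/-- The degrees of the non-exceptional members. -/
def degSols (p e c : ℕ) (px pool : List ℕ) : List (List Run) :=
  (combos (fun _ => 0) (px.filter (okd p c)) (e - 1) (ord - 1) 0).filter fun L =>
    degOk p e c pool (flat L)

/-- The pairs equation, `j` being a square root. -/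
def pairsOk (p e c C : ℕ) (Q : ℤ) : Bool :=
  let v := (c : ℤ) * ((ord / C : ℕ) : ℤ) * ((ord / C : ℕ) : ℤ) * Q
  let q := (v / ((p : ℤ) * (ord : ℤ) * (ord : ℤ))).natAbs
  v == (p : ℤ) * (ord : ℤ) * (ord : ℤ) * (q : ℤ) &&
    ((e % 2 == 0 && isqGo q 15 0 * isqGo q 15 0 == q) || q == 0)

/-- The test on the value of the exceptional members. -/
def colOk (p e c C : ℕ) (y : ℕ) (ε : ℤ) (R : List Cell) : Bool :=
  let w := ε * vsum p R
  okv C y w && decide (1 + nsq R + (p - 1) / e * (w.natAbs * w.natAbs) ≤ C) &&
    ((p - 1) / e != 1 || (w + ε) % (p : ℤ) == 0) &&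
    pairsOk p e c C (qsum p R - ε * (w * w) * ((ord / y : ℕ) : ℤ))

/-- The columns on given degrees at a central involution of the complement: the non-exceptional
cells and the exceptional cell. -/
def colsOf (p e c C : ℕ) (L : List Run) : List (List Cell × Cell) :=
  let S := dsum p (flat L)
  ((vals (valsC p C) L (C - 1)).filter (colOk p e c C S.natAbs (eps S))).map fun R =>
    (R, (S.natAbs, eps S * vsum p R))

/-- The possible centralizer orders at a central involution of the complement. -/
def sylCents (p e c : ℕ) (bad : ℕ → Bool) : List ℕ :=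
  centList.filter fun C => !bad C && sylok C p e c

/-- No degrees, or no values for them at a central involution of the complement. -/
def noneChk (p e c : ℕ) (pool : List ℕ) (bad : ℕ → Bool) : Bool :=
  (degSols p e c pool pool).all fun L =>
    c % 2 == 0 && (sylCents p e c bad).all fun C => (colsOf p e c C L).isEmpty

/-- The search by values first, for many members. -/
def noneFirst (p e c : ℕ) (pool : List ℕ) : Bool :=
  c % 2 == 0 && (sylCents p e c fun _ => false).all fun C =>
    ((combos (fun d => minSq (valsC p C d))
      ((pool.filter (okd p c)).filter fun d => !(valsC p C d).isEmpty) (e - 1) (ord - 1) (C - 1)).filter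
        fun L => degOk p e c pool (flat L)).all fun L => (colsOf p e c C L).isEmpty

end CfsgLib.Blocks.Order244823040
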