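import Cfsg.Agent.Lib.Blocks.PrimeSylow.Setup
import Cfsg.Agent.Lib.Blocks.PrimeSylow.Data
import Cfsg.Agent.Lib.Blocks.PrimeSylow.Block
import Cfsg.Agent.Lib.Blocks.Order95040.Sylow
import Cfsg.Agent.Lib.Perm.PrimeOrderCount
import Mathlib.GroupTheory.SpecificGroups.Cyclic

/-!
# Numbers of elements of the various orders modulo a prime

An element `z` of prime order `p` permutes the elements of a given order by conjugation, so their
number is congruent to the number in the centralizer of `z`, which is known from the centralizer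
complement `V`.
-/

set_option autoImplicit false

namespace CfsgLib.Blocks.Order244823040

open Cfsg CfsgLib CfsgLib.Blocks.PrimeSylow

/-- The number of elements of a given order. -/
noncomputable def cnt (M : Type*) [Group M] (n : ℕ) : ℕ := Nat.card {g : M // orderOf g = n}

variable {M : Type*} [Group M] [Finite M] {p : ℕ}

/-- The number of elements of order `n` is congruent to that in the centralizer of `z`. -/
theorem cnt_mod [Fact p.Prime] {z : M} (hz : orderOf z = p) (n : ℕ) :
    cnt M n % p = cnt (Subgroup.centralizer ({z} : Set M)) n % p := by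
  let S := Subgroup.zpowers z
  let act : MulAction S {g : M // orderOf g = n} :=
    { smul := fun s g => ⟨(s : M) * g * (s : M)⁻¹, by
        rw [CfsgLib.Perm.orderOf_conj_eq]; exact g.2⟩
      one_smul := fun g => Subtype.ext (by show ((1 : S) : M) * g * ((1 : S) : M)⁻¹ = g; simp)
      mul_smul := fun s t g => Subtype.ext (by
        show ((s * t : S) : M) * g * ((s * t : S) : M)⁻¹ = s * (t * g * (t : M)⁻¹) * (s : M)⁻¹
        rw [Subgroup.coe_mul]; group) }
  have hS : IsPGroup p S := IsPGroup.of_card (n := 1) (by rw [Nat.card_zpowers, hz, pow_one])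
  have h := hS.card_modEq_card_fixedPoints (α := {g : M // orderOf g = n})
  refine h.trans (congrArg (fun a => a % p) (Nat.card_congr ?_))
  exact
    { toFun := fun a => ⟨⟨a.1.1, Subgroup.mem_centralizer_singleton_iff.2 ((mul_inv_eq_iff_eq_mul.1
        (congrArg Subtype.val (a.2 ⟨z, Subgroup.mem_zpowers z⟩) :
          z * (a.1 : M) * z⁻¹ = (a.1 : M))).symm)⟩, by rw [Subgroup.orderOf_mk]; exact a.1.2⟩
      invFun := fun a => ⟨⟨a.1.1, by rw [Subgroup.orderOf_coe]; exact a.2⟩, fun s => Subtype.ext (by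
        show (s : M) * a.1.1 * (s : M)⁻¹ = a.1.1
        obtain ⟨i, hi⟩ := Subgroup.mem_zpowers_iff.1 s.2
        rw [← hi, mul_inv_eq_iff_eq_mul]
        exact ((Commute.zpow_right (Subgroup.mem_centralizer_singleton_iff.1 a.1.2) i).eq).symm)⟩
      left_inv := fun a => rfl
      right_inv := fun a => rfl }

omit [Finite M] in
theorem cnt_one_eq : cnt M 1 = 1 := by
  rw [cnt, Nat.card_eq_one_iff_unique]
  exact ⟨⟨fun a b => Subtype.ext
    ((orderOf_eq_one_iff.1 a.2).trans (orderOf_eq_one_iff.1 b.2).symm)⟩, ⟨⟨1, orderOf_one⟩⟩⟩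

theorem cnt_eq_zero {n : ℕ} (h : ¬ n ∣ Nat.card M) : cnt M n = 0 := by
  rw [cnt, Nat.card_eq_zero]
  exact Or.inl ⟨fun a => h (a.2 ▸ orderOf_dvd_natCard _)⟩

theorem cnt_of_card_eq_one (hM : Nat.card M = 1) (n : ℕ) :
    cnt M n = if n = 1 then 1 else 0 := by
  split_ifs with h
  · rw [h]; exact cnt_one_eq
  · exact cnt_eq_zero fun hd => h (Nat.dvd_one.1 (hM ▸ hd))

/-- The elements of the centralizer of an element of order `p`, by orders. -/
theorem cnt_centralizer [hp : Fact p.Prime] {P V : Subgroup M} (h : Setup p P V) {x : M}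
    (hx : x ∈ P) (hx1 : x ≠ 1) (n : ℕ) :
    cnt (Subgroup.centralizer ({x} : Set M)) n =
      if p ∣ n then (p - 1) * cnt V (n / p) else cnt V n := by
  classical
  have := Fintype.ofFinite M
  have ho : ∀ q : P × V, orderOf (h.mulEquiv' hx hx1 q) =
      (if (q.1 : M) = 1 then 1 else p) * orderOf q.2 := fun q => by
    rw [← Subgroup.orderOf_coe, h.coe_mulEquiv', ← Subgroup.orderOf_coe (q.2)]
    split_ifs with h1
    · rw [h1, one_mul, one_mul]
    · have hop := h.orderOf_eq q.1.2 h1
      rw [(h.commute q.1.2 q.2.2).orderOf_mul_eq_mul_orderOf_of_coprime, hop]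
      rw [hop, hp.out.coprime_iff_not_dvd]
      exact h.not_dvd_orderOf q.2.2
  have hnd : ∀ v : V, ¬ p ∣ orderOf v := fun v => by
    rw [← Subgroup.orderOf_coe]; exact h.not_dvd_orderOf v.2
  have e1 : cnt (Subgroup.centralizer ({x} : Set M)) n =
      Nat.card {q : P × V // (if (q.1 : M) = 1 then 1 else p) * orderOf q.2 = n} :=
    (Nat.card_congr ((h.mulEquiv' hx hx1).subtypeEquiv fun q => by rw [ho q])).symm
  rw [e1]
  have hcard : Nat.card {y : P // (y : M) ≠ 1} = p - 1 := by
    have : Fintype P := Fintype.ofFinite _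
    rw [Nat.card_eq_fintype_card, Fintype.card_subtype_compl, ← Nat.card_eq_fintype_card, h.card,
      Fintype.card_eq_one_iff.2 ⟨(⟨1, OneMemClass.coe_one P⟩ : {y : P // (y : M) = 1}),
        fun y => Subtype.ext (Subtype.ext (y.2.trans (OneMemClass.coe_one P).symm))⟩]
  split_ifs with hd
  · obtain ⟨m, rfl⟩ := hd
    rw [Nat.mul_div_cancel_left _ hp.out.pos, cnt, ← hcard, ← Nat.card_prod]
    refine Nat.card_congr
      { toFun := fun q => (⟨q.1.1, ?_⟩, ⟨q.1.2, ?_⟩)
        invFun := fun q => ⟨(q.1.1, q.2.1), ?_⟩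
        left_inv := fun q => rfl
        right_inv := fun q => rfl }
    · intro e
      have := q.2
      rw [if_pos e, one_mul] at this
      exact hnd q.1.2 (by rw [this]; exact dvd_mul_right p m)
    · have := q.2
      split_ifs at this with e
      · rw [one_mul] at this
        exact absurd (Dvd.intro m this.symm) (hnd q.1.2)
      · exact Nat.eq_of_mul_eq_mul_left hp.out.pos this
    · rw [if_neg q.1.2, q.2.2]
  · rw [cnt]
    refine Nat.card_congr
      { toFun := fun q => ⟨q.1.2, ?_⟩
        invFun := fun v => ⟨(1, v.1), ?_⟩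
        left_inv := fun q => ?_
        right_inv := fun v => rfl }
    · have := q.2
      split_ifs at this with e
      · rwa [one_mul] at this
      · exact absurd (Dvd.intro _ this) hd
    · rw [if_pos (by simp), one_mul]; exact v.2
    · refine Subtype.ext (Prod.ext (Subtype.ext ?_) rfl)
      by_contra e
      have := q.2
      rw [if_neg fun e' => e e'.symm] at this
      exact hd (Dvd.intro _ this)

/-- The elements of a group of order six without an element of order six. -/
theorem cnt_six (hM : Nat.card M = 6) (hc : ¬ IsCyclic M) :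
    cnt M 2 = 3 ∧ cnt M 3 = 2 ∧ ∀ n, n ≠ 1 → n ≠ 2 → n ≠ 3 → cnt M n = 0 := by
  classical
  have : Fintype M := Fintype.ofFinite M
  have : Fact (Nat.Prime 3) := ⟨Nat.prime_three⟩
  have hord : ∀ g : M, orderOf g = 1 ∨ orderOf g = 2 ∨ orderOf g = 3 := fun g => by
    have hd : orderOf g ∣ 6 := hM ▸ orderOf_dvd_natCard g
    have h6 : orderOf g ≠ 6 := fun e => hc (isCyclic_of_orderOf_eq_card g (e.trans hM.symm))
    have hle := Nat.le_of_dvd (by norm_num) hd
    interval_cases orderOf g <;> omega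
  have h3 : cnt M 3 = 2 := by
    obtain ⟨Q⟩ : Nonempty (Sylow 3 M) := inferInstance
    have hQ : Nat.card (Q : Subgroup M) = 3 := by
      rw [Q.card_eq_multiplicity, hM, show (6 : ℕ) = 3 * 2 from rfl,
        Nat.factorization_mul (by norm_num) (by norm_num), Finsupp.add_apply,
        Nat.prime_three.factorization_self,
        Nat.factorization_eq_zero_of_not_dvd (by norm_num : ¬ 3 ∣ 2), add_zero, pow_one]
    obtain ⟨h1, h2⟩ := Order95040.sylow_count Q
    have hN : 3 ∣ Nat.card (Subgroup.normalizer ((Q : Subgroup M) : Set M)) :=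
      (dvd_of_eq hQ.symm).trans (Subgroup.card_dvd_of_le Subgroup.le_normalizer)
    rw [cnt, CfsgLib.Perm.card_orderOf_eq_prime Q hQ]
    obtain ⟨j, hj⟩ := hN
    rw [hj, hM] at h2
    have : Nat.card (Sylow 3 M) ∣ 2 := ⟨j, by linarith⟩
    have := Nat.le_of_dvd (by norm_num) this
    omega
  have hsum : cnt M 1 + cnt M 2 + cnt M 3 = 6 := by
    have := Finset.card_eq_sum_card_fiberwise (s := (Finset.univ : Finset M)) (f := orderOf)
      (t := ({1, 2, 3} : Finset ℕ)) fun g _ => by
        simp only [Finset.coe_insert, Finset.coe_singleton, Set.mem_insert_iff, Set.mem_singleton_iff]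
        exact hord g
    rw [Finset.card_univ, ← Nat.card_eq_fintype_card, hM] at this
    rw [Finset.sum_insert (by decide), Finset.sum_insert (by decide), Finset.sum_singleton]
      at this
    simp only [cnt, Nat.card_eq_fintype_card, Fintype.card_subtype]
    omega
  refine ⟨by rw [cnt_one_eq] at hsum; omega, h3, fun n h1 h2 h3' => ?_⟩
  rw [cnt, Nat.card_eq_zero]
  exact Or.inl ⟨fun a => by rcases hord a.1 with e | e | e <;> rw [a.2] at e <;> omega⟩

/-- If `g` acts on `x` by squaring and the first `m` powers of two differ modulo the order of `x`,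
the normalizer has at least `m` cosets of the centralizer. -/
theorem mul_card_centralizer_le {x g : M} {q m : ℕ} (hx : orderOf x = q)
    (hg : g * x * g⁻¹ = x ^ 2) (hdist : ∀ i < m, ∀ j < m, 2 ^ i % q = 2 ^ j % q → i = j) :
    m * Nat.card (Subgroup.centralizer ({x} : Set M)) ≤
      Nat.card (Subgroup.normalizer (Subgroup.zpowers x : Set M)) := by
  set C := Subgroup.centralizer ({x} : Set M) with hC
  set N := Subgroup.normalizer (Subgroup.zpowers x : Set M) with hN
  have hpow : ∀ j : ℕ, g ^ j * x * (g ^ j)⁻¹ = x ^ 2 ^ j := fun j => by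
    induction j with
    | zero => simp
    | succ j ih =>
      calc g ^ (j + 1) * x * (g ^ (j + 1))⁻¹ = g * (g ^ j * x * (g ^ j)⁻¹) * g⁻¹ := by
            rw [pow_succ']; group
        _ = (g * x * g⁻¹) ^ 2 ^ j := by rw [ih, conj_pow]
        _ = x ^ 2 ^ (j + 1) := by rw [hg, ← pow_mul, pow_succ']
  have hmemN : ∀ a : M, ∀ k : ℕ, a * x * a⁻¹ = x ^ k → a ∈ N := fun a k e => by
    have hmap : (Subgroup.zpowers x).map (MulAut.conj a).toMonoidHom = Subgroup.zpowers x := by
      refine Subgroup.eq_of_le_of_card_ge ?_ (le_of_eq (Nat.card_congr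
        (Subgroup.equivMapOfInjective _ _ (MulAut.conj a).injective).toEquiv))
      rw [MonoidHom.map_zpowers, Subgroup.zpowers_le]
      show a * x * a⁻¹ ∈ _
      rw [e]
      exact Subgroup.npow_mem_zpowers _ _
    refine Subgroup.mem_normalizer_iff.2 fun w => ⟨fun hw => ?_, fun hw => ?_⟩
    · rw [← hmap]; exact ⟨w, hw, rfl⟩
    · rw [← hmap] at hw
      obtain ⟨w', hw', e'⟩ := hw
      rwa [show w = w' from (mul_left_cancel (mul_right_cancel e')).symm]
  have hcx : ∀ c : C, (c : M) * x * (c : M)⁻¹ = x := fun c => by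
    rw [Subgroup.mem_centralizer_singleton_iff.1 c.2, mul_inv_cancel_right]
  let f : Fin m × C → N := fun a => ⟨g ^ (a.1 : ℕ) * (a.2 : M), hmemN _ (2 ^ (a.1 : ℕ)) (by
    rw [← hpow a.1]
    calc g ^ (a.1 : ℕ) * (a.2 : M) * x * (g ^ (a.1 : ℕ) * (a.2 : M))⁻¹
        = g ^ (a.1 : ℕ) * ((a.2 : M) * x * (a.2 : M)⁻¹) * (g ^ (a.1 : ℕ))⁻¹ := by group
      _ = _ := by rw [hcx])⟩
  have hf : Function.Injective f := fun a b e => by
    have e' : g ^ (a.1 : ℕ) * (a.2 : M) = g ^ (b.1 : ℕ) * (b.2 : M) := congrArg Subtype.val e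
    have h2 : x ^ 2 ^ (a.1 : ℕ) = x ^ 2 ^ (b.1 : ℕ) := by
      rw [← hpow a.1, ← hpow b.1]
      calc g ^ (a.1 : ℕ) * x * (g ^ (a.1 : ℕ))⁻¹
          = g ^ (a.1 : ℕ) * ((a.2 : M) * x * (a.2 : M)⁻¹) * (g ^ (a.1 : ℕ))⁻¹ := by rw [hcx]
        _ = g ^ (a.1 : ℕ) * (a.2 : M) * x * (g ^ (a.1 : ℕ) * (a.2 : M))⁻¹ := by group
        _ = g ^ (b.1 : ℕ) * (b.2 : M) * x * (g ^ (b.1 : ℕ) * (b.2 : M))⁻¹ := by rw [e']
        _ = g ^ (b.1 : ℕ) * ((b.2 : M) * x * (b.2 : M)⁻¹) * (g ^ (b.1 : ℕ))⁻¹ := by group
        _ = _ := by rw [hcx]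
    rw [pow_eq_pow_iff_modEq, hx] at h2
    have hij := Fin.ext (hdist _ a.1.2 _ b.1.2 h2)
    rw [hij] at e'
    exact Prod.ext hij (Subtype.ext (mul_left_cancel e'))
  have := Nat.card_le_card_of_injective f hf
  rwa [Nat.card_prod, Nat.card_eq_fintype_card, Fintype.card_fin] at this

end CfsgLib.Blocks.Order244823040
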