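import Cfsg.Agent.Lib.Blocks.Order244823040.CountsGeneral
import Cfsg.Agent.Lib.Sporadic.MathieuDefectZero
import Cfsg.Agent.Lib.Sporadic.ProjectiveTwentyThree

/-!
# The numbers of elements of the various orders of the Mathieu group, modulo 23, 11 and 7

The normalizers of the subgroups of these orders have orders 253, 110 and 126.
-/

set_option autoImplicit false
set_option maxRecDepth 20000

namespace CfsgLib.Blocks.Order244823040

open Cfsg CfsgLib CfsgLib.Blocks.PrimeSylow CfsgLib.Sporadic

section General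

variable {M : Type*} [Group M] [Finite M] {p : ℕ}

/-- The setup at an element of prime order. -/
theorem exists_setup_zpowers [hp : Fact p.Prime] (hp2 : ¬ p ^ 2 ∣ Nat.card M) {x : M}
    (hx : orderOf x = p) :
    ∃ V : Subgroup M, Setup p (Subgroup.zpowers x) V ∧
      Nat.card (Subgroup.centralizer ({x} : Set M)) = p * Nat.card V := by
  have := Fintype.ofFinite M
  have hc : Nat.card (Subgroup.zpowers x) = p := by rw [Nat.card_zpowers, hx]
  obtain ⟨V, hV⟩ := exists_setup hc (fun hd => hp2 (by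
    rw [← (Subgroup.zpowers x).card_mul_index, hc, sq]
    exact Nat.mul_dvd_mul_left p hd))
  refine ⟨V, hV, ?_⟩
  rw [hV.centralizer_singleton (Subgroup.mem_zpowers x)
    (fun e => hp.out.ne_one (by rw [← hx, e, orderOf_one])), hV.card_centralizer]

/-- The numbers in the centralizer of a self-centralizing element. -/
theorem cnt_mod_of_self [hp : Fact p.Prime] (hp2 : ¬ p ^ 2 ∣ Nat.card M) {x : M}
    (hx : orderOf x = p) (hC : Nat.card (Subgroup.centralizer ({x} : Set M)) = p) (n : ℕ) :
    cnt M n % p = if n = 1 then 1 else if n = p then p - 1 else 0 := by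
  obtain ⟨V, hV, hCV⟩ := exists_setup_zpowers hp2 hx
  have hx1 : x ≠ 1 := fun e => hp.out.ne_one (by rw [← hx, e, orderOf_one])
  have hV1 : Nat.card V = 1 :=
    Nat.eq_of_mul_eq_mul_left hp.out.pos (by rw [mul_one, ← hCV, hC])
  rw [cnt_mod hx, cnt_centralizer hV (Subgroup.mem_zpowers x) hx1, cnt_of_card_eq_one hV1,
    cnt_of_card_eq_one hV1]
  have h2 := hp.out.two_le
  by_cases hd : p ∣ n
  · obtain ⟨m, rfl⟩ := hd
    rw [if_pos (dvd_mul_right p m), Nat.mul_div_cancel_left _ hp.out.pos,
      if_neg (fun e => hp.out.ne_one (Nat.eq_one_of_mul_eq_one_right e))]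
    by_cases hm : m = 1
    · rw [if_pos hm, if_pos (by rw [hm, mul_one]), mul_one, Nat.mod_eq_of_lt (by omega)]
    · rw [if_neg hm, if_neg (fun e => hm (Nat.eq_of_mul_eq_mul_left hp.out.pos
        (e.trans (mul_one p).symm))), mul_zero, Nat.zero_mod]
  · rw [if_neg hd]
    by_cases hn : n = 1
    · rw [if_pos hn, if_pos hn, Nat.one_mod_eq_one.2 hp.out.ne_one]
    · rw [if_neg hn, if_neg hn, if_neg (fun e => hd (dvd_of_eq e.symm)), Nat.zero_mod]

/-- The number of elements of prime order, from the normalizer. -/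
theorem cnt_prime_mul [hp : Fact p.Prime] (hp2 : ¬ p ^ 2 ∣ Nat.card M) {x : M}
    (hx : orderOf x = p) :
    cnt M p * Nat.card (Subgroup.normalizer (Subgroup.zpowers x : Set M)) =
      (p - 1) * Nat.card M := by
  have := Fintype.ofFinite M
  obtain ⟨Q, hQ⟩ := (IsPGroup.of_card (n := 1) (by rw [Nat.card_zpowers, hx, pow_one]) :
    IsPGroup p (Subgroup.zpowers x)).exists_le_sylow
  have hQc : Nat.card (Q : Subgroup M) = p := by
    have h1 : (Nat.card M).factorization p = 1 := by
      refine le_antisymm ?_ (hp.out.factorization_pos_of_dvd Nat.card_pos.ne'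
        (hx ▸ orderOf_dvd_natCard x))
      by_contra hc
      exact hp2 ((pow_dvd_pow p (not_le.1 hc)).trans (Nat.ordProj_dvd _ p))
    rw [Q.card_eq_multiplicity, h1, pow_one]
  have hQe : (Q : Subgroup M) = Subgroup.zpowers x :=
    (Subgroup.eq_of_le_of_card_ge hQ (by rw [hQc, Nat.card_zpowers, hx])).symm
  have h := (Order95040.sylow_count Q).2
  rw [hQe] at h
  rw [cnt, CfsgLib.Perm.card_orderOf_eq_prime Q hQc, mul_assoc, h]

end General

theorem M24_card' : Nat.card ↥M24 = 244823040 := M24_card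

/-- Residues modulo 23. -/
theorem mathieu_mod23 (n : ℕ) :
    (cnt ↥M24 n % 23 = if n = 1 then 1 else if n = 23 then 22 else 0) ∧
      cnt ↥M24 23 = 21288960 := by
  have := Fact.mk (show Nat.Prime 23 by norm_num)
  have hp2 : ¬ 23 ^ 2 ∣ Nat.card ↥M24 := by rw [M24_card']; norm_num
  obtain ⟨x, hx, hc, hN⟩ := exists_x23
  obtain ⟨g, hg⟩ := isConj_iff.1 hc
  have hle := mul_card_centralizer_le (m := 11) hx hg (by decide +kernel)
  obtain ⟨V, hV, hCV⟩ := exists_setup_zpowers hp2 hx
  have hV0 : 0 < Nat.card V := Nat.card_pos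
  have hC : Nat.card (Subgroup.centralizer ({x} : Set ↥M24)) = 23 := by omega
  refine ⟨cnt_mod_of_self hp2 hx hC n, ?_⟩
  have h := cnt_prime_mul hp2 hx
  rw [M24_card', show Nat.card (Subgroup.normalizer (Subgroup.zpowers x : Set ↥M24)) = 253 by omega]
    at h
  omega

/-- Residues modulo 11. -/
theorem mathieu_mod11 (n : ℕ) :
    (cnt ↥M24 n % 11 = if n = 1 then 1 else if n = 11 then 10 else 0) ∧
      cnt ↥M24 11 = 22256640 := by
  have := Fact.mk (show Nat.Prime 11 by norm_num)
  have hp2 : ¬ 11 ^ 2 ∣ Nat.card ↥M24 := by rw [M24_card']; norm_num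
  obtain ⟨x, hx, hc, hN⟩ := exists_x11
  obtain ⟨g, hg⟩ := isConj_iff.1 hc
  have hle := mul_card_centralizer_le (m := 10) hx hg (by decide +kernel)
  obtain ⟨V, hV, hCV⟩ := exists_setup_zpowers hp2 hx
  have hV0 : 0 < Nat.card V := Nat.card_pos
  have hC : Nat.card (Subgroup.centralizer ({x} : Set ↥M24)) = 11 := by omega
  refine ⟨cnt_mod_of_self hp2 hx hC n, ?_⟩
  have h := cnt_prime_mul hp2 hx
  rw [M24_card', show Nat.card (Subgroup.normalizer (Subgroup.zpowers x : Set ↥M24)) = 110 by omega]
    at h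
  omega

/-- The element of order 7 with the two elements of its centralizer that do not commute. -/
theorem exists_seven : ∃ x t v g : ↥M24, orderOf x = 7 ∧ g * x * g⁻¹ = x ^ 2 ∧
    Commute t x ∧ Commute v x ∧ orderOf t = 2 ∧ orderOf v = 3 ∧ ¬ Commute t v := by
  classical
  obtain ⟨x, hx⟩ := exists_M24_elt (p := 832539180890522160093402719119966506) (by decide +kernel)
  obtain ⟨g, hg⟩ := exists_M24_elt (p := 469544896210215200763068718201812352) (by decide +kernel)
  obtain ⟨t, ht⟩ := exists_M24_elt (p := 62887575111239546263559934964861664) (by decide +kernel)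
  obtain ⟨v, hv⟩ := exists_M24_elt (p := 187469779159459094694696770587538147) (by decide +kernel)
  have key : ∀ (u : ↥M24) (p q : ℕ) [Fact q.Prime], Rep (u : Equiv.Perm GolayPt) p →
      (Nat.beq (ppow p q) pone && ! Nat.beq (movedCount p) 0) = true → orderOf u = q := by
    intro u p q _ hu h
    simp only [Bool.and_eq_true, Bool.not_eq_true'] at h
    refine orderOf_eq_prime (pow_eq_one_of_ppow hu h.1) fun e => ?_
    have h2 := h.2
    rw [Bool.eq_false_iff, ne_eq, Nat.beq_eq] at h2
    refine h2 ?_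
    rw [← card_moved hu, Finset.card_eq_zero, Finset.filter_eq_empty_iff]
    intro y _
    rw [e]
    simp
  have comm : ∀ (a b : ↥M24) (p q : ℕ), Rep (a : Equiv.Perm GolayPt) p →
      Rep (b : Equiv.Perm GolayPt) q → Nat.beq (pmul p q) (pmul q p) = true → Commute a b := by
    intro a b p q ha hb h
    exact Subtype.ext ((Nat.eq_of_beq_eq_true h ▸ ha.mul hb).unique (hb.mul ha))
  have := Fact.mk (show Nat.Prime 7 by norm_num)
  have := Fact.mk Nat.prime_two
  have := Fact.mk Nat.prime_three
  refine ⟨x, t, v, g, key x _ 7 hx (by decide +kernel), conj_of_pmul hg hx (by decide +kernel),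
    comm t x _ _ ht hx (by decide +kernel), comm v x _ _ hv hx (by decide +kernel),
    key t _ 2 ht (by decide +kernel), key v _ 3 hv (by decide +kernel), fun hc => ?_⟩
  have e1 : ((t * v : ↥M24) : Equiv.Perm GolayPt) = ((v * t : ↥M24) : Equiv.Perm GolayPt) :=
    congrArg Subtype.val hc.eq
  simp only [Subgroup.coe_mul] at e1
  have e2 := pmul_packImage ht hv
  rw [e1, ← pmul_packImage hv ht] at e2
  revert e2
  decide +kernel

/-- Residues modulo 7. -/
theorem mathieu_mod7 (n : ℕ) :
    (cnt ↥M24 n % 7 = if n = 1 then 1 else if n = 2 then 3 else if n = 3 then 2 else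
      if n = 7 then 6 else if n = 14 then 4 else if n = 21 then 5 else 0) ∧
      cnt ↥M24 7 = 11658240 := by
  have := Fact.mk (show Nat.Prime 7 by norm_num)
  have hp2 : ¬ 7 ^ 2 ∣ Nat.card ↥M24 := by rw [M24_card']; norm_num
  obtain ⟨x, t, v, g, hx, hg, htx, hvx, ht, hv, htv⟩ := exists_seven
  have hle := mul_card_centralizer_le (m := 3) hx hg (by decide +kernel)
  obtain ⟨y, hy, -, hNy, -⟩ := exists_x7
  have hN : Nat.card (Subgroup.normalizer (Subgroup.zpowers x : Set ↥M24)) ≤ 126 := by
    rw [ProjTT.card_normalizer_eq hp2 hx hy]; exact hNy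
  obtain ⟨V, hV, hCV⟩ := exists_setup_zpowers hp2 hx
  have hx1 : x ≠ 1 := fun e => by simp [e] at hx
  have hmem : ∀ u : ↥M24, Commute u x → ¬ 7 ∣ orderOf u → u ∈ V := fun u hu h7 => by
    refine (hV.mem_V u).2 ⟨?_, h7⟩
    rw [← hV.centralizer_singleton (Subgroup.mem_zpowers x) hx1]
    exact Subgroup.mem_centralizer_singleton_iff.2 hu
  have htV := hmem t htx (by rw [ht]; norm_num)
  have hvV := hmem v hvx (by rw [hv]; norm_num)
  have h2 : 2 ∣ Nat.card V := ht ▸ Subgroup.orderOf_dvd_natCard V htV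
  have h3 : 3 ∣ Nat.card V := hv ▸ Subgroup.orderOf_dvd_natCard V hvV
  have hV0 : 0 < Nat.card V := Nat.card_pos
  have hV6 : Nat.card V = 6 := by omega
  have hnc : ¬ IsCyclic V := fun hc => htv
    (congrArg Subtype.val ((IsCyclic.isMulCommutative (α := V)).is_comm.comm ⟨t, htV⟩ ⟨v, hvV⟩))
  obtain ⟨c2, c3, c0⟩ := cnt_six hV6 hnc
  refine ⟨?_, ?_⟩
  · rw [cnt_mod hx, cnt_centralizer hV (Subgroup.mem_zpowers x) hx1]
    have hval : ∀ m, cnt V m = if m = 1 then 1 else if m = 2 then 3 else if m = 3 then 2 else 0 :=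
      fun m => by
        split_ifs with h1 h2 h3
        · rw [h1]; exact cnt_one_eq
        · rw [h2]; exact c2
        · rw [h3]; exact c3
        · exact c0 m h1 h2 h3
    rw [hval, hval]
    by_cases hd : 7 ∣ n
    · obtain ⟨m, rfl⟩ := hd
      rw [if_pos (dvd_mul_right 7 m), Nat.mul_div_cancel_left _ (by norm_num : 0 < 7)]
      split_ifs <;> omega
    · rw [if_neg hd]
      split_ifs <;> omega
  · have h := cnt_prime_mul hp2 hx
    rw [M24_card', show Nat.card (Subgroup.normalizer (Subgroup.zpowers x : Set ↥M24)) = 126 by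
      omega] at h
    omega

end CfsgLib.Blocks.Order244823040
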