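import Cfsg.Agent.Lib.Blocks.Order244823040.EndgameData
import Cfsg.Agent.Lib.Sporadic.MathieuPrimeElements

/-!
# A simple group of order 244823040 with a subgroup of index 24 is the largest Mathieu group

On the 24 cosets an element of order 23 becomes `x ↦ x + 1`; its normalizer supplies `x ↦ 2 x`,
and the normalizer of that supplies the cube twist (or its mirror image) and `x ↦ -1/x`.
-/

set_option autoImplicit false
set_option maxRecDepth 10000

namespace CfsgLib.Blocks.Order244823040

open Cfsg CfsgLib.Sporadic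
open scoped Pointwise

/-- The shift. -/
abbrev sh : Equiv.Perm GolayPt := Equiv.optionCongr (Equiv.addRight (1 : ZMod 23))

/-- Multiplication by 2. -/
def two : Equiv.Perm GolayPt :=
  Equiv.optionCongr (Units.mulLeft (ZMod.unitOfCoprime 2 (by norm_num) : (ZMod 23)ˣ))

/-- Negation. -/
def neg : Equiv.Perm GolayPt :=
  Equiv.optionCongr (Units.mulLeft (ZMod.unitOfCoprime 22 (by norm_num) : (ZMod 23)ˣ))

theorem rep_of_pack {σ : Equiv.Perm GolayPt} {p : ℕ} (h : packImage σ = p) : Rep σ p :=
  h ▸ rep_packImage σ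

theorem rep_sh : Rep sh pShift := rep_of_pack (by decide +kernel)
theorem rep_two : Rep two pTwo := rep_of_pack (by decide +kernel)
theorem rep_neg : Rep neg pNeg := rep_of_pack (by decide +kernel)
theorem rep_projInv : Rep projInv pInv := rep_of_pack (by decide +kernel)

theorem rep_cubeTwist : Rep cubeTwist pTwist := by
  have e : packOf cubeTwist = pTwist := by rw [packOf_cubeTwist]; decide +kernel
  exact e ▸ rep_packOf _

theorem rep_ppow {σ : Equiv.Perm GolayPt} {p : ℕ} (h : Rep σ p) :
    ∀ n : ℕ, Rep (σ ^ n) (ppow p n) := by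
  intro n
  induction n with
  | zero => rw [pow_zero]; exact Rep.one
  | succ n ih => rw [pow_succ']; exact h.mul ih

theorem iter_eq {σ : Equiv.Perm GolayPt} {q : ℕ} (h : Rep σ q) (x : GolayPt) :
    ∀ n : ℕ, iter q (ix x) n = ix ((σ ^ n) x) := by
  intro n
  induction n with
  | zero => rfl
  | succ n ih =>
    show pget q (iter q (ix x) n) = _
    rw [ih, h, pow_succ']
    rfl

theorem fullP_packImage (σ : Equiv.Perm GolayPt) : fullP (packImage σ) = true := by
  have h := rep_packImage σ
  rw [fullP, Nat.beq_eq]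
  refine setOfMask_inj (mimg_lt h _) (by norm_num) ?_
  rw [setOfMask_mimg h, ← maskOf_univ, setOfMask_maskOf, Finset.image_univ_of_surjective σ.surjective]

theorem ppow_packImage {σ : Equiv.Perm GolayPt} {n : ℕ} (hn : σ ^ n = 1) :
    ppow (packImage σ) n = pone := by
  cases n with
  | zero => rfl
  | succ n =>
    show pmul (packImage σ) (ppow (packImage σ) n) = pone
    rw [pmul_packImage (rep_packImage σ) (rep_ppow (rep_packImage σ) n), ← pow_succ', hn,
      packImage_one]

/-- The facts about a permutation group of the right order containing the shift. -/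
structure Acting (H : Subgroup (Equiv.Perm GolayPt)) : Prop where
  card : Nat.card H = 244823040
  even : ∀ g ∈ H, Equiv.Perm.sign g = 1
  shift_mem : sh ∈ H

theorem Acting.pow_card {H : Subgroup (Equiv.Perm GolayPt)} (hA : Acting H)
    {g : Equiv.Perm GolayPt} (hg : g ∈ H) : g ^ 244823040 = 1 := by
  have h := congrArg Subtype.val (pow_card_eq_one' (x := (⟨g, hg⟩ : H)))
  rw [hA.card] at h
  simpa using h

theorem false_of_badCycle {H : Subgroup (Equiv.Perm GolayPt)} (hA : Acting H)
    {g : Equiv.Perm GolayPt} (hg : g ∈ H) {q x L : ℕ} (hr : Rep g q)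
    (h : badCycle q x L = true) : False := by
  rw [badCycle] at h
  simp only [Bool.and_eq_true, Bool.or_eq_true, Nat.beq_eq, Nat.blt_eq, Bool.not_eq_true'] at h
  obtain ⟨⟨⟨hL, hx⟩, h1⟩, h2⟩ := h
  rw [← ix_pt hx, iter_eq hr] at h1
  have hcop : Nat.gcd L 244823040 = 1 := by rcases hL with ((rfl | rfl) | rfl) <;> norm_num
  have hp1 : Function.IsPeriodicPt (⇑g) L (pt x) := by
    show (⇑g)^[L] (pt x) = pt x
    rw [← Equiv.Perm.coe_pow]
    exact ix_injective h1
  have hp2 : Function.IsPeriodicPt (⇑g) 244823040 (pt x) := by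
    show (⇑g)^[244823040] (pt x) = pt x
    rw [← Equiv.Perm.coe_pow, hA.pow_card hg]
    rfl
  have h3 := hp1.gcd hp2
  rw [hcop] at h3
  have h4 : g (pt x) = pt x := h3
  have h5 := hr (pt x)
  rw [h4, ix_pt hx] at h5
  rw [h5] at h2
  simp at h2

theorem wordP_rep {H : Subgroup (Equiv.Perm GolayPt)} (hA : Acting H)
    {g : Equiv.Perm GolayPt} (hg : g ∈ H) {p : ℕ} (hr : Rep g p) :
    ∀ w : List ℕ, ∃ x ∈ H, Rep x (wordP p w) := by
  intro w
  induction w with
  | nil => exact ⟨1, one_mem _, Rep.one⟩
  | cons a w ih =>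
    obtain ⟨x, hx, hxr⟩ := ih
    exact ⟨g * sh ^ a * x, mul_mem (mul_mem hg (pow_mem hA.shift_mem a)) hx,
      (hr.mul (rep_ppow rep_sh a)).mul hxr⟩

theorem shift_conj_cases : ∀ k : ZMod 23, k ≠ 0 → k ≠ 1 →
    (∃ m : Fin 12, ∀ x : ZMod 23, k ^ (m : ℕ) * x = 2 * x) ∨
      (∃ m : Fin 23, ∀ x : ZMod 23, k ^ (m : ℕ) * x = 22 * x) := by
  decide +kernel

theorem sign_neg : Equiv.Perm.sign neg = -1 := by decide +kernel

/-- The normalizer of the shift supplies the doubling map. -/
theorem two_mem {H : Subgroup (Equiv.Perm GolayPt)} (hA : Acting H) : two ∈ H := by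
  classical
  haveI : Fact (Nat.Prime 23) := ⟨by norm_num⟩
  let z : H := ⟨sh, hA.shift_mem⟩
  have hz : orderOf z = 23 := by
    rw [Subgroup.orderOf_mk]
    exact orderOf_eq_prime (by decide +kernel) (by decide +kernel)
  obtain ⟨c, k, n, -, -, -, hn, hN, hG⟩ := exists_normalizer_factors hz
    (by rw [hA.card]; norm_num) (le_refl _)
  have hex : ∃ g ∈ Subgroup.normalizer (Subgroup.zpowers z : Set H), g ∉ Subgroup.zpowers z := by
    by_contra hh
    push_neg at hh
    have hle : Nat.card (Subgroup.normalizer (Subgroup.zpowers z : Set H)) ≤ 23 := by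
      refine (Subgroup.card_le_of_le hh).trans ?_
      rw [Nat.card_zpowers, hz]
    rw [hN] at hle
    rw [hA.card] at hG
    rcases Nat.eq_zero_or_pos (c * k) with h0 | h0
    · have : c * 23 * k = 0 := by rw [mul_right_comm, h0]; simp
      rw [this] at hG
      simp at hG
    · have h1 : c * k = 1 := by
        have : c * k * 23 ≤ 23 := by rw [← mul_right_comm]; exact hle
        omega
      have : 23 * n = 244823040 := by
        rw [hG, mul_right_comm c 23 k, h1, one_mul]
      omega
  obtain ⟨g, hgN, hgz⟩ := hex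
  have hmem := (Subgroup.mem_normalizer_iff.1 hgN z).1 (Subgroup.mem_zpowers z)
  obtain ⟨i, hi⟩ := mem_zpowers_iff_mem_range_orderOf.1 hmem |> Finset.mem_image.1 |> fun h => h
  have hi' : (g : Equiv.Perm GolayPt) * sh = sh ^ i * (g : Equiv.Perm GolayPt) := by
    have := congrArg (fun y : H => (y : Equiv.Perm GolayPt) * (g : Equiv.Perm GolayPt)) hi.2
    simpa [z, mul_assoc] using this.symm
  set σ := (g : Equiv.Perm GolayPt) with hσ
  have shp : ∀ (m : ℕ) (p : GolayPt), (sh ^ m) p = p.map (fun x => x + (m : ZMod 23)) := by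
    intro m
    induction m with
    | zero => intro p; cases p <;> simp
    | succ m ih =>
      intro p
      rw [pow_succ', Equiv.Perm.mul_apply, ih]
      cases p <;> simp [add_assoc, add_comm]
  have happ : ∀ p : GolayPt, σ (sh p) = (σ p).map (fun x => x + (i : ZMod 23)) := by
    intro p
    have := congrArg (fun f : Equiv.Perm GolayPt => f p) hi'
    simpa [shp] using this
  have hi23 : i < 23 := by simpa [hz] using hi.1
  have hi0 : (i : ZMod 23) ≠ 0 := by
    intro h0
    rw [CharP.cast_eq_zero_iff (ZMod 23) 23] at h0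
    obtain rfl : i = 0 := Nat.eq_zero_of_dvd_of_lt h0 hi23
    rw [pow_zero, one_mul] at hi'
    have h9 : sh = (1 : Equiv.Perm GolayPt) := mul_left_cancel (a := σ) (by rw [hi', mul_one])
    exact absurd h9 (by decide +kernel)
  have hnone : σ none = none := by
    have h9 := happ none
    rcases hp : σ none with _ | y
    · rfl
    · rw [show sh none = none from rfl, hp] at h9
      simp only [Option.map_some, Option.some.injEq, left_eq_add] at h9
      exact absurd h9 hi0
  obtain ⟨y0, hy0⟩ : ∃ y, σ (some 0) = some y := by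
    rcases hp : σ (some 0) with _ | y
    · exact absurd (σ.injective (hp.trans hnone.symm)) (by simp)
    · exact ⟨y, rfl⟩
  have hsome : ∀ m : ℕ, σ (some (m : ZMod 23)) = some (y0 + (i : ZMod 23) * (m : ZMod 23)) := by
    intro m
    induction m with
    | zero => simpa using hy0
    | succ m ih =>
      have e : sh (some (m : ZMod 23)) = some ((m + 1 : ℕ) : ZMod 23) := by simp
      rw [← e, happ, ih]
      simp [mul_add, add_assoc]
  -- the multiplication by `i`
  let τ : Equiv.Perm GolayPt := (sh ^ y0.val)⁻¹ * σ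
  have hτ : τ ∈ H := mul_mem (inv_mem (pow_mem hA.shift_mem _)) g.2
  have hτe : ∀ p, τ p = p.map fun x => (i : ZMod 23) * x := by
    intro p
    show (sh ^ y0.val)⁻¹ (σ p) = _
    rw [Equiv.Perm.inv_eq_iff_eq, shp]
    rcases p with _ | x
    · simp [hnone]
    · have := hsome x.val
      rw [ZMod.natCast_zmod_val] at this
      rw [this]
      simp [add_comm]
  have hτn : ∀ (m : ℕ) (p : GolayPt), (τ ^ m) p = p.map fun x => (i : ZMod 23) ^ m * x := by
    intro m
    induction m with
    | zero => intro p; cases p <;> simp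
    | succ m ih =>
      intro p
      rw [pow_succ', Equiv.Perm.mul_apply, ih, hτe]
      cases p <;> simp [pow_succ', mul_assoc]
  have hi1 : (i : ZMod 23) ≠ 1 := by
    intro h1
    apply hgz
    have h2 : τ = 1 := Equiv.ext fun p => by rw [hτe]; cases p <;> simp [h1]
    have h3 : σ = sh ^ y0.val := by
      have := congrArg (fun f => sh ^ y0.val * f) h2
      simpa [τ] using this
    have : g = z ^ y0.val := Subtype.ext (by simpa [z] using h3)
    rw [this]
    exact Subgroup.npow_mem_zpowers _ _
  rcases shift_conj_cases _ hi0 hi1 with ⟨m, hm⟩ | ⟨m, hm⟩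
  · have : two = τ ^ (m : ℕ) := Equiv.ext fun p => by
      rw [hτn]; cases p <;> simp [two, hm]
    rw [this]
    exact pow_mem hτ _
  · have : neg = τ ^ (m : ℕ) := Equiv.ext fun p => by
      rw [hτn]; cases p <;> simp [neg, hm]
    have h1 := hA.even _ (pow_mem hτ (m : ℕ))
    rw [← this, sign_neg] at h1
    exact absurd h1 (by decide)

theorem two_orbits : ∀ i < 24, i = 23 ∨ i = 0 ∨
    (i ^ 11 % 23 = 1 ∧ i = 2 ^ logTwo i % 23) ∨
    (i ^ 11 % 23 ≠ 1 ∧ i ≠ 0 ∧ i = 22 * 2 ^ logTwo i % 23) := by
  decide +kernel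

/-- A permutation normalizing the doubling map has the packed form of the parameters. -/
theorem packImage_of_norm {σ : Equiv.Perm GolayPt} {k : ℕ}
    (h : σ * two = two ^ k * σ) (hk : two ^ k ≠ 1) :
    ∃ s < 2, ∃ c < 22, ∃ d < 22, packImage σ = normP k s (c + 1) (d + 1) := by
  classical
  have tp : ∀ (m : ℕ) (p : GolayPt), (two ^ m) p = p.map (fun x => 2 ^ m * x) := by
    intro m
    induction m with
    | zero => intro p; cases p <;> simp
    | succ m ih =>
      intro p
      rw [pow_succ', Equiv.Perm.mul_apply, ih]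
      cases p <;> simp [two, pow_succ', mul_assoc]
  have hk11 : (2 : ZMod 23) ^ k ≠ 1 := by
    intro h1
    apply hk
    refine Equiv.ext fun p => ?_
    rw [tp]; cases p <;> simp [h1]
  have happ : ∀ p : GolayPt, σ (two p) = (σ p).map (fun x => 2 ^ k * x) := by
    intro p
    have := congrArg (fun f : Equiv.Perm GolayPt => f p) h
    simpa [tp] using this
  have fix : ∀ p : GolayPt, two p = p → σ p = none ∨ σ p = some 0 := by
    intro p hp
    have h1 := happ p
    rw [hp] at h1
    rcases hq : σ p with _ | y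
    · exact Or.inl rfl
    · rw [hq] at h1
      simp only [Option.map_some, Option.some.injEq] at h1
      right
      have h2 : ((2 : ZMod 23) ^ k - 1) * y = 0 := by rw [sub_mul, one_mul, ← h1, sub_self]
      haveI : Fact (Nat.Prime 23) := ⟨by norm_num⟩
      rcases mul_eq_zero.1 h2 with h3 | h3
      · exact absurd (sub_eq_zero.1 h3) hk11
      · rw [h3]
  have hnone := fix none rfl
  have hzero := fix (some 0) (by simp [two])
  have hne : σ none ≠ σ (some 0) := fun e => by simpa using σ.injective e
  have hother : ∀ x : ZMod 23, x ≠ 0 → ∃ y : ZMod 23, y ≠ 0 ∧ σ (some x) = some y := by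
    intro x hx
    have h1 : σ (some x) ≠ σ none := fun e => by simpa using σ.injective e
    have h2 : σ (some x) ≠ σ (some 0) := fun e => hx (by simpa using σ.injective e)
    rcases hq : σ (some x) with _ | y
    · rcases hnone with e | e <;> rcases hzero with e' | e'
      all_goals simp_all
    · refine ⟨y, fun h0 => ?_, rfl⟩
      subst h0
      rcases hnone with e | e <;> rcases hzero with e' | e'
      all_goals simp_all
  obtain ⟨c, hc, hc1⟩ := hother 1 (by decide)
  obtain ⟨d, hd, hd1⟩ := hother 22 (by decide)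
  have hpos : ∀ y : ZMod 23, y ≠ 0 → y.val - 1 < 22 ∧ y.val - 1 + 1 = y.val := by decide +kernel
  refine ⟨if σ none = none then 0 else 1, by split_ifs <;> omega, c.val - 1, (hpos c hc).1,
    d.val - 1, (hpos d hd).1, ?_⟩
  rw [(hpos c hc).2, (hpos d hd).2]
  symm
  refine packImage_congr (fun i => normF k (if σ none = none then 0 else 1) c.val d.val i) ?_
  intro i hi
  have iterate : ∀ (m : ℕ) (x y : ZMod 23), σ (some x) = some y →
      σ (some (2 ^ m * x)) = some (2 ^ (k * m) * y) := by
    intro m x y hxy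
    induction m with
    | zero => simpa using hxy
    | succ m ih =>
      have e : some ((2 : ZMod 23) ^ (m + 1) * x) = two (some (2 ^ m * x)) := by
        simp [two, pow_succ', mul_assoc]
      rw [e, happ, ih]
      simp [mul_add, pow_add, mul_assoc, mul_comm, mul_left_comm]
  have hval : ∀ (e : ℕ) (y : ZMod 23), ix (some ((2 : ZMod 23) ^ e * y)) =
      y.val * 2 ^ (e % 11) % 23 := by
    intro e y
    have h2 : (2 : ZMod 23) ^ e = ((2 ^ (e % 11) : ℕ) : ZMod 23) := by
      conv_lhs => rw [← Nat.div_add_mod e 11, pow_add, pow_mul]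
      rw [show (2 : ZMod 23) ^ 11 = 1 by decide, one_pow, one_mul]
      push_cast
      rfl
    show ((2 : ZMod 23) ^ e * y).val = _
    rw [h2, ← ZMod.natCast_zmod_val y, ← Nat.cast_mul, ZMod.val_natCast, ZMod.natCast_zmod_val,
      mul_comm]
  rcases two_orbits i hi with rfl | rfl | ⟨h1, h2⟩ | ⟨h1, hi0, h2⟩
  · rcases hnone with e | e
    · simp [normF, pt, e, ix]
    · simp [normF, pt, e, ix]
  · rcases hnone with e | e <;> rcases hzero with e' | e'
    all_goals simp_all [normF, pt, ix]
  · have hi23 : i < 23 := by rw [h2]; exact Nat.mod_lt _ (by norm_num)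
    have e0 : pt i = some ((2 : ZMod 23) ^ logTwo i * 1) := by
      rw [pt, if_pos hi23, mul_one]
      congr 1
      conv_lhs => rw [h2, ZMod.natCast_mod]
      push_cast
      rfl
    rw [e0, iterate _ 1 c hc1, hval]
    have e1 : Nat.beq i 23 = false := by
      rw [← Bool.not_eq_true, Nat.beq_eq]; omega
    have e2 : Nat.beq i 0 = false := by
      rw [← Bool.not_eq_true, Nat.beq_eq]; rintro rfl; simp at h1
    have e3 : isSq i = true := by rw [isSq, Nat.beq_eq]; exact h1
    simp [normF, e1, e2, e3]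
  · have hi23 : i < 23 := by rw [h2]; exact Nat.mod_lt _ (by norm_num)
    have e0 : pt i = some ((2 : ZMod 23) ^ logTwo i * 22) := by
      rw [pt, if_pos hi23]
      congr 1
      conv_lhs => rw [h2, ZMod.natCast_mod]
      push_cast
      rw [mul_comm]
    rw [e0, iterate _ 22 d hd1, hval]
    have e1 : Nat.beq i 23 = false := by
      rw [← Bool.not_eq_true, Nat.beq_eq]; omega
    have e2 : Nat.beq i 0 = false := by
      rw [← Bool.not_eq_true, Nat.beq_eq]; exact hi0
    have e3 : isSq i = false := by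
      rw [isSq, ← Bool.not_eq_true, Nat.beq_eq]; exact h1
    simp [normF, e1, e2, e3]

theorem centCheck : (forallLt 2 fun s => forallLt 22 fun c => forallLt 22 fun d =>
    let p := normP 1 s (c + 1) (d + 1)
    !fullP p || Nat.beq (ppow p 22) pone) = true := by decide +kernel

theorem no_centralizing_involution_rows :
    (vTab.all fun r => !Nat.beq r.1 1 || !Nat.beq r.2.2.2.2.2.2 0) = true := by decide +kernel

theorem two_pow : ∀ j : Fin 11, (two ^ (j : ℕ) = 1 → (j : ℕ) = 0) := by decide +kernel

theorem sameRow_fst {k s c d : ℕ} {r : Row} (h : sameRow k s c d r = true) : r.1 = k := by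
  simp only [sameRow, Bool.and_eq_true, Nat.beq_eq] at h
  exact h.1.1.1

/-- What an element of order five normalizing the doubling map gives. -/
theorem five_cases {H : Subgroup (Equiv.Perm GolayPt)} (hA : Acting H) (ht : two ∈ H)
    {σ : Equiv.Perm GolayPt} (hσ : σ ∈ H) (h : σ * two = two ^ 3 * σ) (h5 : σ ^ 5 = 1) :
    cubeTwist ∈ H ∨ neg * cubeTwist * neg ∈ H := by
  obtain ⟨s, hs, c, hc, d, hd, hp⟩ :=
    packImage_of_norm h (fun e => by simpa using two_pow 3 (by simpa using e))
  have h1 := fiveCheck_eq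
  rw [fiveCheck] at h1
  have h2 := forallLt_elim (forallLt_elim (forallLt_elim h1 hs) hc) hd
  dsimp only at h2
  rw [← hp] at h2
  rw [fullP_packImage, ppow_packImage h5] at h2
  simp only [Nat.beq_refl, Bool.and_self, Bool.not_true, Bool.false_or, List.any_eq_true,
    Bool.and_eq_true] at h2
  obtain ⟨⟨k', s', c', d', w, t, L⟩, -, -, h3⟩ := h2
  simp only [rowOK] at h3
  split_ifs at h3 with h4
  · rw [Nat.beq_eq, stdFive] at h3
    have e2 : two ^ 11 = 1 := by decide +kernel
    have back : ∀ (i j : ℕ) (x : Equiv.Perm GolayPt), two ^ i * x * two ^ j ∈ H → x ∈ H := by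
      intro i j x hx
      have : x = (two ^ i)⁻¹ * (two ^ i * x * two ^ j) * (two ^ j)⁻¹ := by group
      rw [this]
      exact mul_mem (mul_mem (inv_mem (pow_mem ht i)) hx) (inv_mem (pow_mem ht j))
    have hg := ((rep_ppow rep_two (w.getD 0 0)).mul rep_cubeTwist).mul (rep_ppow rep_two (w.getD 1 0))
    split_ifs at h3 with h5'
    · left
      have e : σ = two ^ w.getD 0 0 * cubeTwist * two ^ w.getD 1 0 :=
        (rep_packImage σ).unique (h3 ▸ hg)
      exact back _ _ _ (e ▸ hσ)
    · right
      have e : σ = neg * (two ^ w.getD 0 0 * cubeTwist * two ^ w.getD 1 0) * neg :=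
        (rep_packImage σ).unique (h3 ▸ (rep_neg.mul hg).mul rep_neg)
      have hnn : neg * neg = 1 := by decide +kernel
      have hcomm : Commute neg two := by show neg * two = two * neg; decide +kernel
      have e' : σ = two ^ w.getD 0 0 * (neg * cubeTwist * neg) * two ^ w.getD 1 0 := by
        rw [e]
        have a1 := (hcomm.pow_right (w.getD 0 0)).eq
        have a2 := (hcomm.pow_right (w.getD 1 0)).eq
        calc neg * (two ^ w.getD 0 0 * cubeTwist * two ^ w.getD 1 0) * neg
            = (neg * two ^ w.getD 0 0) * cubeTwist * (two ^ w.getD 1 0 * neg) := by group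
          _ = (two ^ w.getD 0 0 * neg) * cubeTwist * (neg * two ^ w.getD 1 0) := by rw [a1, ← a2]
          _ = _ := by group
      exact back _ _ _ (e' ▸ hσ)
  · obtain ⟨x, hx, hxr⟩ := wordP_rep hA hσ (rep_packImage σ) w
    exact (false_of_badCycle hA hx hxr h3).elim

theorem fixed_count {σ : Equiv.Perm GolayPt} (h2 : σ ^ 2 = 1) (hs : Equiv.Perm.sign σ = 1) :
    countLt 24 (fun i => !Nat.beq (pget (packImage σ) i) i) % 4 = 0 := by
  classical
  haveI : Fact (Nat.Prime 2) := ⟨Nat.prime_two⟩
  have h := rep_packImage σ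
  have e : countLt 24 (fun i => !Nat.beq (pget (packImage σ) i) i) = σ.support.card := by
    rw [countLt_eq, ← image_ix_univ, Finset.filter_image,
      Finset.card_image_of_injective _ ix_injective]
    congr 1
    ext x
    simp only [Finset.mem_filter, Finset.mem_univ, true_and, Equiv.Perm.mem_support,
      Bool.not_eq_true', ← Bool.not_eq_true, Nat.beq_eq, h x, ix_inj]
  rw [e, ← Equiv.Perm.sum_cycleType]
  have hall : σ.cycleType = Multiset.replicate σ.cycleType.card 2 :=
    Multiset.eq_replicate_card.2 (Equiv.Perm.pow_prime_eq_one_iff.1 h2)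
  rw [Equiv.Perm.sign_of_cycleType] at hs
  have hsum : σ.cycleType.sum = σ.cycleType.card * 2 := by
    conv_lhs => rw [hall]
    simp
  have he : Even (σ.cycleType.sum + σ.cycleType.card) :=
    (neg_one_pow_eq_one_iff_even (by decide : (-1 : ℤˣ) ≠ 1)).1 hs
  rw [hsum] at he ⊢
  obtain ⟨r, hr⟩ := he
  omega

/-- What an involution normalizing the doubling map gives. -/
theorem two_cases {H : Subgroup (Equiv.Perm GolayPt)} (hA : Acting H) (ht : two ∈ H)
    {σ : Equiv.Perm GolayPt} (hσ : σ ∈ H) {k : ℕ} (hk : k = 1 ∨ k = 10)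
    (h : σ * two = two ^ k * σ) (h2 : σ ^ 2 = 1) (h1 : σ ≠ 1) :
    k = 10 ∧ projInv ∈ H := by
  obtain ⟨s, hs, c, hc, d, hd, hp⟩ := packImage_of_norm h (by
    rcases hk with rfl | rfl
    · exact fun e => by simpa using two_pow 1 (by simpa using e)
    · exact fun e => by simpa using two_pow 10 (by simpa using e))
  have h3 := twoCheck_eq
  rw [twoCheck, List.all_eq_true] at h3
  have h4 := forallLt_elim (forallLt_elim (forallLt_elim
    (h3 k (by rcases hk with rfl | rfl <;> simp)) hs) hc) hd
  dsimp only at h4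
  rw [← hp, fullP_packImage] at h4
  have e1 : pmul (packImage σ) (packImage σ) = pone := by
    rw [pmul_packImage (rep_packImage σ) (rep_packImage σ), ← sq, h2, packImage_one]
  have e2 : Nat.beq (packImage σ) pone = false := by
    rw [← Bool.not_eq_true, Nat.beq_eq, ← packImage_one]
    exact fun e => h1 (packImage_injective e)
  rw [e1, e2, fixed_count h2 (hA.even σ hσ)] at h4
  simp only [Nat.beq_refl, Bool.and_self, Bool.not_false, Bool.not_true, Bool.false_or,
    List.any_eq_true, Bool.and_eq_true] at h4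
  obtain ⟨r, hr, hsame, h5⟩ := h4
  simp only [rowOK] at h5
  split_ifs at h5 with h6
  · have hk' := sameRow_fst hsame
    have h7 := List.all_eq_true.1 no_centralizing_involution_rows r hr
    rw [h6, hk'] at h7
    have hk10 : k = 10 := by
      rcases hk with rfl | rfl
      · simp at h7
      · rfl
    refine ⟨hk10, ?_⟩
    rw [Nat.beq_eq, stdTwo] at h5
    have e : σ = two ^ r.2.2.2.2.1.getD 0 0 * projInv :=
      (rep_packImage σ).unique (h5 ▸ (rep_ppow rep_two _).mul rep_projInv)
    have h8 := mul_mem (inv_mem (pow_mem ht (r.2.2.2.2.1.getD 0 0))) hσ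
    rwa [e, inv_mul_cancel_left] at h8
  · obtain ⟨x, hx, hxr⟩ := wordP_rep hA hσ (rep_packImage σ) r.2.2.2.2.1
    exact (false_of_badCycle hA hx hxr h5).elim

theorem five_exponent : ∀ j : Fin 11, (j : ℕ) ^ 5 % 11 = 1 → (j : ℕ) = 1 ∨
    ∃ m : Fin 5, (j : ℕ) ^ (m : ℕ) % 11 = 3 := by decide +kernel

theorem two_exponent : ∀ j : Fin 11, (j : ℕ) ^ 2 % 11 = 1 → (j : ℕ) = 1 ∨ (j : ℕ) = 10 := by
  decide +kernel

theorem inertia_eq {k n : ℕ} (hk : k ∣ 10) (hn : n % 11 = 1) (h : k * n = 22256640) : k = 10 := by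
  have : k ≤ 10 := Nat.le_of_dvd (by norm_num) hk
  interval_cases k <;> omega

/-- The generators are in the group, up to the mirror image. -/
theorem gens_mem {H : Subgroup (Equiv.Perm GolayPt)} (hA : Acting H) :
    projInv ∈ H ∧ (cubeTwist ∈ H ∨ neg * cubeTwist * neg ∈ H) := by
  classical
  haveI : Fact (Nat.Prime 11) := ⟨by norm_num⟩
  haveI : Fact (Nat.Prime 5) := ⟨by norm_num⟩
  haveI : Fact (Nat.Prime 2) := ⟨Nat.prime_two⟩
  have ht := two_mem hA
  let y : H := ⟨two, ht⟩
  have e11 : two ^ 11 = 1 := by decide +kernel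
  have hy : orderOf y = 11 := by
    rw [Subgroup.orderOf_mk]
    exact orderOf_eq_prime e11 (by decide +kernel)
  obtain ⟨c, k, n, hcle, hc0, hk, hn, hN, hG⟩ := exists_normalizer_factors hy
    (by rw [hA.card]; norm_num) (le_refl _)
  set N := Subgroup.normalizer (Subgroup.zpowers y : Set H) with hNdef
  have conjExp : ∀ g ∈ N, ∃ j : Fin 11, (g : Equiv.Perm GolayPt) * two =
      two ^ (j : ℕ) * (g : Equiv.Perm GolayPt) := by
    intro g hg
    have hmem := (Subgroup.mem_normalizer_iff.1 hg y).1 (Subgroup.mem_zpowers y)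
    obtain ⟨i, hi, he⟩ := Finset.mem_image.1 (mem_zpowers_iff_mem_range_orderOf.1 hmem)
    rw [hy, Finset.mem_range] at hi
    refine ⟨⟨i, hi⟩, ?_⟩
    have := congrArg (fun w : H => (w : Equiv.Perm GolayPt) * (g : Equiv.Perm GolayPt)) he
    simpa [y, mul_assoc] using this.symm
  have iter_conj : ∀ (σ : Equiv.Perm GolayPt) (j : ℕ), σ * two = two ^ j * σ →
      ∀ m : ℕ, σ ^ m * two = two ^ (j ^ m % 11) * σ ^ m := by
    intro σ j hσ m
    have hmod : ∀ e : ℕ, two ^ (e % 11) = two ^ e := by
      intro e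
      conv_rhs => rw [← Nat.div_add_mod e 11, pow_add, pow_mul, e11, one_pow, one_mul]
    rw [hmod]
    have key : ∀ e : ℕ, σ * two ^ e = two ^ (j * e) * σ := by
      intro e
      induction e with
      | zero => simp
      | succ e ih =>
        rw [pow_succ, ← mul_assoc, ih, mul_assoc, hσ, ← mul_assoc, ← pow_add]
        congr 2
    induction m with
    | zero => simp
    | succ m ih =>
      rw [pow_succ', mul_assoc, ih, ← mul_assoc, key, mul_assoc, pow_succ' j]
  have elem : ∀ p : ℕ, p.Prime → p ∣ c * 11 * k → ∃ g ∈ H, g ^ p = 1 ∧ g ≠ 1 ∧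
      ∃ j : Fin 11, g * two = two ^ (j : ℕ) * g ∧ (j : ℕ) ^ p % 11 = 1 := by
    intro p hp hdvd
    haveI := Fact.mk hp
    obtain ⟨g, hg⟩ := exists_prime_orderOf_dvd_card' (G := N) p (hN ▸ hdvd)
    have hgp : ((g : H) : Equiv.Perm GolayPt) ^ p = 1 := by
      have := congrArg (fun w : N => ((w : H) : Equiv.Perm GolayPt)) (hg ▸ pow_orderOf_eq_one g)
      simpa using this
    have hg1 : ((g : H) : Equiv.Perm GolayPt) ≠ 1 := by
      intro e
      have : g = 1 := Subtype.ext (Subtype.ext e)
      rw [this, orderOf_one] at hg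
      exact hp.ne_one hg.symm
    obtain ⟨j, hj⟩ := conjExp (g : H) g.2
    refine ⟨_, (g : H).2, hgp, hg1, j, hj, ?_⟩
    have h1 := iter_conj _ _ hj p
    rw [hgp, one_mul, mul_one] at h1
    by_contra hne
    have h2 : two ^ ((j : ℕ) ^ p % 11) = two ^ (1 : ℕ) := by rw [pow_one]; exact h1.symm
    rw [pow_inj_mod, ← Subgroup.orderOf_mk (H := H) two ht] at h2
    change ((j : ℕ) ^ p % 11) % orderOf y = 1 % orderOf y at h2
    rw [hy, Nat.mod_mod] at h2
    exact hne h2
  -- the centralizer is the Sylow subgroup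
  have hcen : ∀ g ∈ H, g * two = two ^ 1 * g → g ^ 22 = 1 := by
    intro g hg h
    obtain ⟨s, hs, a, ha, b, hb, hp⟩ := packImage_of_norm h (by decide +kernel)
    have h1 := forallLt_elim (forallLt_elim (forallLt_elim centCheck hs) ha) hb
    dsimp only at h1
    rw [← hp, fullP_packImage] at h1
    simp only [Bool.not_true, Bool.false_or, Nat.beq_eq] at h1
    exact (rep_ppow (rep_packImage g) 22).unique (h1 ▸ Rep.one)
  have hcentre : Nat.card (Subgroup.centralizer ({y} : Set H)) = 11 := by
    set C := Subgroup.centralizer ({y} : Set H) with hC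
    have hdvd : 11 ∣ Nat.card C := by
      have hle : Subgroup.zpowers y ≤ C := by
        rw [Subgroup.zpowers_le, hC, Subgroup.mem_centralizer_singleton_iff]
      have := Subgroup.card_dvd_of_le hle
      rwa [Nat.card_zpowers, hy] at this
    have hprimes : ∀ p : ℕ, p.Prime → p ∣ Nat.card C → p = 11 := by
      intro p hp hpC
      haveI := Fact.mk hp
      obtain ⟨g, hg⟩ := exists_prime_orderOf_dvd_card' (G := C) p hpC
      have hval : orderOf ((g : H) : Equiv.Perm GolayPt) = p := by
        rw [Subgroup.orderOf_coe, Subgroup.orderOf_coe, hg]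
      have hcomm : ((g : H) : Equiv.Perm GolayPt) * two = two ^ 1 * ((g : H) : Equiv.Perm GolayPt) := by
        have := congrArg Subtype.val (Subgroup.mem_centralizer_singleton_iff.1 g.2)
        simpa [y] using this
      have h22 := orderOf_dvd_of_pow_eq_one (hcen _ (g : H).2 hcomm)
      rw [hval] at h22
      rcases (Nat.Prime.dvd_mul hp).1 (show p ∣ 2 * 11 from h22) with h | h
      · exfalso
        obtain rfl := (Nat.prime_dvd_prime_iff_eq hp Nat.prime_two).1 h
        have hg2 := pow_orderOf_eq_one ((g : H) : Equiv.Perm GolayPt)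
        rw [hval] at hg2
        exact absurd (two_cases hA ht (g : H).2 (Or.inl rfl) hcomm hg2
          (fun e => by rw [e, orderOf_one] at hval; exact absurd hval (by norm_num))).1 (by norm_num)
      · exact (Nat.prime_dvd_prime_iff_eq hp (by norm_num)).1 h
    obtain ⟨m, hm⟩ := hdvd
    by_contra hne
    have hm1 : m ≠ 1 := by rintro rfl; exact hne (by omega)
    obtain ⟨p, hp, hpm⟩ := Nat.exists_prime_and_dvd hm1
    obtain rfl := hprimes p hp (hm ▸ Dvd.dvd.mul_left hpm 11)
    have : 121 ∣ Nat.card H := by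
      refine (?_ : (121 : ℕ) ∣ Nat.card C).trans (Subgroup.card_subgroup_dvd_card C)
      obtain ⟨r, rfl⟩ := hpm
      exact ⟨r, by rw [hm]; ring⟩
    rw [hA.card] at this
    norm_num at this
  rw [hcentre] at hcle
  have hc : c = 1 := by omega
  subst hc
  rw [one_mul, hA.card] at hG
  obtain rfl : k = 10 := inertia_eq (by simpa using hk) hn (by
    have : 11 * (k * n) = 11 * 22256640 := by rw [← mul_assoc, ← hG]
    omega)
  constructor
  · obtain ⟨g, hg, hgp, hg1, j, hj, hjp⟩ := elem 2 Nat.prime_two (by norm_num)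
    rcases two_exponent j hjp with h1 | h1
    · exact (two_cases hA ht hg (Or.inl rfl) (h1 ▸ hj) hgp hg1).2
    · exact (two_cases hA ht hg (Or.inr rfl) (h1 ▸ hj) hgp hg1).2
  · obtain ⟨g, hg, hgp, hg1, j, hj, hjp⟩ := elem 5 (by norm_num) (by norm_num)
    rcases five_exponent j hjp with h1 | ⟨m, hm⟩
    · exfalso
      rw [h1] at hj
      have h22 := hcen g hg hj
      have h5 : orderOf g = 5 := orderOf_eq_prime hgp hg1
      have := orderOf_dvd_of_pow_eq_one h22
      rw [h5] at this
      norm_num at this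
    · refine five_cases hA ht (pow_mem hg (m : ℕ)) ?_ ?_
      · have := iter_conj g j hj (m : ℕ)
        rwa [hm] at this
      · rw [← pow_mul, mul_comm, pow_mul, hgp, one_pow]

theorem neg_conj_facts : neg * neg = 1 ∧ neg * sh * neg = sh⁻¹ ∧ neg * projInv * neg = projInv := by
  refine ⟨?_, ?_, ?_⟩ <;> decide +kernel

/-- A group of the right order with the three generators is the standard group. -/
theorem eq_M24 {H : Subgroup (Equiv.Perm GolayPt)} (hH : Nat.card H = 244823040) (h1 : sh ∈ H)
    (h2 : projInv ∈ H) (h3 : cubeTwist ∈ H) : H = M24 := by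
  refine (Subgroup.eq_of_le_of_card_ge ?_ (by rw [hH, M24_card])).symm
  rw [← M24_generated, Subgroup.closure_le]
  rintro σ (rfl | rfl | rfl)
  exacts [h1, h2, h3]

theorem nonempty_mulEquiv_of_acting {H : Subgroup (Equiv.Perm GolayPt)} (hA : Acting H) :
    Nonempty (H ≃* M24) := by
  obtain ⟨hv, hu | hu⟩ := gens_mem hA
  · exact ⟨MulEquiv.subgroupCongr (eq_M24 hA.card hA.shift_mem hv hu)⟩
  · obtain ⟨hnn, hns, hnv⟩ := neg_conj_facts
    have hninv : neg⁻¹ = neg := inv_eq_of_mul_eq_one_right hnn
    let K : Subgroup (Equiv.Perm GolayPt) := H.map (MulAut.conj neg).toMonoidHom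
    have e : H ≃* K := Subgroup.equivMapOfInjective H _ (MulAut.conj neg).injective
    have hmem : ∀ x ∈ H, neg * x * neg ∈ K := fun x hx =>
      ⟨x, hx, by simp [MulAut.conj_apply, hninv]⟩
    have hK : K = M24 := by
      refine eq_M24 ((Nat.card_congr e.toEquiv).symm.trans hA.card) ?_ ?_ ?_
      · have := inv_mem (hmem _ hA.shift_mem)
        rwa [hns, inv_inv] at this
      · have := hmem _ hv
        rwa [hnv] at this
      · have := hmem _ hu
        have e2 : neg * (neg * cubeTwist * neg) * neg = cubeTwist := by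
          calc neg * (neg * cubeTwist * neg) * neg = (neg * neg) * cubeTwist * (neg * neg) := by
                group
            _ = cubeTwist := by rw [hnn, one_mul, mul_one]
        rwa [e2] at this
    exact ⟨e.trans (MulEquiv.subgroupCongr hK)⟩

theorem cycleType_sh : (sh : Equiv.Perm GolayPt).cycleType = {23} := by
  haveI : Fact (Nat.Prime 23) := ⟨by norm_num⟩
  have ho : orderOf (sh : Equiv.Perm GolayPt) = 23 :=
    orderOf_eq_prime (by decide +kernel) (by decide +kernel)
  obtain ⟨m, hm⟩ := Equiv.Perm.cycleType_prime_order (σ := sh) (by rw [ho]; norm_num)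
  have := Equiv.Perm.sum_cycleType_le (sh : Equiv.Perm GolayPt)
  rw [hm, Multiset.sum_replicate, ho, smul_eq_mul] at this
  have hc : Fintype.card GolayPt = 24 := rfl
  rw [hc] at this
  obtain rfl : m = 0 := by omega
  rw [hm, ho]
  rfl

/-- An element of order 23 of the permutations of the 24 points is conjugate to the shift. -/
theorem exists_conj_sh {σ : Equiv.Perm GolayPt} (h : orderOf σ = 23) :
    ∃ π : Equiv.Perm GolayPt, π * σ * π⁻¹ = sh := by
  classical
  obtain ⟨m, hm⟩ := Equiv.Perm.cycleType_prime_order (σ := σ) (by rw [h]; norm_num)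
  have hs := Equiv.Perm.sum_cycleType_le σ
  rw [hm, Multiset.sum_replicate, h, smul_eq_mul] at hs
  have hc : Fintype.card GolayPt = 24 := rfl
  rw [hc] at hs
  obtain rfl : m = 0 := by omega
  refine isConj_iff.1 (Equiv.Perm.isConj_iff_cycleType_eq.2 ?_)
  rw [hm, h, cycleType_sh]
  rfl

/-- **A simple group of order 244823040 with a subgroup of index 24 is `Cfsg.M24`.** -/
theorem nonempty_mulEquiv_of_index_twentyFour {G : Type*} [Group G] [Finite G] [IsSimpleGroup G]
    (hG : Nat.card G = 244823040) (S : Subgroup G) (hS : S.index = 24) :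
    Nonempty (G ≃* M24) := by
  classical
  have hc : Fintype.card GolayPt = 24 := rfl
  obtain ⟨e⟩ : Nonempty (G ⧸ S ≃ GolayPt) := by
    haveI := Fintype.ofFinite (G ⧸ S)
    refine ⟨Fintype.equivOfCardEq ?_⟩
    rw [hc, ← Nat.card_eq_fintype_card]
    exact hS
  let φ : G →* Equiv.Perm GolayPt := e.permCongrHom.toMonoidHom.comp (MulAction.toPermHom G (G ⧸ S))
  have hinj : Function.Injective φ := by
    rw [← MonoidHom.ker_eq_bot_iff]
    rcases φ.normal_ker.eq_bot_or_eq_top with h | h
    · exact h
    · exfalso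
      have hle : ∀ g : G, g ∈ S := fun g => by
        have h1 : φ g = 1 := MonoidHom.mem_ker.1 (h ▸ Subgroup.mem_top g)
        have h2 := congrArg (fun π : Equiv.Perm GolayPt => e.symm (π (e ((1 : G) : G ⧸ S)))) h1
        simp [φ, MulAction.Quotient.smul_coe] at h2
        have h3 := QuotientGroup.eq.1 h2
        simpa using h3
      have := Subgroup.index_eq_one.2 (eq_top_iff.2 fun g _ => hle g)
      omega
  haveI : Fact (Nat.Prime 23) := ⟨by norm_num⟩
  obtain ⟨z, hz⟩ := exists_prime_orderOf_dvd_card' (G := G) 23 (by rw [hG]; norm_num)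
  obtain ⟨π, hπ⟩ := exists_conj_sh (σ := φ z) (by rw [orderOf_injective φ hinj, hz])
  let ψ : G →* Equiv.Perm GolayPt := (MulAut.conj π).toMonoidHom.comp φ
  have hψ : Function.Injective ψ := (MulAut.conj π).injective.comp hinj
  let eG : G ≃* ψ.range := MonoidHom.ofInjective hψ
  haveI : Nontrivial ψ.range := eG.injective.nontrivial
  haveI : IsSimpleGroup ψ.range :=
    IsSimpleGroup.isSimpleGroup_of_surjective eG.toMonoidHom eG.surjective
  have hcard : Nat.card ψ.range = 244823040 := (Nat.card_congr eG.toEquiv).symm.trans hG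
  have hev : ∀ g ∈ ψ.range, Equiv.Perm.sign g = 1 := by
    let s : ψ.range →* ℤˣ := Equiv.Perm.sign.comp ψ.range.subtype
    rcases s.normal_ker.eq_bot_or_eq_top with h | h
    · exfalso
      have := Nat.card_le_card_of_injective s ((MonoidHom.ker_eq_bot_iff _).1 h)
      rw [hcard, Nat.card_eq_fintype_card (α := ℤˣ)] at this
      simp at this
    · intro g hg
      exact MonoidHom.mem_ker.1 (h ▸ Subgroup.mem_top (⟨g, hg⟩ : ψ.range) : (⟨g, hg⟩ : ψ.range) ∈ s.ker)
  obtain ⟨e'⟩ := nonempty_mulEquiv_of_acting (H := ψ.range)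
    ⟨hcard, hev, ⟨z, by simpa [ψ, MulAut.conj_apply] using hπ⟩⟩
  exact ⟨eG.trans e'⟩

end CfsgLib.Blocks.Order244823040
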