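import Cfsg.Agent.Lib.Sporadic.M24Gen
import Cfsg.Agent.Lib.Sporadic.PermList

/-!
# The normalizer of `x ↦ 2 x` on the 24 points

A permutation normalizing `x ↦ 2 x` is given by the exponent, the action on the two fixed points and
the images of `1` and `-1`.  The tables show that the elements of order five and the even involutions
among them either are the standard ones or give, with `x ↦ x + 1`, a cycle of length 13, 17 or 19.
-/

set_option autoImplicit false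
set_option maxRecDepth 100000
set_option maxHeartbeats 1000000

namespace CfsgLib.Blocks.Order244823040

open Cfsg CfsgLib.Sporadic

/-- A row: exponent, swap, two images, a word, a point and a cycle length (zero for standard). -/
abbrev Row : Type := ℕ × ℕ × ℕ × ℕ × List ℕ × ℕ × ℕ

def uTab : List Row := [
  (3, 0, 1, 5, [1], 2, 17), (3, 0, 1, 7, [1], 0, 19), (3, 0, 1, 10, [4], 0, 19), (3, 0, 1, 11, [0, 9], 0, 0),
  (3, 0, 1, 14, [15], 1, 17), (3, 0, 1, 15, [3], 0, 19), (3, 0, 1, 17, [1], 0, 17), (3, 0, 1, 19, [2], 1, 19),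
  (3, 0, 1, 20, [7], 0, 19), (3, 0, 1, 21, [0, 2], 1, 0), (3, 0, 1, 22, [5], 1, 17), (3, 0, 2, 5, [20], 1, 17),
  (3, 0, 2, 7, [3], 1, 13), (3, 0, 2, 10, [9], 1, 17), (3, 0, 2, 11, [6], 0, 19), (3, 0, 2, 14, [1], 0, 13),
  (3, 0, 2, 15, [7], 0, 17), (3, 0, 2, 17, [6], 0, 13), (3, 0, 2, 19, [0, 6], 1, 0), (3, 0, 2, 20, [10], 0, 19),
  (3, 0, 2, 21, [1], 1, 17), (3, 0, 2, 22, [0, 2], 0, 0), (3, 0, 3, 5, [1], 0, 19), (3, 0, 3, 7, [6], 0, 19),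
  (3, 0, 3, 10, [0, 8], 0, 0), (3, 0, 3, 11, [3], 1, 19), (3, 0, 3, 14, [1], 0, 13), (3, 0, 3, 15, [13], 2, 17),
  (3, 0, 3, 17, [0, 1], 1, 0), (3, 0, 3, 19, [11], 1, 17), (3, 0, 3, 20, [1], 4, 13), (3, 0, 3, 21, [4], 0, 13),
  (3, 0, 3, 22, [6], 0, 19), (3, 0, 4, 5, [3], 0, 17), (3, 0, 4, 7, [1], 1, 19), (3, 0, 4, 10, [19], 1, 17),
  (3, 0, 4, 11, [6], 1, 13), (3, 0, 4, 14, [2], 0, 19), (3, 0, 4, 15, [0, 10], 1, 0), (3, 0, 4, 17, [2], 0, 19),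
  (3, 0, 4, 19, [4], 0, 17), (3, 0, 4, 20, [12], 1, 17), (3, 0, 4, 21, [0, 6], 0, 0), (3, 0, 4, 22, [8], 0, 19),
  (3, 0, 6, 5, [1], 4, 13), (3, 0, 6, 7, [2], 3, 17), (3, 0, 6, 10, [2], 0, 17), (3, 0, 6, 11, [0, 5], 1, 0),
  (3, 0, 6, 14, [8], 0, 19), (3, 0, 6, 15, [7], 1, 17), (3, 0, 6, 17, [7], 0, 17), (3, 0, 6, 19, [2], 0, 19),
  (3, 0, 6, 20, [0, 1], 0, 0), (3, 0, 6, 21, [6], 0, 19), (3, 0, 6, 22, [4], 1, 19), (3, 0, 8, 5, [2], 0, 19),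
  (3, 0, 8, 7, [0, 3], 1, 0), (3, 0, 8, 10, [4], 0, 17), (3, 0, 8, 11, [5], 0, 19), (3, 0, 8, 14, [9], 1, 19),
  (3, 0, 8, 15, [3], 2, 13), (3, 0, 8, 17, [16], 1, 17), (3, 0, 8, 19, [0, 10], 0, 0), (3, 0, 8, 20, [10], 1, 17),
  (3, 0, 8, 21, [3], 0, 19), (3, 0, 8, 22, [3], 0, 13), (3, 0, 9, 5, [0, 0], 1, 0), (3, 0, 9, 7, [0, 7], 0, 0),
  (3, 0, 9, 10, [5], 0, 19), (3, 0, 9, 11, [5], 1, 17), (3, 0, 9, 14, [5], 0, 17), (3, 0, 9, 15, [5], 1, 17),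
  (3, 0, 9, 17, [2], 0, 17), (3, 0, 9, 19, [4], 3, 13), (3, 0, 9, 20, [1], 0, 19), (3, 0, 9, 21, [9], 0, 19),
  (3, 0, 9, 22, [8], 1, 17), (3, 0, 12, 5, [3], 0, 19), (3, 0, 12, 7, [17], 1, 17), (3, 0, 12, 10, [7], 0, 19),
  (3, 0, 12, 11, [2], 1, 17), (3, 0, 12, 14, [18], 1, 17), (3, 0, 12, 15, [2], 0, 13), (3, 0, 12, 17, [0, 5], 0, 0),
  (3, 0, 12, 19, [3], 0, 19), (3, 0, 12, 20, [12], 0, 19), (3, 0, 12, 21, [3], 3, 17), (3, 0, 12, 22, [0, 9], 1, 0),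
  (3, 0, 13, 5, [0, 4], 0, 0), (3, 0, 13, 7, [2], 3, 13), (3, 0, 13, 10, [3], 2, 17), (3, 0, 13, 11, [1], 1, 13),
  (3, 0, 13, 14, [4], 0, 17), (3, 0, 13, 15, [7], 0, 19), (3, 0, 13, 17, [8], 2, 19), (3, 0, 13, 19, [4], 1, 17),
  (3, 0, 13, 20, [0, 8], 1, 0), (3, 0, 13, 21, [14], 1, 17), (3, 0, 13, 22, [1], 0, 17), (3, 0, 16, 5, [1], 1, 17),
  (3, 0, 16, 7, [2], 0, 17), (3, 0, 16, 10, [1], 0, 19), (3, 0, 16, 11, [6], 1, 17), (3, 0, 16, 14, [0, 7], 1, 0),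
  (3, 0, 16, 15, [0, 3], 0, 0), (3, 0, 16, 17, [21], 1, 17), (3, 0, 16, 19, [4], 0, 19), (3, 0, 16, 20, [6], 0, 19),
  (3, 0, 16, 21, [3], 1, 13), (3, 0, 16, 22, [1], 0, 19), (3, 0, 18, 5, [1], 0, 17), (3, 0, 18, 7, [2], 0, 19),
  (3, 0, 18, 10, [0, 4], 1, 0), (3, 0, 18, 11, [3], 0, 19), (3, 0, 18, 14, [0, 0], 0, 0), (3, 0, 18, 15, [2], 0, 13),
  (3, 0, 18, 17, [1], 1, 13), (3, 0, 18, 19, [11], 0, 19), (3, 0, 18, 20, [6], 2, 19), (3, 0, 18, 21, [3], 4, 17),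
  (3, 0, 18, 22, [22], 2, 17)]

def vTab : List Row := [
  (1, 1, 5, 9, [1, 9], 0, 19), (1, 1, 7, 13, [1, 3], 0, 19), (1, 1, 10, 16, [1, 3], 0, 19), (1, 1, 11, 2, [1, 2], 0, 19),
  (1, 1, 14, 18, [1, 9], 0, 19), (1, 1, 15, 3, [1, 2], 0, 13), (1, 1, 17, 4, [1, 4], 0, 19), (1, 1, 19, 6, [1, 4], 0, 19),
  (1, 1, 20, 8, [1, 2], 0, 13), (1, 1, 21, 12, [1, 2], 0, 19), (1, 1, 22, 1, [1, 3], 1, 13), (10, 0, 1, 5, [4], 0, 17),
  (10, 0, 1, 7, [8], 0, 19), (10, 0, 1, 10, [2], 0, 19), (10, 0, 1, 11, [1], 0, 17), (10, 0, 1, 14, [4], 0, 13),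
  (10, 0, 1, 15, [1], 2, 13), (10, 0, 1, 17, [7], 1, 17), (10, 0, 1, 19, [9], 1, 17), (10, 0, 1, 20, [6], 0, 17),
  (10, 0, 1, 21, [1], 0, 13), (10, 0, 1, 22, [1, 2, 11], 0, 13), (10, 0, 2, 5, [2], 0, 17), (10, 0, 2, 7, [1], 0, 17),
  (10, 0, 2, 10, [1], 0, 13), (10, 0, 2, 11, [11], 1, 17), (10, 0, 2, 14, [6], 0, 19), (10, 0, 2, 15, [1], 3, 17),
  (10, 0, 2, 17, [7], 0, 17), (10, 0, 2, 19, [2], 0, 17), (10, 0, 2, 20, [10], 0, 19), (10, 0, 2, 21, [1, 1, 7], 1, 19),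
  (10, 0, 2, 22, [1], 0, 13), (10, 0, 3, 5, [3], 2, 17), (10, 0, 3, 7, [9], 0, 19), (10, 0, 3, 10, [3], 2, 13),
  (10, 0, 3, 11, [6], 1, 17), (10, 0, 3, 14, [3], 2, 13), (10, 0, 3, 15, [4], 0, 17), (10, 0, 3, 17, [2], 0, 19),
  (10, 0, 3, 19, [5], 0, 13), (10, 0, 3, 20, [1, 1, 5], 2, 19), (10, 0, 3, 21, [10], 0, 19), (10, 0, 3, 22, [6], 0, 17),
  (10, 0, 4, 5, [7], 0, 19), (10, 0, 4, 7, [5], 1, 17), (10, 0, 4, 10, [1], 0, 17), (10, 0, 4, 11, [9], 2, 13),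
  (10, 0, 4, 14, [2], 3, 13), (10, 0, 4, 15, [1], 1, 13), (10, 0, 4, 17, [4], 0, 19), (10, 0, 4, 19, [1, 1, 4], 1, 19),
  (10, 0, 4, 20, [5], 0, 13), (10, 0, 4, 21, [2], 0, 17), (10, 0, 4, 22, [9], 1, 17), (10, 0, 6, 5, [3], 0, 17),
  (10, 0, 6, 7, [2], 0, 17), (10, 0, 6, 10, [8], 1, 17), (10, 0, 6, 11, [6], 2, 13), (10, 0, 6, 14, [1], 0, 19),
  (10, 0, 6, 15, [2], 0, 13), (10, 0, 6, 17, [1, 1, 2], 1, 19), (10, 0, 6, 19, [4], 0, 19), (10, 0, 6, 20, [2], 0, 19),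
  (10, 0, 6, 21, [7], 0, 17), (10, 0, 6, 22, [7], 1, 17), (10, 0, 8, 5, [2], 0, 17), (10, 0, 8, 7, [4], 0, 17),
  (10, 0, 8, 10, [11], 0, 19), (10, 0, 8, 11, [3], 0, 19), (10, 0, 8, 14, [2], 1, 17), (10, 0, 8, 15, [1, 2, 11], 0, 13),
  (10, 0, 8, 17, [2], 0, 13), (10, 0, 8, 19, [1], 1, 13), (10, 0, 8, 20, [4], 0, 17), (10, 0, 8, 21, [1], 1, 17),
  (10, 0, 8, 22, [1], 1, 13), (10, 0, 9, 5, [3], 0, 13), (10, 0, 9, 7, [2], 1, 13), (10, 0, 9, 10, [4], 1, 17),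
  (10, 0, 9, 11, [8], 0, 17), (10, 0, 9, 14, [1, 1, 21], 1, 13), (10, 0, 9, 15, [2], 1, 17), (10, 0, 9, 17, [1], 0, 19),
  (10, 0, 9, 19, [2], 1, 13), (10, 0, 9, 20, [3], 1, 13), (10, 0, 9, 21, [6], 0, 19), (10, 0, 9, 22, [4], 0, 13),
  (10, 0, 12, 5, [5], 0, 19), (10, 0, 12, 7, [1], 0, 17), (10, 0, 12, 10, [6], 1, 13), (10, 0, 12, 11, [1, 1, 12], 2, 13),
  (10, 0, 12, 14, [8], 0, 17), (10, 0, 12, 15, [3], 0, 19), (10, 0, 12, 17, [6], 1, 13), (10, 0, 12, 19, [9], 1, 13),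
  (10, 0, 12, 20, [6], 1, 17), (10, 0, 12, 21, [11], 2, 17), (10, 0, 12, 22, [1], 0, 17), (10, 0, 13, 5, [1], 0, 19),
  (10, 0, 13, 7, [4], 2, 13), (10, 0, 13, 10, [1, 1, 3], 3, 13), (10, 0, 13, 11, [6], 2, 13), (10, 0, 13, 14, [4], 2, 17),
  (10, 0, 13, 15, [11], 0, 19), (10, 0, 13, 17, [8], 1, 17), (10, 0, 13, 19, [1], 0, 17), (10, 0, 13, 20, [3], 1, 13),
  (10, 0, 13, 21, [1], 0, 13), (10, 0, 13, 22, [2], 0, 19), (10, 0, 16, 5, [10], 1, 17), (10, 0, 16, 7, [1, 1, 3], 1, 17),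
  (10, 0, 16, 10, [4], 1, 13), (10, 0, 16, 11, [1], 0, 17), (10, 0, 16, 14, [2], 1, 13), (10, 0, 16, 15, [4], 0, 17),
  (10, 0, 16, 17, [2], 0, 17), (10, 0, 16, 19, [5], 2, 17), (10, 0, 16, 20, [9], 0, 19), (10, 0, 16, 21, [1], 0, 17),
  (10, 0, 16, 22, [8], 0, 19), (10, 0, 18, 5, [1, 1, 16], 1, 19), (10, 0, 18, 7, [10], 1, 17), (10, 0, 18, 10, [1], 0, 19),
  (10, 0, 18, 11, [5], 0, 19), (10, 0, 18, 14, [3], 0, 13), (10, 0, 18, 15, [2], 0, 17), (10, 0, 18, 17, [3], 0, 17),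
  (10, 0, 18, 19, [7], 0, 19), (10, 0, 18, 20, [3], 1, 17), (10, 0, 18, 21, [2], 0, 17), (10, 0, 18, 22, [4], 0, 17),
  (10, 1, 5, 18, [6, 0], 0, 0), (10, 1, 7, 16, [4, 0], 0, 0), (10, 1, 10, 13, [7, 0], 0, 0), (10, 1, 11, 12, [10, 0], 0, 0),
  (10, 1, 14, 9, [5, 0], 0, 0), (10, 1, 15, 8, [3, 0], 0, 0), (10, 1, 17, 6, [9, 0], 0, 0), (10, 1, 19, 4, [2, 0], 0, 0),
  (10, 1, 20, 3, [8, 0], 0, 0), (10, 1, 21, 2, [1, 0], 0, 0), (10, 1, 22, 1, [0, 0], 0, 0)]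

/-- The packed `x ↦ x + 1`. -/
def pShift : ℕ := 956302485175575353788796878166559809
/-- The packed `x ↦ 2 x`. -/
def pTwo : ℕ := 983435072843990828779021698901151808
/-- The packed `x ↦ -x`. -/
def pNeg : ℕ := 956765793662171983829532039519557312
/-- The packed cube twist. -/
def pTwist : ℕ := 974380510768821363662145534143076928
/-- The packed `x ↦ -1/x`. -/
def pInv : ℕ := 1795248432537898728475572672376535

/-- A packed power. -/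
noncomputable def ppow (p n : ℕ) : ℕ := Nat.rec pone (fun _ ih => pmul p ih) n

/-- The exponent `i` with `x = ±2 ^ i` in the residues modulo 23. -/
noncomputable def logTwo (x : ℕ) : ℕ :=
  Nat.rec 0 (fun i acc => if Nat.beq (2 ^ i % 23) x || Nat.beq (22 * 2 ^ i % 23) x then i else acc) 11

/-- Whether `x` is a square residue. -/
noncomputable def isSq (x : ℕ) : Bool := Nat.beq (x ^ 11 % 23) 1

/-- The index map with exponent `k`, swap `s` and images `c`, `d` of `1` and `-1`. -/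
noncomputable def normF (k s c d i : ℕ) : ℕ :=
  if Nat.beq i 23 then (if Nat.beq s 1 then 0 else 23)
  else if Nat.beq i 0 then (if Nat.beq s 1 then 23 else 0)
  else ((if isSq i then c else d) * 2 ^ (k * logTwo i % 11)) % 23

/-- Its packed form. -/
noncomputable def normP (k s c d : ℕ) : ℕ :=
  Nat.rec 0 (fun i acc => Nat.lor acc (Nat.shiftLeft (normF k s c d i) (Nat.mul 5 i))) 24

/-- The word `p s^a p s^b …`. -/
noncomputable def wordP (p : ℕ) (w : List ℕ) : ℕ :=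
  List.rec pone (fun a _ ih => pmul (pmul p (ppow pShift a)) ih) w

/-- The images of a point under the powers. -/
noncomputable def iter (q x n : ℕ) : ℕ := Nat.rec x (fun _ ih => pget q ih) n

/-- A cycle of length 13, 17 or 19. -/
noncomputable def badCycle (q x L : ℕ) : Bool :=
  (Nat.beq L 13 || Nat.beq L 17 || Nat.beq L 19) && Nat.blt x 24 &&
    Nat.beq (iter q x L) x && !Nat.beq (pget q x) x

/-- Whether every point is an image. -/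
noncomputable def fullP (p : ℕ) : Bool := Nat.beq (mimg p 16777215) 16777215

/-- The row belongs to the parameters. -/
noncomputable def sameRow (k s c d : ℕ) (r : Row) : Bool :=
  Nat.beq r.1 k && Nat.beq r.2.1 s && Nat.beq r.2.2.1 c && Nat.beq r.2.2.2.1 d

/-- The standard element of order five in a row. -/
noncomputable def stdFive (r : Row) : ℕ :=
  let g := pmul (pmul (ppow pTwo (r.2.2.2.2.1.getD 0 0)) pTwist) (ppow pTwo (r.2.2.2.2.1.getD 1 0))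
  if Nat.beq r.2.2.2.2.2.1 0 then g else pmul (pmul pNeg g) pNeg

/-- The standard involution in a row. -/
noncomputable def stdTwo (r : Row) : ℕ := pmul (ppow pTwo (r.2.2.2.2.1.getD 0 0)) pInv

/-- The check of a row for the packed permutation `p`. -/
noncomputable def rowOK (std : Row → ℕ) (p : ℕ) (r : Row) : Bool :=
  if Nat.beq r.2.2.2.2.2.2 0 then Nat.beq (std r) p
  else badCycle (wordP p r.2.2.2.2.1) r.2.2.2.2.2.1 r.2.2.2.2.2.2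

/-- The check of the elements of order five. -/
noncomputable def fiveCheck : Bool :=
  forallLt 2 fun s => forallLt 22 fun c => forallLt 22 fun d =>
    let p := normP 3 s (c + 1) (d + 1)
    !(fullP p && Nat.beq (ppow p 5) pone) ||
      uTab.any fun r => sameRow 3 s (c + 1) (d + 1) r && rowOK stdFive p r

/-- The check of the even involutions. -/
noncomputable def twoCheck : Bool :=
  [1, 10].all fun k => forallLt 2 fun s => forallLt 22 fun c => forallLt 22 fun d =>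
    let p := normP k s (c + 1) (d + 1)
    !(fullP p && Nat.beq (pmul p p) pone && !Nat.beq p pone &&
        Nat.beq (countLt 24 (fun i => !Nat.beq (pget p i) i) % 4) 0) ||
      vTab.any fun r => sameRow k s (c + 1) (d + 1) r && rowOK stdTwo p r

theorem fiveCheck_eq : fiveCheck = true := by decide +kernel

theorem twoCheck_eq : twoCheck = true := by decide +kernel

end CfsgLib.Blocks.Order244823040
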