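import Cfsg.Agent.Lib.Blocks.Order244823040.Basic
import Cfsg.Agent.Lib.Blocks.Order95040.Congr

/-!
# The block of an invariant real character of the centralizer complement

With the signs `δ` opposite to the coefficients, the values on `x V` are `δ η`, the exceptional
members add up to `-ε η` there, and the members outside the block add nothing to the `η`-part.
-/

set_option autoImplicit false

namespace CfsgLib.Blocks.Order244823040

open Cfsg CfsgLib CfsgLib.Char CfsgLib.CharIntegral CfsgLib.Blocks.PrimeSylow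
open CfsgLib.Blocks.Order95040 (deg cent deg_cast)
open scoped Classical ComplexConjugate

variable {G : Type*} [Group G] [Fintype G] {p : ℕ} {P V : Subgroup G}

/-- The block of `η`, with inertial index `e`. -/
structure EtaBlock (p : ℕ) (P V : Subgroup G) (e : ℕ) (η : IrrCharacter V) where
  X : Finset (IrrCharacter G)
  Y : Finset (IrrCharacter G)
  δ : IrrCharacter G → ℤ
  ε : ℤ
  disj : Disjoint X Y
  cardX : X.card = e
  cardY : Y.card = (p - 1) / e
  sgnX : ∀ χ ∈ X, δ χ = 1 ∨ δ χ = -1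
  sgnY : ε = 1 ∨ ε = -1
  modX : ∀ χ ∈ X, (deg χ : ℤ) ≡ δ χ * (charDegree (η : V → ℂ) : ℤ) [ZMOD p]
  modY : ∀ θ ∈ Y, (deg θ : ℤ) ≡ ε * e * (charDegree (η : V → ℂ) : ℤ) [ZMOD p]
  valX : ∀ χ ∈ X, ∀ x ∈ P, x ≠ 1 → ∀ v : V, (χ : G → ℂ) (x * v) = (δ χ : ℂ) * (η : V → ℂ) v
  sumY : ∀ x ∈ P, x ≠ 1 → ∀ v : V, ∑ θ ∈ Y, (θ : G → ℂ) (x * v) = -((ε : ℂ) * (η : V → ℂ) v)
  sumP : ∀ θ ∈ Y, ∀ v : V, ∑ x ∈ Finset.univ.filter (fun x : G => x ∈ P ∧ x ≠ 1),
    (θ : G → ℂ) (x * v) = -((ε : ℂ) * (e : ℂ) * (η : V → ℂ) v)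
  sameY : ∀ θ ∈ Y, ∀ θ' ∈ Y, ∀ g : G, ¬ p ∣ orderOf g → (θ : G → ℂ) g = (θ' : G → ℂ) g
  rel : ∀ θ ∈ Y, ∀ g : G, ¬ p ∣ orderOf g →
    (ε : ℂ) * (θ : G → ℂ) g = ∑ χ ∈ X, (δ χ : ℂ) * (χ : G → ℂ) g

/-- The members of the block. -/
noncomputable def EtaBlock.all {e : ℕ} {η : IrrCharacter V} (D : EtaBlock p P V e η) : Finset (IrrCharacter G) :=
  D.X ∪ D.Y

open PrimeSylow in
/-- The block exists, and its members are those of `blockSet`. -/
theorem exists_etaBlock [hp : Fact p.Prime] [Fintype V] (h : Setup p P V) {M : Ideal AlgInt}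
    [M.IsPrime] (hM : IsPModular p M) (η : IrrCharacter V)
    (hfix : ∀ ζ ∈ orbitV P η, ζ = η) :
    ∃ D : EtaBlock p P V (h.inertialIndex (η : V → ℂ)) η,
      ∀ χ : IrrCharacter G, χ ∈ D.all ↔ χ ∈ blockSet M P (η : V → ℂ) := by
  have := Fintype.ofFinite P
  have := Fintype.ofFinite (IrrCharacter G)
  have := Fintype.ofFinite (IrrCharacter P)
  have := Fintype.ofFinite (IrrCharacter V)
  have : Fintype (NBar P) := Fintype.ofFinite _
  obtain ⟨χ₀, hχ₀⟩ := h.exists_blockSet hM η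
  set B := blockOf M (χ₀ : G → ℂ)
  have hB : IsPBlock M B := isPBlock_blockOf χ₀
  obtain ⟨hdvd, Y, ε, w, θ, hε, hYB, hθY, hYθ, hYc, hXc, -, hX, hY, -, hrel⟩ :=
    h.exists_structure hM η hB (mem_blockOf_self χ₀) hχ₀
  have hBe : B = blockSet M P (η : V → ℂ) := blockSet_eq hB (mem_blockOf_self χ₀) hχ₀
  have horb : Nat.card (orbitV P η) = 1 := by
    rw [Nat.card_eq_one_iff_unique]
    exact ⟨⟨fun a b => Subtype.ext ((hfix a a.2).trans (hfix b b.2).symm)⟩,
      ⟨⟨η, h.mem_orbit_self η⟩⟩⟩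
  set e := h.inertialIndex (η : V → ℂ)
  set Xf := (B \ Y : Set (IrrCharacter G)).toFinset
  set Yf := Y.toFinset
  have hXm : ∀ χ ∈ Xf, χ ∈ blockSet M P (η : V → ℂ) ∧ (w χ = 1 ∨ w χ = -1) ∧
      ∀ l, l ≠ trivChar P → h.coef η χ l = w χ := fun χ hχ => by
    rw [Set.mem_toFinset] at hχ
    exact ⟨hBe ▸ hχ.1, hX χ hχ⟩
  have hYm : ∀ χ ∈ Yf, χ ∈ blockSet M P (η : V → ℂ) ∧ ∃ μ, μ ≠ trivChar P ∧ θ μ = χ :=
    fun χ hχ => by
      rw [Set.mem_toFinset] at hχ
      exact ⟨hBe ▸ hYB hχ, hYθ χ hχ⟩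
  have hval : ∀ χ ∈ blockSet M P (η : V → ℂ), ∀ x ∈ P, x ≠ 1 → ∀ v : V,
      (χ : G → ℂ) (x * v) = dval (χ : G → ℂ) x (η : V → ℂ) * (η : V → ℂ) v := by
    intro χ hχ x hx hx1 v
    rw [h.apply_eq_sum (IsIrr.isClassFunction χ.2) hx v, Finset.sum_eq_single η]
    · intro ζ _ hne
      rw [h.dval_eq_zero_of_not_orbit hM hχ (fun hm => hne (hfix ζ hm)) hx hx1, zero_mul]
    · exact fun hi => absurd (Finset.mem_univ _) hi
  have hrelf : ∀ χ ∈ Yf, ∀ g : G, ¬ p ∣ orderOf g →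
      (ε : ℂ) * (χ : G → ℂ) g = ∑ ψ ∈ Xf, ((-w ψ : ℤ) : ℂ) * (ψ : G → ℂ) g := by
    intro χ hχ g hg
    obtain ⟨-, μ, hμ, rfl⟩ := hYm χ hχ
    have h1 := hrel μ hμ g hg
    rw [finsum_mem_eq_toFinset_sum] at h1
    simp only [Int.cast_neg, neg_mul, Finset.sum_neg_distrib]
    linear_combination h1
  let D : EtaBlock p P V e η :=
    { X := Xf
      Y := Yf
      δ := fun χ => -w χ
      ε := ε
      disj := Set.disjoint_toFinset.2 Set.disjoint_sdiff_left
      cardX := by rw [← hXc, Nat.card_coe_set_eq, Set.ncard_eq_toFinset_card']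
      cardY := by rw [← hYc, Nat.card_coe_set_eq, Set.ncard_eq_toFinset_card']
      sgnX := fun χ hχ => by
        rcases (hXm χ hχ).2.1 with e' | e' <;> simp [e']
      sgnY := hε
      modX := fun χ hχ => by
        obtain ⟨hm, -, hc⟩ := hXm χ hχ
        have h1 := h.charDegree_modEq hM hm
        rw [horb, one_mul] at h1
        refine h1.trans ?_
        rw [mul_comm (-w χ)]
        exact (h.sum_coef_const η χ hc).mul_left _
      modY := fun χ hχ => by
        obtain ⟨hm, μ, hμ, rfl⟩ := hYm χ hχ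
        have h1 := h.charDegree_modEq hM hm
        rw [horb, one_mul, h.sum_coef_rel η _ hμ (fun l hl => (hY l μ hl hμ).2.1)
          (fun l hl => (hY l μ hl hμ).2.2)] at h1
        rwa [mul_comm (_ : ℤ) (ε * _)] at h1
      valX := fun χ hχ x hx hx1 v => by
        obtain ⟨hm, -, hc⟩ := hXm χ hχ
        rw [hval χ hm x hx hx1 v, h.dval_of_const η χ hc hx hx1, Int.cast_neg]
      sumY := fun x hx hx1 v => by
        have hx' : (⟨x, hx⟩ : P) ≠ 1 := fun e' => hx1 (congrArg Subtype.val e')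
        rw [Finset.sum_congr rfl fun χ hχ => hval χ (hYm χ hχ).1 x hx hx1 v, ← Finset.sum_mul,
          ← neg_mul]
        congr 1
        rw [Finset.sum_congr rfl fun χ _ => h.dval_eq_sum η χ (x := ⟨x, hx⟩) hx', Finset.sum_comm]
        have hcol : ∀ l : IrrCharacter P, ∑ χ ∈ Yf, (h.coef η χ l : ℂ) =
            if l = trivChar P then 0 else (ε : ℂ) := by
          intro l
          split_ifs with hl
          · exact Finset.sum_eq_zero fun χ _ => by rw [hl, h.coef_trivChar, Int.cast_zero]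
          · rw [Finset.sum_eq_single (θ l)]
            · rw [(hY l l hl hl).2.1 ((h.rel_equiv _).refl l)]
            · intro χ hχ hne
              obtain ⟨-, μ, hμ, rfl⟩ := hYm χ hχ
              rw [(hY l μ hl hμ).2.2 fun hr => hne ((hY l μ hl hμ).1.2 hr).symm, Int.cast_zero]
            · exact fun hi => absurd (Set.mem_toFinset.2 (hθY l hl)) hi
        simp only [← Finset.sum_mul, hcol, ite_mul, zero_mul]
        rw [Finset.sum_ite, Finset.sum_const_zero, zero_add, ← Finset.mul_sum]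
        have h0 : ∑ l : IrrCharacter P, (l : P → ℂ) ⟨x, hx⟩ = 0 := by
          rw [← sum_degree_mul_apply_of_ne_one hx']
          exact Finset.sum_congr rfl fun l _ => by rw [h.lchar_one l, one_mul]
        rw [Finset.filter_ne', Finset.sum_erase_eq_sub (Finset.mem_univ _), h0, trivChar_apply]
        ring
      sumP := fun χ hχ v => by
        obtain ⟨hm, μ, hμ, rfl⟩ := hYm χ hχ
        have h1 := h.sum_dval_ne_one η (θ μ)
        rw [h.sum_coef_rel η _ hμ (fun l hl => (hY l μ hl hμ).2.1)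
          (fun l hl => (hY l μ hl hμ).2.2), Int.cast_mul, Int.cast_natCast] at h1
        rw [← neg_mul, ← h1, Finset.sum_mul]
        symm
        refine Finset.sum_bij (fun x _ => (x : G)) (fun x hx => ?_) (fun a _ b _ e' => Subtype.ext e')
          (fun x hx => ?_) fun x hx => ?_
        · exact Finset.mem_filter.2 ⟨Finset.mem_univ _, x.2,
            fun e' => Finset.ne_of_mem_erase hx (Subtype.ext e')⟩
        · obtain ⟨-, hxP, hx1⟩ := Finset.mem_filter.1 hx
          exact ⟨⟨x, hxP⟩, Finset.mem_erase.2 ⟨fun e' => hx1 (congrArg Subtype.val e'),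
            Finset.mem_univ _⟩, rfl⟩
        · exact (hval _ hm x x.2 (fun e' => Finset.ne_of_mem_erase hx (Subtype.ext e')) v).symm
      sameY := fun a ha b hb g hg => by
        have e1 := hrelf a ha g hg
        have e2 := hrelf b hb g hg
        rw [← e2] at e1
        rcases hε with e' | e' <;> rw [e'] at e1 <;> simpa using e1
      rel := hrelf }
  refine ⟨D, fun χ => ?_⟩
  rw [EtaBlock.all, ← hBe]
  show χ ∈ Xf ∪ Yf ↔ _
  rw [Finset.mem_union, Set.mem_toFinset, Set.mem_toFinset, Set.mem_sdiff]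
  refine ⟨fun hh => hh.elim (fun a => a.1) fun a => hYB a, fun hh => ?_⟩
  by_cases hc : χ ∈ Y
  · exact Or.inr hc
  · exact Or.inl ⟨hh, hc⟩

namespace EtaBlock

variable {e : ℕ} {η : IrrCharacter V}

theorem deg_rel (D : EtaBlock p P V e η) (hp : p.Prime) {θ : IrrCharacter G} (hθ : θ ∈ D.Y) :
    D.ε * (deg θ : ℤ) = ∑ χ ∈ D.X, D.δ χ * deg χ := by
  have h1 := D.rel θ hθ 1 (by rw [orderOf_one]; exact hp.not_dvd_one)
  simp only [deg_cast] at h1
  exact_mod_cast h1

theorem deg_Y (D : EtaBlock p P V e η) (hp : p.Prime) {θ θ' : IrrCharacter G} (hθ : θ ∈ D.Y)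
    (hθ' : θ' ∈ D.Y) : deg θ' = deg θ := by
  have h := D.sameY θ' hθ' θ hθ 1 (by rw [orderOf_one]; exact hp.not_dvd_one)
  rw [deg_cast, deg_cast] at h
  exact_mod_cast h

/-- The value of a non-exceptional member at an involution of `V` modulo `p`. -/
theorem val_congr [hp : Fact p.Prime] (D : EtaBlock p P V e η) (h : Setup p P V) (hp3 : 3 ≤ p)
    {χ : IrrCharacter G} (hχ : χ ∈ D.X) {s : V} (hs : orderOf (s : G) = 2) {a b : ℤ}
    (ha : (η : V → ℂ) s = (a : ℂ)) (hb : (χ : G → ℂ) (s : G) = (b : ℂ)) :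
    (p : ℤ) ∣ b - D.δ χ * a := by
  obtain ⟨x, hx, hx1⟩ : ∃ x ∈ P, x ≠ (1 : G) := by
    refine P.bot_or_exists_ne_one.resolve_left fun hb => ?_
    have := h.card
    rw [hb, Subgroup.card_bot] at this
    omega
  have hc := h.commute hx s.2
  have hs2 : (s : G) ^ 2 = 1 := hs ▸ pow_orderOf_eq_one _
  have hodd : p % 2 = 1 := (Nat.Prime.mod_two_eq_one_iff_ne_two hp.out).2 (by omega)
  have hsodd : ∀ n : ℕ, n % 2 = 1 → (s : G) ^ n = s := fun n hn => by
    conv_lhs => rw [← Nat.div_add_mod n 2, hn, pow_add, pow_mul, hs2, one_pow, one_mul, pow_one]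
  refine Order95040.value_congr (A := 2) (B := p) (g := x * (s : G)) hp.out.ne_zero ?_ χ
    (u := D.δ χ * a) (fun k hk hkp => ?_) ?_
  · refine orderOf_dvd_of_pow_eq_one ?_
    rw [hc.mul_pow, pow_mul, h.pow_eq_one hx, one_pow, one_mul, mul_comm, pow_mul, hs2, one_pow]
  · rw [hc.mul_pow, hsodd _ (by omega), pow_add, h.pow_eq_one hx, mul_one,
      D.valX χ hχ _ (Subgroup.pow_mem _ hx _) ?_ s, ha]
    · push_cast; ring
    · intro e1
      have h2 := orderOf_dvd_of_pow_eq_one e1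
      rw [h.orderOf_eq hx hx1] at h2
      rcases (Nat.Prime.dvd_mul hp.out).1 h2 with h3 | h3
      · exact absurd (Nat.le_of_dvd hk h3) (by omega)
      · have := Nat.le_of_dvd (by norm_num) h3
        omega
  · rw [hc.mul_pow, hsodd _ hodd, h.pow_eq_one hx, one_mul, hb]

end EtaBlock

end CfsgLib.Blocks.Order244823040
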