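import Cfsg.Agent.Lib.Blocks.Order244823040.SameCounts
import Cfsg.Agent.Lib.JankoFourFive.M24Five

/-!
# Order 244823040 with the counts of the Mathieu group: elements of order five are rational

An element of order `5 * m` determines its part of order 5, so the number of these elements is the
number of elements of order 5 times the number of elements of order `m` in a complement `V`. Hence
`V` has order 12 and the normalizer induces all automorphisms.
-/

set_option autoImplicit false
set_option maxRecDepth 20000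
set_option linter.unusedSimpArgs false

namespace CfsgLib.Blocks.Order244823040

open Cfsg CfsgLib CfsgLib.Blocks.PrimeSylow CfsgLib.Sporadic

section General

variable {M : Type*} [Group M] [Finite M] {p : ℕ}

/-- The elements of order `p * m`, from those of order `p` and the complement. -/
theorem cnt_mul_eq [hp : Fact p.Prime] {P V : Subgroup M} (h : Setup p P V)
    (hp2 : ¬ p ^ 2 ∣ Nat.card M) {m : ℕ} (hm : ¬ p ∣ m) :
    cnt M (p * m) = cnt M p * cnt V m := by
  classical
  have : Fintype M := Fintype.ofFinite M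
  have hm0 : 0 < m := Nat.pos_of_ne_zero fun e => hm (e ▸ dvd_zero p)
  obtain ⟨j, hj⟩ : ∃ j : ℕ, m * j % p = 1 := by
    obtain ⟨j, -, hj⟩ := Nat.exists_mul_mod_eq_one_of_coprime
      ((hp.out.coprime_iff_not_dvd.2 hm).symm) hp.out.one_lt
    exact ⟨j, hj⟩
  set Y := {g : M // orderOf g = p} with hY
  set X := {g : M // orderOf g = p * m} with hX
  have hpow : ∀ {g : M}, orderOf g = p * m → orderOf (g ^ m) = p := fun {g} hg => by
    rw [orderOf_pow_of_dvd hm0.ne' (hg ▸ dvd_mul_left m p), hg, Nat.mul_div_cancel _ hm0]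
  let f : X → Y := fun g => ⟨g.1 ^ m, hpow g.2⟩
  -- the fibre over an element of `P`
  have hP : ∀ a ∈ P, orderOf a = p →
      Nat.card {g : X // (g.1 : M) ^ m = a} = cnt V m := fun a ha hao => by
    have ha1 : a ≠ 1 := fun e => hp.out.ne_one (by rw [← hao, e, orderOf_one])
    set b := a ^ j with hb
    have hbm : b ^ m = a := by
      rw [hb, ← pow_mul, mul_comm j m, ← pow_mod_orderOf, hao, hj, pow_one]
    have hbP : b ∈ P := pow_mem ha j
    have hb1 : b ≠ 1 := fun e => ha1 (by rw [← hbm, e, one_pow])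
    have hord : ∀ v ∈ V, orderOf (b * v) = p * orderOf v := fun v hv => by
      rw [(h.commute hbP hv).orderOf_mul_eq_mul_orderOf_of_coprime, h.orderOf_eq hbP hb1]
      rw [h.orderOf_eq hbP hb1, hp.out.coprime_iff_not_dvd]
      exact h.not_dvd_orderOf hv
    rw [cnt]
    refine (Nat.card_congr (Equiv.ofBijective
      (fun v : {v : V // orderOf v = m} => (⟨⟨b * (v.1 : M), by
          rw [hord _ v.1.2, Subgroup.orderOf_coe, v.2]⟩, by
        have hvm : (v.1 : M) ^ m = 1 := by
          rw [← Subgroup.coe_pow, orderOf_dvd_iff_pow_eq_one.1 (dvd_of_eq v.2), Subgroup.coe_one]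
        show (b * (v.1 : M)) ^ m = a
        rw [(h.commute hbP v.1.2).mul_pow, hbm, hvm, mul_one]⟩ : {g : X // (g.1 : M) ^ m = a}))
      ⟨fun v w e => ?_, fun g => ?_⟩)).symm
    · exact Subtype.ext (Subtype.ext (mul_left_cancel (congrArg (fun t => (t.1.1 : M)) e)))
    · obtain ⟨⟨g, hg⟩, hga⟩ := g
      change g ^ m = a at hga
      have hgC : g ∈ Subgroup.centralizer (P : Set M) := by
        rw [← h.centralizer_singleton ha ha1, Subgroup.mem_centralizer_singleton_iff, ← hga]
        exact ((Commute.refl g).pow_right m).eq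
      obtain ⟨u, hu, v, hv, huv⟩ := h.exists_mul hgC
      have hu1 : u ≠ 1 := fun e => h.not_dvd_orderOf hv (by
        rw [show v = g by rw [← huv, e, one_mul], hg]; exact dvd_mul_right p m)
      have hvm : orderOf v = m := by
        have h1 : orderOf g = p * orderOf v := by
          rw [← huv, (h.commute hu hv).orderOf_mul_eq_mul_orderOf_of_coprime, h.orderOf_eq hu hu1]
          rw [h.orderOf_eq hu hu1, hp.out.coprime_iff_not_dvd]
          exact h.not_dvd_orderOf hv
        exact (Nat.eq_of_mul_eq_mul_left hp.out.pos (hg.symm.trans h1)).symm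
      have hub : u = b := by
        have h1 : u ^ m = a := by
          rw [← hga, ← huv, (h.commute hu hv).mul_pow, ← hvm, pow_orderOf_eq_one, mul_one]
        rw [hb, ← h1, ← pow_mul, ← pow_mod_orderOf, h.orderOf_eq hu hu1, hj, pow_one]
      refine ⟨⟨⟨v, hv⟩, by rw [← Subgroup.orderOf_coe]; exact hvm⟩, Subtype.ext (Subtype.ext ?_)⟩
      show b * v = g
      rw [← hub, huv]
  -- every fibre
  have hfib : ∀ y : Y, Nat.card {g : X // f g = y} = cnt V m := fun y => by
    obtain ⟨c, hc⟩ : ∃ c : M, c * y.1 * c⁻¹ ∈ P := by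
      obtain ⟨Q, hQ⟩ := Order95040.exists_sylow_mem y.2
      obtain ⟨P0, hP0⟩ := (IsPGroup.of_card (G := P) (n := 1)
        (by rw [h.card, pow_one])).exists_le_sylow
      have hP0e : P = (P0 : Subgroup M) := by
        refine Subgroup.eq_of_le_of_card_ge hP0 ?_
        rw [P0.card_eq_multiplicity, h.card]
        refine (Nat.pow_le_pow_right hp.out.pos ?_).trans_eq (pow_one p)
        by_contra hc
        exact hp2 ((pow_dvd_pow p (not_le.1 hc)).trans (Nat.ordProj_dvd _ p))
      obtain ⟨c, hc⟩ := MulAction.exists_smul_eq M Q P0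
      refine ⟨c, ?_⟩
      rw [hP0e, ← hc, Sylow.coe_subgroup_smul]
      exact Subgroup.mem_pointwise_smul_iff_inv_smul_mem.2 (by simpa [mul_assoc] using hQ)
    rw [← hP _ hc (by rw [CfsgLib.Perm.orderOf_conj_eq]; exact y.2)]
    refine Nat.card_congr
      { toFun := fun g => ⟨⟨c * g.1.1 * c⁻¹, (CfsgLib.Perm.orderOf_conj_eq c g.1.1).trans g.1.2⟩, ?_⟩
        invFun := fun g => ⟨⟨c⁻¹ * g.1.1 * c, by
          have := CfsgLib.Perm.orderOf_conj_eq c⁻¹ g.1.1
          rw [inv_inv] at this
          exact this.trans g.1.2⟩, ?_⟩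
        left_inv := fun g => Subtype.ext (Subtype.ext (by
          show c⁻¹ * (c * g.1.1 * c⁻¹) * c = g.1.1; group))
        right_inv := fun g => Subtype.ext (Subtype.ext (by
          show c * (c⁻¹ * g.1.1 * c) * c⁻¹ = g.1.1; group)) }
    · show (c * g.1.1 * c⁻¹) ^ m = _
      rw [conj_pow, show g.1.1 ^ m = y.1 from congrArg Subtype.val g.2]
    · refine Subtype.ext ?_
      show (c⁻¹ * g.1.1 * c) ^ m = y.1
      have := conj_pow (a := c⁻¹) (b := g.1.1) (i := m)
      rw [inv_inv] at this
      rw [this, g.2]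
      group
  calc cnt M (p * m) = Nat.card X := rfl
    _ = Nat.card (Σ y : Y, {g : X // f g = y}) :=
      (Nat.card_congr (Equiv.sigmaFiberEquiv f)).symm
    _ = cnt M p * cnt V m := by
      rw [Nat.card_sigma, Finset.sum_congr rfl (fun y _ => hfib y), Finset.sum_const, smul_eq_mul,
        Finset.card_univ, ← Nat.card_eq_fintype_card]
      rfl

/-- A normalizer inducing few of the powers is small. -/
theorem card_normalizer_le {x : M} {T : Finset M}
    (hT : ∀ n ∈ Subgroup.normalizer (Subgroup.zpowers x : Set M), n * x * n⁻¹ ∈ T) :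
    Nat.card (Subgroup.normalizer (Subgroup.zpowers x : Set M)) ≤
      T.card * Nat.card (Subgroup.centralizer ({x} : Set M)) := by
  classical
  have : Fintype M := Fintype.ofFinite M
  set N := Subgroup.normalizer (Subgroup.zpowers x : Set M) with hN
  set C := Subgroup.centralizer ({x} : Set M) with hC
  rw [Nat.card_eq_fintype_card, ← Finset.card_univ]
  refine le_trans (Finset.card_le_mul_card_image (f := fun n : N => (n : M) * x * (n : M)⁻¹) _
    (Nat.card C) fun y hy => ?_) ?_
  · obtain ⟨n₀, -, hn₀⟩ := Finset.mem_image.1 hy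
    rw [← Fintype.card_subtype, ← Nat.card_eq_fintype_card]
    refine Nat.card_le_card_of_injective
      (fun n : {n : N // (n : M) * x * (n : M)⁻¹ = y} => (⟨(n₀ : M)⁻¹ * (n.1 : M), by
        rw [Subgroup.mem_centralizer_singleton_iff]
        have e : (n.1 : M) * x * (n.1 : M)⁻¹ = (n₀ : M) * x * (n₀ : M)⁻¹ := n.2.trans hn₀.symm
        calc (n₀ : M)⁻¹ * n.1 * x = (n₀ : M)⁻¹ * ((n.1 : M) * x * (n.1 : M)⁻¹) * n.1 := by group
          _ = x * ((n₀ : M)⁻¹ * n.1) := by rw [e]; group⟩ : C))
      fun a b e => Subtype.ext (Subtype.ext (mul_left_cancel (congrArg Subtype.val e)))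
  · rw [mul_comm]
    refine Nat.mul_le_mul_right _ (Finset.card_le_card fun y hy => ?_)
    obtain ⟨n, -, rfl⟩ := Finset.mem_image.1 hy
    exact hT _ n.2

/-- The images of an element of order five under its normalizer. -/
theorem conj_mem_powers {x : M} (hx : orderOf x = 5) {n : M}
    (hn : n ∈ Subgroup.normalizer (Subgroup.zpowers x : Set M)) :
    ∃ k, 0 < k ∧ k < 5 ∧ n * x * n⁻¹ = x ^ k := by
  have h1 : n * x * n⁻¹ ∈ Subgroup.zpowers x :=
    (Subgroup.mem_normalizer_iff.1 hn x).1 (Subgroup.mem_zpowers x)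
  obtain ⟨k, hk⟩ := (isOfFinOrder_of_finite x).mem_powers_iff_mem_zpowers.2 h1
  change x ^ k = n * x * n⁻¹ at hk
  refine ⟨k % 5, Nat.pos_of_ne_zero fun e => ?_, Nat.mod_lt _ (by norm_num),
    by rw [← hk, ← hx, pow_mod_orderOf]⟩
  have h2 : orderOf (x ^ k) = 5 := by rw [hk, CfsgLib.Perm.orderOf_conj_eq, hx]
  rw [← pow_mod_orderOf, hx, e, pow_zero, orderOf_one] at h2
  omega

/-- Every power of the second is a conjugate if the normalizer is four times the centralizer. -/
theorem isConj_sq_of_card_normalizer {x : M} (hx : orderOf x = 5)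
    (hN : 4 * Nat.card (Subgroup.centralizer ({x} : Set M)) ≤
      Nat.card (Subgroup.normalizer (Subgroup.zpowers x : Set M))) : IsConj x (x ^ 2) := by
  classical
  by_contra hno
  have h := card_normalizer_le (x := x) (T := {x, x ^ 3, x ^ 4}) fun n hn => by
    obtain ⟨k, h0, h5, hk⟩ := conj_mem_powers hx hn
    have hk2 : k ≠ 2 := fun e => hno (isConj_iff.2 ⟨n, by rw [hk, e]⟩)
    rw [hk]
    interval_cases k
    · simp
    · exact absurd rfl hk2
    · simp
    · simp
  have hC : 0 < Nat.card (Subgroup.centralizer ({x} : Set M)) := Nat.card_pos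
  have := Nat.mul_le_mul_right (Nat.card (Subgroup.centralizer ({x} : Set M)))
    (Finset.card_le_three (a := x) (b := x ^ 3) (c := x ^ 4))
  omega

/-- Inversion pairs the elements of order at least three. -/
theorem even_cnt {n : ℕ} (hn : 3 ≤ n) : Even (cnt M n) := by
  classical
  have : Fact (Nat.Prime 2) := ⟨Nat.prime_two⟩
  have : Fintype {g : M // orderOf g = n} := Fintype.ofFinite _
  let f : Function.End {g : M // orderOf g = n} := fun g => ⟨g.1⁻¹, by rw [orderOf_inv]; exact g.2⟩
  have hf : f ^ 2 ^ 1 = 1 := by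
    funext g
    exact Subtype.ext (inv_inv g.1)
  have h := Equiv.Perm.card_fixedPoints_modEq (p := 2) (n := 1) hf
  have : IsEmpty (Function.fixedPoints f) := ⟨fun g => by
    have e : (g.1.1)⁻¹ = g.1.1 := congrArg Subtype.val (g.2 : f g.1 = g.1)
    have h2 : g.1.1 ^ 2 = 1 := by
      rw [sq]; nth_rewrite 1 [← e]; exact inv_mul_cancel _
    have hd := orderOf_dvd_of_pow_eq_one h2
    rw [g.1.2] at hd
    have := Nat.le_of_dvd (by norm_num) hd
    omega⟩
  rw [Fintype.card_eq_zero (α := Function.fixedPoints f)] at h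
  rw [cnt, Nat.card_eq_fintype_card, Nat.even_iff]
  exact h

end General

/-! ### the Mathieu group -/

/-- An element of order five with the two commuting involutions and the element of order three. -/
theorem exists_five : ∃ x t s v g : ↥M24, orderOf x = 5 ∧ g * x * g⁻¹ = x ^ 2 ∧
    Commute t x ∧ Commute v x ∧ orderOf t = 2 ∧ orderOf v = 3 ∧
    v * t * v⁻¹ = s ∧ Commute t s ∧ t ≠ s ∧
    v * s * v⁻¹ = t * s := by
  classical
  obtain ⟨x, hx⟩ := exists_M24_elt (p := 415925617635816767322916018478760564) (by decide +kernel)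
  obtain ⟨g, hg⟩ := exists_M24_elt (p := 983377834110069977561619132999380418) (by decide +kernel)
  obtain ⟨t, ht⟩ := exists_M24_elt (p := 376893060022291592314282867161454864) (by decide +kernel)
  obtain ⟨v, hv⟩ := exists_M24_elt (p := 402834268537830729097028804780739840) (by decide +kernel)
  obtain ⟨s, hs⟩ := exists_M24_elt (p := 856150538900566393940156896588831310) (by decide +kernel)
  have key : ∀ (u : ↥M24) (p q : ℕ) [Fact q.Prime], Rep (u : Equiv.Perm GolayPt) p →
      (Nat.beq (ppow p q) pone && ! Nat.beq (movedCount p) 0) = true → orderOf u = q := by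
    intro u p q _ hu h
    simp only [Bool.and_eq_true, Bool.not_eq_true'] at h
    refine orderOf_eq_prime (pow_eq_one_of_ppow hu h.1) fun e => ?_
    have h2 := h.2
    rw [Bool.eq_false_iff, ne_eq, Nat.beq_eq] at h2
    refine h2 ?_
    rw [← card_moved hu, Finset.card_eq_zero, Finset.filter_eq_empty_iff]
    intro y _
    rw [e]
    simp
  have eqp : ∀ (a b : ↥M24) (p q : ℕ), Rep (a : Equiv.Perm GolayPt) p →
      Rep (b : Equiv.Perm GolayPt) q → Nat.beq p q = true → a = b := fun a b p q ha hb h =>
    Subtype.ext ((Nat.eq_of_beq_eq_true h ▸ ha).unique hb)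
  have := Fact.mk Nat.prime_five
  have := Fact.mk Nat.prime_two
  have := Fact.mk Nat.prime_three
  refine ⟨x, t, s, v, g, key x _ 5 hx (by decide +kernel), conj_of_pmul hg hx (by decide +kernel),
    eqp _ _ _ _ (ht.mul hx) (hx.mul ht) (by decide +kernel),
    eqp _ _ _ _ (hv.mul hx) (hx.mul hv) (by decide +kernel),
    key t _ 2 ht (by decide +kernel), key v _ 3 hv (by decide +kernel),
    mul_inv_eq_iff_eq_mul.2 (eqp _ _ _ _ (hv.mul ht) (hs.mul hv) (by decide +kernel)),
    eqp _ _ _ _ (ht.mul hs) (hs.mul ht) (by decide +kernel),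
    fun e => ?_,
    mul_inv_eq_iff_eq_mul.2 (eqp _ _ _ _ (hv.mul hs) ((ht.mul hs).mul hv) (by decide +kernel))⟩
  have e1 := (e ▸ ht : Rep (s : Equiv.Perm GolayPt) _) (pt 0)
  rw [← hs (pt 0), ix_pt (by norm_num)] at e1
  revert e1
  decide +kernel

/-- The complement at five is alternating of degree four. -/
theorem mathieu_five_complement : ∃ (x : ↥M24) (V : Subgroup ↥M24),
    orderOf x = 5 ∧ Setup 5 (Subgroup.zpowers x) V ∧ Nat.card V = 12 ∧
    cnt V 2 = 3 ∧ cnt V 3 = 8 ∧
    Nat.card (Subgroup.normalizer (Subgroup.zpowers x : Set ↥M24)) = 240 := by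
  classical
  have := Fact.mk Nat.prime_five
  have hp2 : ¬ 5 ^ 2 ∣ Nat.card ↥M24 := by rw [M24_card']; norm_num
  obtain ⟨x, t, s, v, g, hx, hg, htx, hvx, ht, hv, hvts, hts, hne, hvs⟩ := exists_five
  have hx1 : x ≠ 1 := fun e => by simp [e] at hx
  obtain ⟨V, hV, hCV⟩ := exists_setup_zpowers hp2 hx
  have hC60 := CfsgLib.JankoFour.M24.card_centralizer_five hx
  have hmem : ∀ u : ↥M24, Commute u x → ¬ 5 ∣ orderOf u → u ∈ V := fun u hu h5 => by
    refine (hV.mem_V u).2 ⟨?_, h5⟩
    rw [← hV.centralizer_singleton (Subgroup.mem_zpowers x) hx1]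
    exact Subgroup.mem_centralizer_singleton_iff.2 hu.eq
  have htV := hmem t htx (by rw [ht]; norm_num)
  have hvV := hmem v hvx (by rw [hv]; norm_num)
  have hsV : s ∈ V := hvts ▸ mul_mem (mul_mem hvV htV) (inv_mem hvV)
  have hs : orderOf s = 2 := by rw [← hvts, CfsgLib.Perm.orderOf_conj_eq, ht]
  have htt : t * t = 1 := by rw [← sq, ← ht, pow_orderOf_eq_one]
  have hss : s * s = 1 := by rw [← sq, ← hs, pow_orderOf_eq_one]
  have ht1 : t ≠ 1 := fun e => by simp [e] at ht
  have hs1 : s ≠ 1 := fun e => by simp [e] at hs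
  have hts1 : t * s ≠ 1 := fun e => hne (by
    rw [← mul_one t, ← hss, ← mul_assoc, e, one_mul])
  have hts2 : orderOf (t * s) = 2 := by
    rw [← hvs, CfsgLib.Perm.orderOf_conj_eq, hs]
  -- the twelve words
  let K : Fin 4 → ↥M24 := ![1, t, s, t * s]
  have hK2 : ∀ i, i ≠ 0 → orderOf (K i) = 2 := fun i hi => by
    fin_cases i
    · exact absurd rfl hi
    · exact ht
    · exact hs
    · exact hts2
  have hKinj : Function.Injective K := fun i k e => by
    fin_cases i <;> fin_cases k <;> simp [K] at e <;>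
      first
      | rfl
      | exact absurd e.symm ht1 | exact absurd e ht1
      | exact absurd e.symm hs1 | exact absurd e hs1
      | exact absurd e.symm hts1 | exact absurd e hts1
      | exact absurd e hne | exact absurd e.symm hne
  -- conjugation by the element of order three permutes the three involutions
  have hcyc : ∀ i : Fin 4, i ≠ 0 → v * K i * v⁻¹ ≠ K i := fun i hi => by
    fin_cases i
    · exact absurd rfl hi
    · show v * t * v⁻¹ ≠ t
      rw [hvts]; exact hne.symm
    · show v * s * v⁻¹ ≠ s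
      rw [hvs]; exact fun e => ht1 (mul_eq_right.1 e)
    · show v * (t * s) * v⁻¹ ≠ t * s
      rw [← conj_mul, hvts, hvs]
      intro e
      have e2 : s = 1 := by
        have h1 : s * (t * s) = t := by rw [← mul_assoc, ← hts.eq, mul_assoc, hss, mul_one]
        rw [h1] at e
        exact mul_eq_left.1 e.symm
      exact hs1 e2
  have hvK : ∀ (i : Fin 4) (w : ↥M24), (w = v ∨ w = v⁻¹) →
      K i * w * (K i)⁻¹ = w → i = 0 := fun i w hw e => by
    by_contra hi
    refine hcyc i hi ?_
    have hc : Commute (K i) w := mul_inv_eq_iff_eq_mul.1 e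
    have hc' : Commute (K i) v := by
      rcases hw with rfl | rfl
      · exact hc
      · simpa using hc.inv_right
    rw [← hc'.eq, mul_inv_cancel_right]
  have hord3 : ∀ (i : Fin 4) (w : ↥M24), (w = v ∨ w = v⁻¹) → orderOf (K i * w * (K i)⁻¹) = 3 :=
    fun i w hw => by
      rw [CfsgLib.Perm.orderOf_conj_eq]
      rcases hw with rfl | rfl
      · exact hv
      · rw [orderOf_inv, hv]
  have hKV : ∀ i, K i ∈ V := fun i => by
    fin_cases i
    · exact one_mem V
    · exact htV
    · exact hsV
    · exact mul_mem htV hsV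
  have h3le : 8 ≤ cnt V 3 := by
    let F : Fin 4 × Bool → {u : V // orderOf u = 3} := fun q =>
      ⟨⟨K q.1 * (bif q.2 then v else v⁻¹) * (K q.1)⁻¹, mul_mem (mul_mem (hKV _) (by
          cases q.2
          · exact inv_mem hvV
          · exact hvV)) (inv_mem (hKV _))⟩, by
        rw [← Subgroup.orderOf_coe]
        exact hord3 _ _ (by cases q.2 <;> simp)⟩
    have hF : Function.Injective F := fun q r e => by
      have e' : K q.1 * (bif q.2 then v else v⁻¹) * (K q.1)⁻¹ =
          K r.1 * (bif r.2 then v else v⁻¹) * (K r.1)⁻¹ :=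
        congrArg (fun u : {u : V // orderOf u = 3} => ((u.1 : V) : ↥M24)) e
      -- the difference lies in the four group, which is normalised by `v`
      obtain ⟨l, hl⟩ : ∃ l : Fin 4, (K r.1)⁻¹ * K q.1 = K l := by
        rcases q with ⟨a, b⟩
        rcases r with ⟨c, d⟩
        have hit : t⁻¹ = t := inv_eq_of_mul_eq_one_right htt
        have his : s⁻¹ = s := inv_eq_of_mul_eq_one_right hss
        have hst : s * t = t * s := hts.eq.symm
        have h1 : ∀ w : ↥M24, t * (t * w) = w := fun w => by rw [← mul_assoc, htt, one_mul]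
        have h2 : ∀ w : ↥M24, s * (t * w) = t * (s * w) := fun w => by
          rw [← mul_assoc, hst, mul_assoc]
        have h3 : ∀ w : ↥M24, s * (s * w) = w := fun w => by rw [← mul_assoc, hss, one_mul]
        fin_cases a <;> fin_cases c <;>
          first
          | (refine ⟨0, ?_⟩; simp [K, hit, his, hst, htt, hss, h1, h2, h3, mul_assoc]; done)
          | (refine ⟨1, ?_⟩; simp [K, hit, his, hst, htt, hss, h1, h2, h3, mul_assoc]; done)
          | (refine ⟨2, ?_⟩; simp [K, hit, his, hst, htt, hss, h1, h2, h3, mul_assoc]; done)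
          | (refine ⟨3, ?_⟩; simp [K, hit, his, hst, htt, hss, h1, h2, h3, mul_assoc]; done)
      have e2 : K l * (bif q.2 then v else v⁻¹) * (K l)⁻¹ = bif r.2 then v else v⁻¹ := by
        rw [← hl, mul_inv_rev, inv_inv]
        calc (K r.1)⁻¹ * K q.1 * (bif q.2 then v else v⁻¹) * ((K q.1)⁻¹ * K r.1)
            = (K r.1)⁻¹ * (K q.1 * (bif q.2 then v else v⁻¹) * (K q.1)⁻¹) * K r.1 := by group
          _ = _ := by rw [e']; group
      by_cases hb : q.2 = r.2
      · have h0 : l = 0 := hvK l (bif r.2 then v else v⁻¹) (by cases r.2 <;> simp)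
            (by rw [hb] at e2; exact e2)
        rw [h0] at hl
        have h00 : (K r.1)⁻¹ * K q.1 = 1 := hl
        exact Prod.ext (hKinj (inv_mul_eq_one.1 h00).symm) hb
      · exfalso
        -- a member of the four group would invert `v`
        have hinv : K l * v * (K l)⁻¹ = v⁻¹ := by
          cases h1 : q.2 <;> cases h2 : r.2 <;> rw [h1, h2] at hb e2
          · exact absurd rfl hb
          · have := congrArg (fun u => u⁻¹) e2
            simpa [mul_assoc] using this
          · exact e2
          · exact absurd rfl hb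
        have hl0 : l ≠ 0 := fun h0 => by
          have h00 : v = v⁻¹ := by simpa [h0, K] using hinv
          have : v ^ 2 = 1 := by
            rw [sq]; nth_rewrite 1 [h00]; exact inv_mul_cancel v
          have := orderOf_dvd_of_pow_eq_one this
          rw [hv] at this
          norm_num at this
        have hl2 : K l * K l = 1 := by rw [← sq, ← hK2 l hl0, pow_orderOf_eq_one]
        have hii : (K l)⁻¹ = K l := inv_eq_of_mul_eq_one_right hl2
        refine hcyc l hl0 ?_
        -- `v` fixes `K l`
        obtain ⟨l', hl'⟩ : ∃ l', v * K l * v⁻¹ = K l' := by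
          fin_cases l
          · exact ⟨0, by simp [K]⟩
          · exact ⟨2, hvts⟩
          · exact ⟨3, hvs⟩
          · refine ⟨1, ?_⟩
            show v * (t * s) * v⁻¹ = t
            rw [← conj_mul, hvts, hvs, ← mul_assoc, ← hts.eq, mul_assoc, hss, mul_one]
        have e3 : v * (K l) * v⁻¹ = K l * (v⁻¹ * v⁻¹) := by
          calc v * (K l) * v⁻¹ = K l * (K l * v * (K l)⁻¹) * v⁻¹ := by
                rw [hii, ← mul_assoc, ← mul_assoc, hl2, one_mul]
            _ = _ := by rw [hinv]; group
        have e4 : K l * K l' = v⁻¹ * v⁻¹ := by rw [← hl', e3, ← mul_assoc, hl2, one_mul]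
        have h6 : (v⁻¹ * v⁻¹) * (v⁻¹ * v⁻¹) = 1 := by
          rw [← e4]
          obtain ⟨l'', hl''⟩ : ∃ l'', K l * K l' = K l'' := by
            have hst : s * t = t * s := hts.eq.symm
            have h1 : ∀ w : ↥M24, t * (t * w) = w := fun w => by rw [← mul_assoc, htt, one_mul]
            have h2 : ∀ w : ↥M24, s * (t * w) = t * (s * w) := fun w => by
              rw [← mul_assoc, hst, mul_assoc]
            have h3 : ∀ w : ↥M24, s * (s * w) = w := fun w => by rw [← mul_assoc, hss, one_mul]
            fin_cases l <;> fin_cases l' <;>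
              first
              | (refine ⟨0, ?_⟩; simp [K, hst, htt, hss, h1, h2, h3, mul_assoc]; done)
              | (refine ⟨1, ?_⟩; simp [K, hst, htt, hss, h1, h2, h3, mul_assoc]; done)
              | (refine ⟨2, ?_⟩; simp [K, hst, htt, hss, h1, h2, h3, mul_assoc]; done)
              | (refine ⟨3, ?_⟩; simp [K, hst, htt, hss, h1, h2, h3, mul_assoc]; done)
          rw [hl'']
          by_cases h0 : l'' = 0
          · simp [h0, K]
          · rw [← sq, ← hK2 l'' h0, pow_orderOf_eq_one]
        have h7 : v ^ 4 = 1 := by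
          have := congrArg (fun u => u⁻¹) h6
          simpa [pow_succ, mul_assoc] using this
        have := orderOf_dvd_of_pow_eq_one h7
        rw [hv] at this
        norm_num at this
    have := Nat.card_le_card_of_injective F hF
    rwa [Nat.card_prod, Nat.card_eq_fintype_card, Nat.card_eq_fintype_card, Fintype.card_fin,
      Fintype.card_bool] at this
  have h2le : 3 ≤ cnt V 2 := by
    let F : Fin 3 → {u : V // orderOf u = 2} := fun i =>
      ⟨⟨K i.succ, hKV _⟩, by rw [← Subgroup.orderOf_coe]; exact hK2 _ (Fin.succ_ne_zero i)⟩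
    have hF : Function.Injective F := fun i k e => Fin.succ_injective _ (hKinj
      (congrArg (fun u : {u : V // orderOf u = 2} => ((u.1 : V) : ↥M24)) e))
    have := Nat.card_le_card_of_injective F hF
    rwa [Nat.card_eq_fintype_card, Fintype.card_fin] at this
  have hV12 : Nat.card V ≤ 12 := by omega
  -- the total
  have : Fintype V := Fintype.ofFinite V
  have hcnt : ∀ n, cnt V n = ((Finset.univ : Finset V).filter fun u => orderOf u = n).card :=
    fun n => by rw [cnt, Nat.card_eq_fintype_card, Fintype.card_subtype]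
  have hsum : cnt V 1 + cnt V 2 + cnt V 3 ≤ Nat.card V := by
    have h := Finset.card_le_card (Finset.subset_univ
      ((Finset.univ : Finset V).filter fun u => orderOf u = 1 ∨ orderOf u = 2 ∨ orderOf u = 3))
    rw [Finset.filter_or, Finset.filter_or, Finset.card_union_of_disjoint,
      Finset.card_union_of_disjoint, Finset.card_univ] at h
    · rw [hcnt, hcnt, hcnt, Nat.card_eq_fintype_card]
      omega
    · exact Finset.disjoint_filter.2 fun u _ e => by omega
    · refine Finset.disjoint_union_right.2 ⟨?_, ?_⟩ <;>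
        exact Finset.disjoint_filter.2 fun u _ e => by omega
  have h1 := cnt_one_eq (M := V)
  have hcard : Nat.card V = 12 := by omega
  refine ⟨x, V, hx, hV, hcard, by omega, by omega, ?_⟩
  refine le_antisymm ?_ ?_
  · refine (card_normalizer_le (x := x) (T := (Finset.Ico 1 5).image fun k => x ^ k)
      fun n hn => ?_).trans ?_
    · obtain ⟨k, h0, h5, hk⟩ := conj_mem_powers hx hn
      exact Finset.mem_image.2 ⟨k, Finset.mem_Ico.2 ⟨by omega, h5⟩, hk.symm⟩
    · rw [hCV, hcard]
      exact (Nat.mul_le_mul_right _ (Finset.card_image_le.trans (le_of_eq (by simp)) :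
        _ ≤ 4)).trans (by norm_num)
  · have := mul_card_centralizer_le (m := 4) hx hg (by decide +kernel)
    rw [hCV, hcard] at this
    omega

/-- Residues modulo 5, and the three multiples of the number of elements of order five. -/
theorem mathieu_mod5 (n : ℕ) :
    (cnt ↥M24 n % 5 = if n = 1 then 1 else if n = 2 ∨ n = 3 then 3 else if n = 5 then 4 else
      if n = 10 ∨ n = 15 then 2 else 0) ∧
      cnt ↥M24 5 = 4080384 ∧ cnt ↥M24 10 = 3 * 4080384 ∧ cnt ↥M24 15 = 8 * 4080384 := by
  classical
  have := Fact.mk Nat.prime_five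
  have hp2 : ¬ 5 ^ 2 ∣ Nat.card ↥M24 := by rw [M24_card']; norm_num
  obtain ⟨x, V, hx, hV, h12, c2, c3, hN⟩ := mathieu_five_complement
  have hx1 : x ≠ 1 := fun e => by simp [e] at hx
  have h5 : cnt ↥M24 5 = 4080384 := by
    have h := cnt_prime_mul hp2 hx
    rw [M24_card', hN] at h
    omega
  have c0 : ∀ m, m ≠ 1 → m ≠ 2 → m ≠ 3 → cnt V m = 0 := fun m h1 h2 h3 => by
    have : Fintype V := Fintype.ofFinite V
    have h := Finset.card_le_card (Finset.subset_univ
      ((Finset.univ : Finset V).filter fun u =>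
        orderOf u = m ∨ orderOf u = 1 ∨ orderOf u = 2 ∨ orderOf u = 3))
    have hone := cnt_one_eq (M := V)
    have hcnt : ∀ n, cnt V n = ((Finset.univ : Finset V).filter fun u => orderOf u = n).card :=
      fun n => by rw [cnt, Nat.card_eq_fintype_card, Fintype.card_subtype]
    rw [Finset.filter_or, Finset.filter_or, Finset.filter_or, Finset.card_union_of_disjoint,
      Finset.card_union_of_disjoint, Finset.card_union_of_disjoint, Finset.card_univ] at h
    · rw [Nat.card_eq_fintype_card] at h12
      rw [hcnt] at c2 c3 hone ⊢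
      omega
    · exact Finset.disjoint_filter.2 fun u _ e => by omega
    · refine Finset.disjoint_union_right.2 ⟨?_, ?_⟩ <;>
        exact Finset.disjoint_filter.2 fun u _ e => by omega
    · refine Finset.disjoint_union_right.2 ⟨?_, Finset.disjoint_union_right.2 ⟨?_, ?_⟩⟩ <;>
        exact Finset.disjoint_filter.2 fun u _ e => by omega
  have hval : ∀ m, cnt V m = if m = 1 then 1 else if m = 2 then 3 else if m = 3 then 8 else 0 :=
    fun m => by
      split_ifs with h1 h2 h3
      · rw [h1]; exact cnt_one_eq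
      · rw [h2]; exact c2
      · rw [h3]; exact c3
      · exact c0 m h1 h2 h3
  refine ⟨?_, h5, ?_, ?_⟩
  · rw [cnt_mod hx, cnt_centralizer hV (Subgroup.mem_zpowers x) hx1, hval, hval]
    by_cases hd : 5 ∣ n
    · obtain ⟨m, rfl⟩ := hd
      rw [if_pos (dvd_mul_right 5 m), Nat.mul_div_cancel_left _ (by norm_num : 0 < 5)]
      split_ifs <;> omega
    · rw [if_neg hd]
      split_ifs <;> omega
  · rw [show (10 : ℕ) = 5 * 2 from rfl, cnt_mul_eq hV hp2 (by norm_num), h5, c2, mul_comm]
  · rw [show (15 : ℕ) = 5 * 3 from rfl, cnt_mul_eq hV hp2 (by norm_num), h5, c3, mul_comm]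

/-! ### the group with the counts -/

variable {G : Type*} [Group G] [Fintype G] [IsSimpleGroup G]

/-- An element of order five is conjugate to its square. -/
theorem isConj_sq_of_orderOf_five (hG : Nat.card G = ord) (hC : CountsLike G) :
    ∀ u : G, orderOf u = 5 → IsConj u (u ^ 2) := by
  classical
  intro u hu
  have := Fact.mk Nat.prime_five
  have hp2 : ¬ 5 ^ 2 ∣ Nat.card G := by rw [hG, ord]; norm_num
  obtain ⟨L⟩ := exists_local hG (p := 5) (Or.inl rfl)
  obtain ⟨x, hx, hxP, hx1, hPx⟩ := L.exists_gen hG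
  obtain ⟨hr5, h05⟩ := cnt_prime_mod hG (p := 5) (Or.inl rfl)
  obtain ⟨k₀, hk₀⟩ := hC.1 5 h05
  have h5 : cnt G 5 = 4080384 := by
    obtain ⟨h2, h3, -, -⟩ := mathieu_mod5 k₀
    rw [hk₀, h2] at hr5
    split_ifs at hr5 with e1 e2 e3 e4
    all_goals first | omega | (rw [hk₀, e3]; exact h3)
  have hec : L.e * Nat.card L.V = 48 := by
    have h := L.mul_normalizer hG (by rw [ord]; norm_num)
    rw [h5, ord] at h
    refine Nat.eq_of_mul_eq_mul_left (show 0 < 4080384 * 5 by norm_num) ?_
    rw [show 4080384 * 5 * 48 = (5 - 1) * 244823040 by norm_num, ← h]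
    ring
  -- the counts in the complement
  have hj : ∀ m, ¬ 5 ∣ m → m ≠ 1 → cnt L.V m % 5 = 0 ∨ cnt L.V m = 1 ∨ cnt L.V m = 3 ∨
      cnt L.V m = 8 := fun m hm hm1 => by
    by_cases h0 : cnt L.V m = 0
    · exact Or.inl (by omega)
    have hmul := cnt_mul_eq L.setup hp2 hm
    rw [h5] at hmul
    obtain ⟨k, hk⟩ := hC.1 (5 * m) (by rw [hmul]; positivity)
    obtain ⟨r5, v5, v10, v15⟩ := mathieu_mod5 k
    obtain ⟨r7, -⟩ := mathieu_mod7 k
    rw [← hk, hmul] at r5 r7
    split_ifs at r5 with e1 e2 e3 e4
    · rw [if_pos e1] at r7; omega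
    · rcases e2 with e2 | e2 <;> subst e2 <;> norm_num at r7 <;> omega
    · rw [hk, e3, v5] at hmul; exact Or.inr (Or.inl (by omega))
    · rcases e4 with e4 | e4 <;> subst e4
      · rw [hk, v10] at hmul; exact Or.inr (Or.inr (Or.inl (by omega)))
      · rw [hk, v15] at hmul; exact Or.inr (Or.inr (Or.inr (by omega)))
    · exact Or.inl (by omega)
  have hex : ∀ c, c = 3 ∨ c = 8 → ∃ m, ¬ 5 ∣ m ∧ cnt L.V m = c := fun c hc => by
    obtain ⟨n, hn⟩ : ∃ n, cnt G n = c * 4080384 := by
      obtain ⟨-, -, v10, v15⟩ := mathieu_mod5 0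
      rcases hc with rfl | rfl
      · obtain ⟨n, hn⟩ := hC.2 10 (by omega); exact ⟨n, hn.trans v10⟩
      · obtain ⟨n, hn⟩ := hC.2 15 (by omega); exact ⟨n, hn.trans v15⟩
    have hn1 : n ≠ 1 := fun e => by
      rw [e, cnt_one_eq] at hn; omega
    by_cases hd : 5 ∣ n
    · obtain ⟨m, rfl⟩ := hd
      have hm : ¬ 5 ∣ m := fun h' => by
        have h25 : 5 ^ 2 ∣ 5 * m := by rw [sq]; exact mul_dvd_mul_left 5 h'
        rw [cnt_eq_zero (fun h'' => hp2 (h25.trans h''))] at hn
        omega
      refine ⟨m, hm, ?_⟩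
      rw [cnt_mul_eq L.setup hp2 hm, h5] at hn
      omega
    · exfalso
      have h2 := cnt_mod (M := G) hx n
      rw [cnt_centralizer L.setup hxP hx1, if_neg hd, hn] at h2
      rcases hj n hd hn1 with e | e | e | e <;> rcases hc with rfl | rfl <;> omega
  obtain ⟨m8, -, h8⟩ := hex 8 (Or.inr rfl)
  obtain ⟨m3, -, h3⟩ := hex 3 (Or.inl rfl)
  have hm3 : m3 = 2 := by
    have h1 : m3 ≠ 1 := fun e => by rw [e, cnt_one_eq] at h3; omega
    have h0 : m3 ≠ 0 := fun e => by
      rw [e, cnt_eq_zero (fun h => Nat.card_pos.ne' (Nat.zero_dvd.1 h))] at h3; omega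
    by_contra h2
    obtain ⟨r, hr⟩ := even_cnt (M := L.V) (n := m3) (by omega)
    omega
  subst hm3
  have he1 : L.e ≠ 1 := L.data.e_ne_one (perfect hG) L.triv (by norm_num)
  have hd : L.e ∣ 4 := L.data.dvd_e
  have he4 : L.e = 4 := by
    have hle := Nat.le_of_dvd (by norm_num) hd
    interval_cases hE : L.e
    all_goals try omega
    -- the case of a complement of order 24
    exfalso
    have h24 : Nat.card L.V = 24 := by omega
    have : Fintype L.V := Fintype.ofFinite _
    have hsum : (24 : ℕ).divisors.sum (fun m => cnt L.V m) = 24 := by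
      refine Eq.trans ?_ h24
      rw [Nat.card_eq_fintype_card, ← Finset.card_univ, Finset.card_eq_sum_card_fiberwise
        (f := orderOf) (t := (24 : ℕ).divisors) (fun g _ =>
          Nat.mem_divisors.2 ⟨h24 ▸ orderOf_dvd_natCard g, by norm_num⟩)]
      exact Finset.sum_congr rfl fun m _ => by
        rw [cnt, Nat.card_eq_fintype_card, Fintype.card_subtype]
    rw [show (24 : ℕ).divisors = {1, 2, 3, 4, 6, 8, 12, 24} from by decide] at hsum
    simp only [Finset.sum_insert, Finset.mem_insert, Finset.mem_singleton, Nat.reduceEqDiff, or_self,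
      not_false_eq_true, Finset.sum_singleton] at hsum
    rw [cnt_one_eq, h3] at hsum
    have hev : ∀ m, 3 ≤ m → ¬ 5 ∣ m → (cnt L.V m = 8 ∨ cnt L.V m % 5 = 0) ∧
        cnt L.V m % 2 = 0 := fun m hm hm5 => by
      have he := Nat.even_iff.1 (even_cnt (M := L.V) hm)
      rcases hj m hm5 (by omega) with e | e | e | e <;> omega
    have hm8 : m8 ∣ 24 := by
      by_contra h'
      rw [cnt_eq_zero (by rwa [h24])] at h8
      omega
    have := hev 3 (by norm_num) (by norm_num)
    have := hev 4 (by norm_num) (by norm_num)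
    have := hev 6 (by norm_num) (by norm_num)
    have := hev 8 (by norm_num) (by norm_num)
    have := hev 12 (by norm_num) (by norm_num)
    have := hev 24 (by norm_num) (by norm_num)
    have hm8' : m8 ∈ ({1, 2, 3, 4, 6, 8, 12, 24} : Finset ℕ) := by
      rw [show ({1, 2, 3, 4, 6, 8, 12, 24} : Finset ℕ) = (24 : ℕ).divisors from by decide]
      exact Nat.mem_divisors.2 ⟨hm8, by norm_num⟩
    simp only [Finset.mem_insert, Finset.mem_singleton] at hm8'
    rcases hm8' with e | e | e | e | e | e | e | e <;> subst e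
    · rw [cnt_one_eq] at h8; omega
    all_goals omega
  -- every element of order five
  refine isConj_sq_of_card_normalizer hu ?_
  obtain ⟨V, hV, hCV⟩ := exists_setup_zpowers hp2 hu
  have h1 := cnt_prime_mul hp2 hu
  rw [h5, hG, ord] at h1
  have hV' : Nat.card (Subgroup.centralizer ({u} : Set G)) =
      Nat.card (Subgroup.centralizer ({x} : Set G)) := by
    obtain ⟨Q, hQ⟩ := Order95040.exists_sylow_mem hu
    obtain ⟨v, hv, hc⟩ : ∃ v ∈ Subgroup.zpowers x, IsConj u v := by
      obtain ⟨Q', hQ'⟩ := Order95040.exists_sylow_mem hx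
      obtain ⟨c, hc⟩ := MulAction.exists_smul_eq G Q Q'
      refine ⟨c * u * c⁻¹, ?_, isConj_iff.2 ⟨c, rfl⟩⟩
      rw [show Subgroup.zpowers x = (Q' : Subgroup G) from Subgroup.eq_of_le_of_card_ge
        (Subgroup.zpowers_le.2 hQ') (le_of_eq (by rw [card_sylow hG (Or.inl rfl) Q',
          Nat.card_zpowers, hx])), ← hc, Sylow.coe_subgroup_smul]
      exact Subgroup.mem_pointwise_smul_iff_inv_smul_mem.2 (by simpa [mul_assoc] using hQ)
    obtain ⟨c, hc⟩ := isConj_iff.1 hc
    have hv1 : v ≠ 1 := fun e => by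
      rw [e, mul_inv_eq_one] at hc
      simp [mul_eq_left.1 hc] at hu
    rw [show Subgroup.centralizer ({x} : Set G) = Subgroup.centralizer ({v} : Set G) by
      rw [L.setup.centralizer_singleton hxP hx1,
        L.setup.centralizer_singleton (hPx ▸ hv) hv1]]
    refine Nat.card_congr (Equiv.subtypeEquiv (MulAut.conj c).toEquiv fun a => ?_)
    rw [Subgroup.mem_centralizer_singleton_iff, Subgroup.mem_centralizer_singleton_iff, ← hc]
    show a * u = u * a ↔ c * a * c⁻¹ * (c * u * c⁻¹) = c * u * c⁻¹ * (c * a * c⁻¹)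
    rw [conj_mul, conj_mul, mul_left_inj, mul_right_inj]
  have hCx : Nat.card (Subgroup.centralizer ({x} : Set G)) = 5 * Nat.card L.V := by
    rw [L.setup.centralizer_singleton hxP hx1, L.setup.card_centralizer]
  have h12 : Nat.card L.V = 12 := by rw [he4] at hec; omega
  rw [hV', hCx, h12]
  omega

end CfsgLib.Blocks.Order244823040
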