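import Cfsg.Agent.Lib.Blocks.Order244823040.Columns

/-!
# A character of degree 23 gives a subgroup of index 24, order 244823040

The normalizer of a Sylow subgroup of order 23 fixes a line in the representation of degree 23,
the subgroup `11 : 5` of the normalizer of a Sylow subgroup of order 11 fixes the same subspace
as its Sylow subgroup, and the stabilizer of that line has order 10200960.
-/

set_option autoImplicit false

namespace CfsgLib.Blocks.Order244823040

open Cfsg CfsgLib CfsgLib.Char CfsgLib.CharIntegral CfsgLib.Blocks.PrimeSylow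
open CfsgLib.Blocks.Order95040 (deg cent deg_cast deg_trivChar deg_eq_finrank)
open scoped Classical ComplexConjugate Pointwise

/-- The numbers that can be orders of the stabilizer. -/
def stabChk : Bool :=
  divs.all fun k => k % 1265 != 0 || decide (ord < 23 * k) || (k / 253) % 23 != 1 || k == 10200960
    || ((k / 55) % 11 != 1 && (k % 110 != 0 || (k / 110) % 11 != 1))

theorem stab_chk : stabChk = true := by decide +kernel

theorem stab_eq {k : ℕ} (hd : k ∣ ord) (h0 : 1265 ∣ k) (hle : 23 * k ≤ ord)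
    (h23 : (k / 253) % 23 = 1)
    (h11 : (k / 55) % 11 = 1 ∨ (110 ∣ k ∧ (k / 110) % 11 = 1)) : k = 10200960 := by
  have h := List.all_eq_true.1 stab_chk k (mem_divs hd)
  simp only [Bool.or_eq_true, Bool.and_eq_true, bne_iff_ne, ne_eq, decide_eq_true_eq,
    beq_iff_eq] at h
  rw [Nat.dvd_iff_mod_eq_zero] at h0
  rcases h with (((h | h) | h) | h) | ⟨ha, hb⟩
  · exact absurd h0 h
  · omega
  · exact absurd h23 h
  · exact h
  · rcases h11 with h11 | ⟨h110, h11⟩
    · exact absurd h11 ha
    · exact (hb.elim (fun e => e (Nat.mod_eq_zero_of_dvd h110)) fun e => e h11).elim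

variable {G : Type*} [Group G] [Fintype G]

omit [Fintype G] in
/-- A character is constant on a class. -/
theorem char_of_conj {χ : IrrCharacter G} {g a : G} (h : IsConj g a) :
    (χ : G → ℂ) g = (χ : G → ℂ) a := by
  obtain ⟨c, rfl⟩ := isConj_iff.1 h
  exact (IsIrr.isClassFunction χ.2 g c).symm

/-- The sum of a character over a subgroup. -/
theorem sum_subgroup_char {n : ℕ} (ρ : Representation ℂ G (Fin n → ℂ)) (U : Subgroup G)
    [Fintype U] : ∑ u : U, ρ.character (u : G) =
      (Nat.card U : ℂ) *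
        (Module.finrank ℂ (Representation.invariants (ρ.comp U.subtype)) : ℂ) := by
  have : Invertible (Nat.card U : ℂ) :=
    invertibleOfNonzero (Nat.cast_ne_zero.2 Nat.card_pos.ne')
  have h := FDRep.average_char_eq_finrank_invariants (FDRep.of (ρ.comp U.subtype))
  rw [inv_mul_eq_iff_eq_mul₀ (Nat.cast_ne_zero.2 Nat.card_pos.ne')] at h
  exact h

omit [Fintype G] in
/-- The sum of a function constant on a subgroup without the unit and outside it. -/
theorem sum_two {P H : Subgroup G} [Fintype H] (hP : P ≤ H) (f : G → ℂ) {a b : ℂ}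
    (ha : ∀ x ∈ P, x ≠ 1 → f x = a) (hb : ∀ x ∈ H, x ∉ P → f x = b) :
    ∑ g : H, f g = f 1 + ((Nat.card P : ℂ) - 1) * a + ((Nat.card H : ℂ) - Nat.card P) * b := by
  have e : ∀ g : H, f g = b + (if (g : G) ∈ P then a - b else 0) +
      (if g = 1 then f 1 - a else 0) := by
    intro g
    by_cases h1 : g = 1
    · subst h1
      rw [if_pos (by simp), if_pos rfl]
      simp
    · rw [if_neg h1, add_zero]
      by_cases h2 : (g : G) ∈ P
      · rw [if_pos h2, ha _ h2 fun e => h1 (Subtype.ext e)]
        ring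
      · rw [if_neg h2, hb _ g.2 h2, add_zero]
  have hcard : ((Finset.univ.filter fun g : H => (g : G) ∈ P).card : ℂ) = Nat.card P := by
    rw [← Fintype.card_subtype, ← Nat.card_eq_fintype_card]
    exact_mod_cast Nat.card_congr (Subgroup.subgroupOfEquivOfLe hP).toEquiv
  rw [Finset.sum_congr rfl fun g _ => e g, Finset.sum_add_distrib, Finset.sum_add_distrib,
    Finset.sum_const, ← Finset.sum_filter, Finset.sum_const, Finset.sum_ite_eq',
    Finset.card_univ, if_pos (Finset.mem_univ _), ← Nat.card_eq_fintype_card, nsmul_eq_mul,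
    nsmul_eq_mul, hcard]
  ring

omit [Fintype G] in
/-- Larger subgroups fix less. -/
theorem invariants_anti {n : ℕ} (ρ : Representation ℂ G (Fin n → ℂ)) {P H : Subgroup G}
    (h : P ≤ H) : Representation.invariants (ρ.comp H.subtype) ≤
      Representation.invariants (ρ.comp P.subtype) :=
  fun _ hv g => hv ⟨g, h g.2⟩

/-- Sylow counting in a subgroup. -/
theorem count_in {p : ℕ} [Fact p.Prime] {S R : Subgroup G} (hR : Nat.card R = p) (hRS : R ≤ S)
    (hp2 : ¬ p ^ 2 ∣ Nat.card S) :
    ∃ n, n % p = 1 ∧ n * Nat.card (S ⊓ Subgroup.normalizer (R : Set G) : Subgroup G) = Nat.card S := by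
  have hc : Nat.card (R.subgroupOf S) = p :=
    (Nat.card_congr (Subgroup.subgroupOfEquivOfLe hRS).toEquiv).trans hR
  have hpd : p ∣ Nat.card S := hR ▸ Subgroup.card_dvd_of_le hRS
  have hf : (Nat.card S).factorization p = 1 := by
    have hp : p.Prime := Fact.out
    have h1 := (hp.pow_dvd_iff_le_factorization Nat.card_pos.ne' (k := 1)).1 (by rwa [pow_one])
    have h2 : ¬ 2 ≤ (Nat.card S).factorization p := fun h2 =>
      hp2 ((hp.pow_dvd_iff_le_factorization Nat.card_pos.ne').2 h2)
    omega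
  let Q : Sylow p S := Sylow.ofCard (R.subgroupOf S) (by rw [hc, hf, pow_one])
  obtain ⟨h1, h2⟩ := Order95040.sylow_count Q
  refine ⟨_, h1, ?_⟩
  have e : Subgroup.normalizer ((Q : Subgroup S) : Set S) =
      (Subgroup.normalizer (R : Set G)).subgroupOf S := (Subgroup.subgroupOf_normalizer_eq hRS).symm
  rw [e, ← Subgroup.inf_subgroupOf_right] at h2
  rw [inf_comm, ← Nat.card_congr (Subgroup.subgroupOfEquivOfLe
    (inf_le_right : Subgroup.normalizer (R : Set G) ⊓ S ≤ S)).toEquiv]
  exact h2

omit [Fintype G] in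
/-- An algebraic integer that is rational with denominator four. -/
theorem four_dvd_of_isIntegral {v : ℂ} (hv : IsIntegral ℤ v) {k : ℤ} (h : 4 * v = (k : ℂ)) :
    4 ∣ k := by
  have e : v = algebraMap ℚ ℂ ((k : ℚ) / 4) := by
    rw [map_div₀, map_intCast, map_ofNat]
    field_simp
    linear_combination h
  rw [e, isIntegral_algebraMap_iff (algebraMap ℚ ℂ).injective] at hv
  obtain ⟨m, hm⟩ := IsIntegrallyClosed.isIntegral_iff.1 hv
  refine ⟨m, ?_⟩
  have hm' : (m : ℚ) = (k : ℚ) / 4 := by simpa using hm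
  have : ((k : ℤ) : ℚ) = ((4 * m : ℤ) : ℚ) := by push_cast; rw [hm']; ring
  exact_mod_cast this

/-- An element `g` normalizing a subgroup of prime order and of order prime to it. -/
theorem orderOf_of_notMem {p q : ℕ} [Fact p.Prime] (hG : Nat.card G = ord) (hp2 : ¬ p ^ 2 ∣ ord)
    (hq : q.Prime) {R H : Subgroup G} (hR : Nat.card R = p)
    (hN : H ≤ Subgroup.normalizer (R : Set G)) (hH : Nat.card H = q * p)
    (hord : ∀ g : G, p ∣ orderOf g → orderOf g = p) {g : G} (hg : g ∈ H) (hgR : g ∉ R) :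
    orderOf g = q := by
  have hS : ¬ p ∣ R.index := fun h => hp2 (by
    rw [← hG, ← R.card_mul_index, hR, pow_two]
    exact mul_dvd_mul_left p h)
  have hnp : ¬ p ∣ orderOf g := fun h => hgR
    (mem_of_pow_eq_one Fact.out hS (hN hg) (hord g h ▸ pow_orderOf_eq_one g))
  have hd : orderOf g ∣ q * p := hH ▸ Subgroup.orderOf_dvd_natCard _ hg
  have hd' : orderOf g ∣ q :=
    (((Fact.out : p.Prime).coprime_iff_not_dvd.2 hnp).symm).dvd_of_dvd_mul_right hd
  exact ((Nat.dvd_prime hq).1 hd').resolve_left fun e =>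
    hgR ((orderOf_eq_one_iff.1 e).symm ▸ R.one_mem)

variable [IsSimpleGroup G] (hG : Nat.card G = ord)
include hG

omit [IsSimpleGroup G] in
theorem not_sq_dvd {p : ℕ} (hp : p = 5 ∨ p = 7 ∨ p = 11 ∨ p = 23) (S : Subgroup G) :
    ¬ p ^ 2 ∣ Nat.card S := fun h => by
  have h' := h.trans (hG ▸ Subgroup.card_subgroup_dvd_card S)
  rcases hp with rfl | rfl | rfl | rfl <;> revert h' <;> decide

omit [IsSimpleGroup G] in
/-- All subgroups of order `p` have normalizers of the same order. -/
theorem card_normalizer_eq {p : ℕ} [Fact p.Prime] (hp : p = 5 ∨ p = 7 ∨ p = 11 ∨ p = 23)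
    (L : Local G p) {R : Subgroup G} (hR : Nat.card R = p) :
    Nat.card (Subgroup.normalizer (R : Set G)) = L.e * (p * Nat.card L.V) := by
  obtain ⟨P1, hP1⟩ := (IsPGroup.of_card (G := R) (n := 1) (by rw [hR, pow_one])).exists_le_sylow
  obtain ⟨P0, hP0⟩ :=
    (IsPGroup.of_card (G := L.P) (n := 1) (by rw [L.setup.card, pow_one])).exists_le_sylow
  have e1 := Subgroup.eq_of_le_of_card_ge hP1 (le_of_eq ((card_sylow hG hp P1).trans hR.symm))
  have e0 := Subgroup.eq_of_le_of_card_ge hP0
    (le_of_eq ((card_sylow hG hp P0).trans L.setup.card.symm))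
  have h1 := (Order95040.sylow_count P1).2
  have h0 := (Order95040.sylow_count P0).2
  rw [← e1] at h1
  rw [← e0, L.card_normalizer] at h0
  exact Nat.eq_of_mul_eq_mul_left Nat.card_pos (h1.trans h0.symm)

theorem value_eleven (L : Local G 11) (he : L.e = 10) (hV : Nat.card L.V = 1)
    {χ : IrrCharacter G} (hχ : deg χ = 23) [Fact (Nat.Prime 11)] {g : G} (hg : orderOf g = 11) :
    (χ : G → ℂ) g = 1 := by
  obtain ⟨x, hx, hx1, hgx⟩ := L.exists_conj_P hG (by norm_num) hg
  rw [char_of_conj hgx, ← mul_one x]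
  rcases Finset.mem_union.1 ((L.data.all hV χ).1 (by rw [hχ]; norm_num)) with h | h
  · rw [L.data.valX χ h x hx hx1 1 (one_mem _)]
    have h1 := L.data.modX χ h
    rcases L.data.sgnX χ h with e | e
    · rw [e]; simp
    · rw [e, hχ] at h1
      exact absurd h1 (by decide)
  · have hY : L.data.Y.card = 1 := by
      have h' : L.data.Y.card * L.e = 11 - 1 := L.data.cardY
      generalize hk : L.data.Y.card = k at h' ⊢
      rw [he] at h'
      omega
    rw [L.data.valY hY χ h x hx hx1 1 (one_mem _)]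
    have h1 := L.data.modY χ h
    rcases L.data.sgnY with e | e
    · rw [e, hχ, he] at h1
      exact absurd h1 (by decide)
    · rw [e]; simp

/-- A character of degree 23 gives a subgroup of index 24. -/
theorem exists_index_twentyFour (L11 : Local G 11) (e11 : L11.e = 10)
    (V11 : Nat.card L11.V = 1) (L23 : Local G 23) (e23 : L23.e = 11) (V23 : Nat.card L23.V = 1)
    (h5 : ∀ u : G, orderOf u = 5 → IsConj u (u ^ 2))
    {χ : IrrCharacter G} (hχ : deg χ = 23) : ∃ H : Subgroup G, H.index = 24 := by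
  have : Fintype (IrrCharacter G) := Fintype.ofFinite _
  have : Fact (Nat.Prime 23) := ⟨by norm_num⟩
  have : Fact (Nat.Prime 11) := ⟨by norm_num⟩
  have : Fact (Nat.Prime 5) := ⟨by norm_num⟩
  have hne : χ ≠ trivChar G := fun e => by
    rw [e, deg_trivChar] at hχ; omega
  obtain ⟨n, ρ, hρi, hρc, hn⟩ := CharDegree.exists_rep χ
  have hd1 : (χ : G → ℂ) 1 = 23 := by
    rw [deg_cast χ, hχ]; norm_num
  -- a subgroup of order 23 normalized by an element of order 11 of `L11.P`
  set N23 := Subgroup.normalizer (L23.P : Set G) with hN23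
  have hN23c : Nat.card N23 = 253 := by rw [L23.card_normalizer, e23, V23]
  obtain ⟨h, hh⟩ := exists_prime_orderOf_dvd_card' (G := N23) 11 (by rw [hN23c]; norm_num)
  obtain ⟨x, hx, hx1, hhx⟩ := L11.exists_conj_P hG (by norm_num)
    (g := (h : G)) (by rw [Subgroup.orderOf_coe, hh])
  obtain ⟨c, rfl⟩ := isConj_iff.1 hhx
  set R := L23.P.map (MulAut.conj c : G ≃* G).toMonoidHom with hRdef
  have hR : Nat.card R = 23 := by
    rw [hRdef, Subgroup.card_map_of_injective (MulAut.conj c : G ≃* G).injective, L23.setup.card]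
  set F := Subgroup.normalizer (R : Set G) with hFdef
  have hF : Nat.card F = 253 := by
    rw [hFdef, card_normalizer_eq hG (by norm_num) L23 hR, e23, V23]
  have hxF : c * (h : G) * c⁻¹ ∈ F :=
    Subgroup.le_normalizer_map _ (Subgroup.mem_map_of_mem _ h.2)
  have hvF : ∀ g ∈ R, g ≠ 1 → (χ : G → ℂ) g = 0 := fun g hg hg1 => by
    refine vanish hG (by norm_num : Nat.Prime 23) (n := 1) (by decide) (by decide)
      (by rw [hχ, pow_one]) ?_
    have ho : orderOf g ∣ 23 := hR ▸ Subgroup.orderOf_dvd_natCard _ hg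
    rw [((Nat.dvd_prime (by norm_num)).1 ho).resolve_left fun e => hg1 (orderOf_eq_one_iff.1 e)]
  have hfF : Module.finrank ℂ (Representation.invariants (ρ.comp F.subtype)) = 1 := by
    have h1 := sum_subgroup_char ρ F
    rw [hρc, sum_two (Subgroup.le_normalizer : R ≤ F) _ hvF (b := 1) (fun g hg hgR =>
      value_eleven hG L11 e11 V11 hχ (orderOf_of_notMem hG (by decide) (by norm_num) hR le_rfl
        hF (fun y hy => L23.order_eq hG (by norm_num) V23 hy) hg hgR)),
      hd1, hR, hF] at h1
    have h2 : ((253 : ℕ) : ℂ) * (1 : ℕ) =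
        (253 : ℕ) * (Module.finrank ℂ (Representation.invariants (ρ.comp F.subtype)) : ℂ) := by
      rw [← h1]; push_cast; ring
    exact (Nat.cast_injective (mul_left_cancel₀ (by norm_num) h2)).symm
  -- the subgroup `11 : 5`
  set N11 := Subgroup.normalizer (L11.P : Set G) with hN11
  have hN11c : Nat.card N11 = 110 := by rw [L11.card_normalizer, e11, V11]
  obtain ⟨u, hu⟩ := exists_prime_orderOf_dvd_card' (G := N11) 5 (by rw [hN11c]; norm_num)
  have huo : orderOf (u : G) = 5 := by rw [Subgroup.orderOf_coe, hu]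
  set Q := Subgroup.zpowers (u : G) with hQdef
  set K := L11.P ⊔ Q with hKdef
  have hQN : Q ≤ N11 := Subgroup.zpowers_le.2 u.2
  have hKN : K ≤ N11 := sup_le Subgroup.le_normalizer hQN
  have hQc : Nat.card Q = 5 := by rw [hQdef, Nat.card_zpowers, huo]
  have hK : Nat.card K = 11 * 5 := by
    have hdis : Disjoint L11.P Q := by
      refine Subgroup.disjoint_of_coprime_natCard ?_
      rw [L11.setup.card, hQc]
      norm_num
    have hinj := Subgroup.mul_injective_of_disjoint hdis
    have e1 : Nat.card K = Nat.card (L11.P × Q) := by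
      refine (Nat.card_congr (Equiv.ofBijective
        (fun q : L11.P × Q => (⟨(q.1 : G) * q.2,
          mul_mem (le_sup_left (b := Q) q.1.2) (le_sup_right (a := L11.P) q.2.2)⟩ : K))
        ⟨fun a b e => hinj (congrArg Subtype.val e), fun g => ?_⟩)).symm
      have hg : (g : G) ∈ ((L11.P : Set G) * (Q : Set G)) := by
        rw [← Subgroup.coe_mul_of_right_le_normalizer_left L11.P Q hQN]
        exact g.2
      obtain ⟨a, ha, b, hb, e⟩ := hg
      exact ⟨(⟨a, ha⟩, ⟨b, hb⟩), Subtype.ext e⟩
    rw [e1, Nat.card_prod, L11.setup.card, hQc]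
  have hv11 : ∀ g ∈ L11.P, g ≠ 1 → (χ : G → ℂ) g = 1 := fun g hg hg1 => by
    refine value_eleven hG L11 e11 V11 hχ ?_
    have ho : orderOf g ∣ 11 := L11.setup.card ▸ Subgroup.orderOf_dvd_natCard _ hg
    exact ((Nat.dvd_prime (by norm_num)).1 ho).resolve_left
      fun e => hg1 (orderOf_eq_one_iff.1 e)
  have hfP : Module.finrank ℂ (Representation.invariants (ρ.comp L11.P.subtype)) = 3 := by
    have h1 := sum_subgroup_char ρ L11.P
    rw [hρc, sum_two le_rfl _ hv11 (b := 0) (fun g hg hgR => absurd hg hgR), hd1,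
      L11.setup.card] at h1
    have h2 : ((11 : ℕ) : ℂ) * (3 : ℕ) =
        (11 : ℕ) * (Module.finrank ℂ (Representation.invariants (ρ.comp L11.P.subtype)) : ℂ) := by
      rw [← h1]; push_cast; ring
    exact (Nat.cast_injective (mul_left_cancel₀ (by norm_num) h2)).symm
  set v := (χ : G → ℂ) (u : G) with hv
  have hv5 : ∀ g : G, orderOf g = 5 → (χ : G → ℂ) g = v := by
    intro g hg
    obtain ⟨P1, hP1⟩ := Order95040.exists_sylow_mem hg
    obtain ⟨P2, hP2⟩ := Order95040.exists_sylow_mem huo
    have e2 : Q = (P2 : Subgroup G) := Subgroup.eq_of_le_of_card_ge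
      (Subgroup.zpowers_le.2 hP2) (le_of_eq ((card_sylow hG (by norm_num) P2).trans hQc.symm))
    obtain ⟨d, hd⟩ := MulAction.exists_smul_eq G P1 P2
    have hgQ : d * g * d⁻¹ ∈ Q := by
      rw [e2, ← hd, Sylow.coe_subgroup_smul]
      exact Subgroup.mem_pointwise_smul_iff_inv_smul_mem.2 (by simpa [mul_assoc] using hP1)
    rw [char_of_conj (isConj_iff.2 ⟨d, rfl⟩ : IsConj g (d * g * d⁻¹))]
    have hg1 : d * g * d⁻¹ ≠ 1 := fun e => by
      have h1 := (Order7920.orderOf_conj_eq' d g).trans hg
      rw [e, orderOf_one] at h1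
      omega
    obtain ⟨k, hk, hk'⟩ := (isOfFinOrder_of_finite (u : G)).mem_zpowers_iff_mem_range_orderOf.1 hgQ
      |> Finset.mem_image.1
    rw [Finset.mem_range, huo] at hk
    rw [← hk'] at hg1 ⊢
    have c2 : (χ : G → ℂ) ((u : G) ^ 2) = v := (char_of_conj (h5 _ huo)).symm
    have c4 : (χ : G → ℂ) ((u : G) ^ 4) = v := by
      have ho : orderOf ((u : G) ^ 2) = 5 := by
        rw [Nat.Coprime.orderOf_pow (by rw [huo]; norm_num), huo]
      rw [← c2, char_of_conj (h5 _ ho), ← pow_mul]
    have c3 : (χ : G → ℂ) ((u : G) ^ 3) = v := by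
      have ho : orderOf ((u : G) ^ 4) = 5 := by
        rw [Nat.Coprime.orderOf_pow (by rw [huo]; norm_num), huo]
      rw [← c4, char_of_conj (h5 _ ho), ← pow_mul]
      rw [← pow_mod_orderOf (u : G) (4 * 2), huo]
    interval_cases k
    · exact absurd (pow_zero _) hg1
    · rw [pow_one]
    · exact c2
    · exact c3
    · exact c4
  have hfK : Module.finrank ℂ (Representation.invariants (ρ.comp K.subtype)) = 3 := by
    set d := Module.finrank ℂ (Representation.invariants (ρ.comp K.subtype)) with hd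
    have h1 := sum_subgroup_char ρ K
    rw [hρc, sum_two (le_sup_left : L11.P ≤ K) _ hv11 (b := v) (fun g hg hgR =>
      hv5 g (orderOf_of_notMem hG (by decide) (by norm_num) L11.setup.card hKN
        (by rw [hK]) (fun y hy => L11.order_eq hG (by norm_num) V11 hy) hg hgR)),
      hd1, L11.setup.card, hK, ← hd] at h1
    have hle : d ≤ 3 := hfP ▸ Submodule.finrank_mono (invariants_anti ρ le_sup_left)
    have h4 : 4 * v = ((5 * (d : ℤ) - 3 : ℤ) : ℂ) := by
      push_cast at h1 ⊢
      linear_combination h1 / 11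
    obtain ⟨m, hm⟩ := four_dvd_of_isIntegral
      (IsChar.isIntegral (IsIrr.isCharacter χ.2) (u : G)) h4
    omega
  have hKP : Representation.invariants (ρ.comp K.subtype) =
      Representation.invariants (ρ.comp L11.P.subtype) :=
    Submodule.eq_of_le_of_finrank_eq (invariants_anti ρ le_sup_left) (by rw [hfK, hfP])
  -- the stabilizer
  obtain ⟨w, hw, hw0⟩ := Submodule.exists_mem_ne_zero_of_ne_bot
    (p := Representation.invariants (ρ.comp F.subtype)) (fun e => by
      rw [e, finrank_bot] at hfF; omega)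
  let S : Subgroup G :=
    { carrier := {g | ρ g w = w}
      one_mem' := by simp
      mul_mem' := fun {a b} ha hb => by
        show ρ (a * b) w = w
        rw [map_mul, Module.End.mul_apply, (hb : ρ b w = w), (ha : ρ a w = w)]
      inv_mem' := fun {a} ha => by
        show ρ a⁻¹ w = w
        conv_lhs => rw [← (ha : ρ a w = w)]
        rw [← Module.End.mul_apply, ← map_mul, inv_mul_cancel, map_one, Module.End.one_apply] }
  have hFS : F ≤ S := fun g hg => hw ⟨g, hg⟩
  have hxo : orderOf (c * (h : G) * c⁻¹) = 11 :=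
    (Order7920.orderOf_conj_eq' c (h : G)).trans (by rw [Subgroup.orderOf_coe, hh])
  have hPS : L11.P ≤ S := by
    have e : Subgroup.zpowers (c * (h : G) * c⁻¹) = L11.P :=
      Subgroup.eq_of_le_of_card_ge (Subgroup.zpowers_le.2 hx)
        (le_of_eq (by rw [L11.setup.card, Nat.card_zpowers, hxo]))
    rw [← e]
    exact Subgroup.zpowers_le.2 (hFS hxF)
  have hKS : K ≤ S := fun g hg =>
    (hKP ▸ (fun p => hPS p.2) : w ∈ Representation.invariants (ρ.comp K.subtype)) ⟨g, hg⟩
  have hS : S ≠ ⊤ := fun e => by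
    have hall : w ∈ Representation.invariants ρ := fun g => (e ▸ Subgroup.mem_top g : g ∈ S)
    have h0 : Cfsg.classInner (χ : G → ℂ) (trivChar G : G → ℂ) = 0 := classInner_irr_of_ne hne
    rw [Cfsg.classInner] at h0
    simp only [trivChar_apply, map_one, mul_one] at h0
    have : Invertible (Nat.card G : ℂ) :=
      invertibleOfNonzero (Nat.cast_ne_zero.2 Nat.card_pos.ne')
    have h1 := FDRep.average_char_eq_finrank_invariants (FDRep.of ρ)
    have h2 : (Module.finrank ℂ (Representation.invariants ρ) : ℂ) = 0 := by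
      rw [← h0, ← hρc]
      exact h1.symm
    rw [Nat.cast_eq_zero] at h2
    exact hw0 ((Submodule.mem_bot ℂ).1 (Submodule.finrank_eq_zero.1 h2 ▸ hall))
  have hidx : 23 ≤ S.index := by
    have h1 := HallGen.Overgroup.card_dvd_factorial_index hS
    rw [hG] at h1
    exact (Nat.Prime.dvd_factorial (by norm_num : (23 : ℕ).Prime)).1
      ((by decide : 23 ∣ ord).trans h1)
  have hmul := S.card_mul_index
  rw [hG] at hmul
  have h253 : 253 ∣ Nat.card S := hF ▸ Subgroup.card_dvd_of_le hFS
  have h55 : 55 ∣ Nat.card S := (hK ▸ Subgroup.card_dvd_of_le hKS : 11 * 5 ∣ Nat.card S)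
  obtain ⟨n23, hn23, hc23⟩ := count_in hR ((Subgroup.le_normalizer : R ≤ F).trans hFS)
    (not_sq_dvd hG (by norm_num) S)
  rw [← hFdef, inf_eq_right.2 hFS, hF] at hc23
  obtain ⟨n11, hn11, hc11⟩ := count_in L11.setup.card hPS (not_sq_dvd hG (by norm_num) S)
  rw [← hN11] at hc11
  have hm : Nat.card (S ⊓ N11 : Subgroup G) = 55 ∨ Nat.card (S ⊓ N11 : Subgroup G) = 110 := by
    have h1 : Nat.card (S ⊓ N11 : Subgroup G) ∣ 110 :=
      hN11c ▸ Subgroup.card_dvd_of_le inf_le_right
    have h2 : 55 ∣ Nat.card (S ⊓ N11 : Subgroup G) :=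
      (hK ▸ Subgroup.card_dvd_of_le (le_inf hKS hKN) : 11 * 5 ∣ _)
    obtain ⟨m, hm⟩ := h2
    have := Nat.le_of_dvd (by norm_num) h1
    have : m ≠ 0 := fun e => by rw [e, mul_zero] at hm; exact Nat.card_pos.ne' hm
    omega
  have hk : Nat.card S = 10200960 := by
    refine stab_eq (Dvd.intro _ hmul) (by omega) ?_ ?_ ?_
    · rw [← hmul, mul_comm 23]
      exact Nat.mul_le_mul_left _ hidx
    · rw [← hc23, Nat.mul_div_cancel _ (by norm_num : 0 < 253)]
      exact hn23
    · rcases hm with hm | hm <;> rw [hm] at hc11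
      · left
        rw [← hc11, Nat.mul_div_cancel _ (by norm_num : 0 < 55)]
        exact hn11
      · right
        refine ⟨Dvd.intro_left _ hc11, ?_⟩
        rw [← hc11, Nat.mul_div_cancel _ (by norm_num : 0 < 110)]
        exact hn11
  refine ⟨S, ?_⟩
  rw [hk, ord] at hmul
  omega

end CfsgLib.Blocks.Order244823040
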