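import Cfsg.Agent.Lib.Blocks.Order244823040.Basic
import Mathlib.GroupTheory.SpecificGroups.Dihedral

/-!
# A character at an involution inverting an element of order 11

The multiplicities of the two linear characters of the dihedral group bound the value.
-/

set_option autoImplicit false

namespace CfsgLib.Blocks.Order244823040

open Cfsg CfsgLib CfsgLib.Char CfsgLib.CharIntegral
open scoped Classical ComplexConjugate

variable {G : Type*} [Group G]

/-- The map of the dihedral group given by an element and an involution inverting it. -/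
theorem exists_dihedral_hom {h r : G} (hh : h ^ 11 = 1) (hr : r * r = 1) (hrh : r * h * r⁻¹ = h⁻¹) :
    ∃ f : DihedralGroup 11 →* G, (∀ i, f (DihedralGroup.r i) = h ^ i.val) ∧
      ∀ i, f (DihedralGroup.sr i) = r * h ^ i.val := by
  have hadd : ∀ i j : ZMod 11, h ^ (i + j).val = h ^ i.val * h ^ j.val := fun i j => by
    rw [ZMod.val_add, ← pow_add]
    exact (pow_eq_pow_mod (i.val + j.val) hh).symm
  have hneg : ∀ i : ZMod 11, h ^ (-i).val = (h ^ i.val)⁻¹ := fun i => by
    refine eq_inv_of_mul_eq_one_left ?_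
    rw [← hadd, neg_add_cancel, ZMod.val_zero, pow_zero]
  have hsub : ∀ i j : ZMod 11, h ^ (j - i).val = (h ^ i.val)⁻¹ * h ^ j.val := fun i j => by
    rw [sub_eq_add_neg, add_comm, hadd, hneg]
  have hswap : ∀ i : ZMod 11, h ^ i.val * r = r * (h ^ i.val)⁻¹ := fun i => by
    have e : r * (h ^ i.val)⁻¹ * r⁻¹ = h ^ i.val := by
      rw [← inv_pow, ← conj_pow, show r * h⁻¹ * r⁻¹ = (r * h * r⁻¹)⁻¹ by group, hrh, inv_inv]
    calc h ^ i.val * r = r * (h ^ i.val)⁻¹ * r⁻¹ * r := by rw [e]
      _ = _ := by group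
  refine ⟨MonoidHom.mk' (fun g => match g with
    | DihedralGroup.r i => h ^ i.val
    | DihedralGroup.sr i => r * h ^ i.val) ?_, fun i => rfl, fun i => rfl⟩
  intro a b
  match a, b with
  | DihedralGroup.r i, DihedralGroup.r j =>
    rw [DihedralGroup.r_mul_r]; exact hadd i j
  | DihedralGroup.r i, DihedralGroup.sr j =>
    rw [DihedralGroup.r_mul_sr]
    show r * h ^ (j - i).val = h ^ i.val * (r * h ^ j.val)
    rw [← mul_assoc, hswap, mul_assoc, hsub]
  | DihedralGroup.sr i, DihedralGroup.r j =>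
    rw [DihedralGroup.sr_mul_r]
    show r * h ^ (i + j).val = r * h ^ i.val * h ^ j.val
    rw [hadd, mul_assoc]
  | DihedralGroup.sr i, DihedralGroup.sr j =>
    rw [DihedralGroup.sr_mul_sr]
    show h ^ (j - i).val = r * h ^ i.val * (r * h ^ j.val)
    rw [mul_assoc r, ← mul_assoc _ r, hswap, mul_assoc r, ← mul_assoc r r, hr, one_mul, hsub]

/-- A character vanishing on the powers of `h` takes a value of absolute value at most an
eleventh of its degree at an involution inverting `h`. -/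
theorem value_bound_reflection [Fintype G] {χ : G → ℂ} (hχ : Cfsg.IsCharacter G χ)
    (hcf : Cfsg.IsClassFunction G χ) {h r : G}
    (ho : orderOf h = 11) (hr : r * r = 1) (hrh : r * h * r⁻¹ = h⁻¹) {v : ℤ}
    (h0 : ∀ k, 0 < k → k < 11 → χ (h ^ k) = 0) {d : ℕ} (h1 : χ 1 = (d : ℂ))
    (hv : χ r = (v : ℂ)) : -(d : ℤ) ≤ 11 * v ∧ 11 * v ≤ (d : ℤ) := by
  have hh : h ^ 11 = 1 := ho ▸ pow_orderOf_eq_one h
  obtain ⟨f, hfr, hfs⟩ := exists_dihedral_hom hh hr hrh
  have hrot : ∀ i : ZMod 11, χ (f (DihedralGroup.r i)) = if i = 0 then (d : ℂ) else 0 := fun i => by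
    rw [hfr]
    split_ifs with hi
    · rw [hi, ZMod.val_zero, pow_zero, h1]
    · exact h0 _ (Nat.pos_of_ne_zero fun e => hi ((ZMod.val_eq_zero i).1 e)) (ZMod.val_lt i)
  have hswap' : ∀ k : ℕ, r * (h ^ k)⁻¹ * r⁻¹ = h ^ k := fun k => by
    rw [← inv_pow, ← conj_pow, show r * h⁻¹ * r⁻¹ = (r * h * r⁻¹)⁻¹ by group, hrh, inv_inv]
  have href : ∀ i : ZMod 11, χ (f (DihedralGroup.sr i)) = (v : ℂ) := fun i => by
    rw [hfs, ← hv]
    set k := i.val * 6
    have e : h ^ i.val = h ^ k * h ^ k := by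
      rw [← pow_add, show k + k = i.val + 11 * i.val by omega, pow_add, pow_mul, hh, one_pow,
        mul_one]
    have e2 : r * h ^ i.val = (h ^ k)⁻¹ * r * h ^ k := by
      have e3 : (h ^ k)⁻¹ * r = r * h ^ k := by
        have := hswap' k
        calc (h ^ k)⁻¹ * r = (r * (h ^ k)⁻¹ * r⁻¹)⁻¹ * r := by rw [this]
          _ = _ := by group
      rw [e3, e, mul_assoc]
    rw [e2]
    exact (isClassFunction_iff_isConj.1 hcf r _ (isConj_iff.2 ⟨(h ^ k)⁻¹, by rw [inv_inv]⟩)).symm
  let sg : DihedralGroup 11 →* ℂˣ := MonoidHom.mk' (fun g => match g with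
    | DihedralGroup.r _ => 1
    | DihedralGroup.sr _ => -1) (by
      intro a b
      match a, b with
      | DihedralGroup.r _, DihedralGroup.r _ => simp [DihedralGroup.r_mul_r]
      | DihedralGroup.r _, DihedralGroup.sr _ => simp [DihedralGroup.r_mul_sr]
      | DihedralGroup.sr _, DihedralGroup.r _ => simp [DihedralGroup.sr_mul_r]
      | DihedralGroup.sr _, DihedralGroup.sr _ => simp [DihedralGroup.sr_mul_sr])
  have hc := IsChar.comp f hχ
  have key : ∀ (l : DihedralGroup 11 → ℂ) (a b : ℂ), Cfsg.IsCharacter _ l →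
      (∀ i, l (DihedralGroup.r i) = a) → (∀ i, l (DihedralGroup.sr i) = b) →
      ∃ n : ℕ, (d : ℂ) * conj a + 11 * (v : ℂ) * conj b = 22 * (n : ℂ) := by
    intro l a b hl ha hb
    obtain ⟨n, hn⟩ := IsChar.classInner_eq_natCast hc hl
    refine ⟨n, ?_⟩
    rw [← hn]
    simp only [classInner]
    rw [Fintype.sum_equiv DihedralGroup.equivSum _
      (fun x => χ (f (DihedralGroup.equivSum.symm x)) * conj (l (DihedralGroup.equivSum.symm x)))
      (fun g => by cases g <;> rfl), Fintype.sum_sum_type, DihedralGroup.nat_card]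
    have e1 : ∀ i, DihedralGroup.equivSum.symm (Sum.inl i) = DihedralGroup.r (n := 11) i := fun i => rfl
    have e2 : ∀ i, DihedralGroup.equivSum.symm (Sum.inr i) = DihedralGroup.sr (n := 11) i := fun i => rfl
    simp only [e1, e2, hrot, href, ha, hb, ite_mul, zero_mul, Finset.sum_ite_eq', Finset.mem_univ,
      if_true, Finset.sum_const, Finset.card_univ, ZMod.card, nsmul_eq_mul]
    push_cast
    field_simp
  obtain ⟨n, hn⟩ := key (fun _ => 1) 1 1 isCharacter_one (fun _ => rfl) fun _ => rfl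
  obtain ⟨m, hm⟩ := key (fun g => (sg g : ℂ)) 1 (-1) (IsIrr.isCharacter (isIrrCharacter_linear sg))
    (fun _ => rfl) fun _ => by simp [sg]
  simp only [map_one, map_neg, mul_one, mul_neg] at hn hm
  have hn' : (d : ℤ) + 11 * v = 22 * (n : ℤ) := by exact_mod_cast hn
  have hm' : (d : ℤ) + -(11 * v) = 22 * (m : ℤ) := by exact_mod_cast hm
  constructor <;> omega

end CfsgLib.Blocks.Order244823040
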