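import Cfsg.Agent.Lib.Blocks.Order244823040.CountsMathieu
import Cfsg.Agent.Lib.Blocks.Order244823040.Basic
import Cfsg.Agent.Lib.Blocks.Order95040.SameCounts

/-!
# Order 244823040 with the element order counts of the Mathieu group

The residues of the counts modulo 23, 11 and 7 determine the normalizers of the Sylow subgroups of
these orders, and the first of them makes the group simple.
-/

set_option autoImplicit false
set_option maxRecDepth 20000

namespace CfsgLib.Blocks.Order244823040

open Cfsg CfsgLib CfsgLib.Blocks.PrimeSylow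
open CfsgLib.Blocks.Order95040 (exists_sylow_mem card_mod_eq_one cent)
open CfsgLib.Blocks.Order443520 (center_eq_bot)
open scoped Classical Pointwise

/-- The numbers of elements of a cyclic group. -/
theorem cnt_cyclic {V : Type*} [Group V] [Finite V] [IsCyclic V] (n : ℕ) :
    cnt V n = if n ∣ Nat.card V then n.totient else 0 := by
  have := Fintype.ofFinite V
  split_ifs with h
  · rw [cnt, Nat.card_eq_fintype_card, Fintype.card_subtype,
      IsCyclic.card_orderOf_eq_totient (by rwa [← Nat.card_eq_fintype_card])]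
  · exact cnt_eq_zero h

variable {G : Type*} [Group G] [Finite G]

/-- An element of order `p` with the residue `p - 1` of the count fixes the count. -/
theorem cnt_prime_mod (hG : Nat.card G = ord) {p : ℕ} [Fact p.Prime]
    (hp : p = 5 ∨ p = 7 ∨ p = 11 ∨ p = 23) : cnt G p % p = p - 1 ∧ 0 < cnt G p := by
  have := Fintype.ofFinite G
  obtain ⟨Q⟩ : Nonempty (Sylow p G) := inferInstance
  have h2 := (Fact.out : p.Prime).two_le
  rw [cnt, CfsgLib.Perm.card_orderOf_eq_prime Q (card_sylow hG hp Q)]
  refine ⟨?_, Nat.mul_pos (by omega) Nat.card_pos⟩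
  rw [Nat.mul_mod, card_sylow_modEq_one p G, Nat.one_mod_eq_one.2 (Fact.out : p.Prime).ne_one,
    mul_one, Nat.mod_mod, Nat.mod_eq_of_lt (by omega)]

/-- The counts are those of the Mathieu group. -/
def CountsLike (G : Type*) [Group G] : Prop :=
  (∀ n, 0 < cnt G n → ∃ m, cnt G n = cnt ↥M24 m) ∧
    ∀ m, 0 < cnt ↥M24 m → ∃ n, cnt G n = cnt ↥M24 m

variable (hG : Nat.card G = ord) (hS : CountsLike G)
include hG hS

theorem cnt_twentyThree : cnt G 23 = 21288960 := by
  have := Fact.mk (show Nat.Prime 23 by norm_num)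
  obtain ⟨h1, h0⟩ := cnt_prime_mod hG (p := 23) (Or.inr (Or.inr (Or.inr rfl)))
  obtain ⟨m, hm⟩ := hS.1 23 h0
  obtain ⟨h2, h3⟩ := mathieu_mod23 m
  rw [hm, h2] at h1
  split_ifs at h1 with e1 e2
  all_goals first | omega | (rw [hm, e2, h3])

theorem cnt_eleven : cnt G 11 = 22256640 := by
  have := Fact.mk (show Nat.Prime 11 by norm_num)
  obtain ⟨h1, h0⟩ := cnt_prime_mod hG (p := 11) (Or.inr (Or.inr (Or.inl rfl)))
  obtain ⟨m, hm⟩ := hS.1 11 h0
  obtain ⟨h2, h3⟩ := mathieu_mod11 m
  rw [hm, h2] at h1
  split_ifs at h1 with e1 e2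
  all_goals first | omega | (rw [hm, e2, h3])

theorem cnt_seven : cnt G 7 = 11658240 := by
  have := Fact.mk (show Nat.Prime 7 by norm_num)
  obtain ⟨h1, h0⟩ := cnt_prime_mod hG (p := 7) (Or.inr (Or.inl rfl))
  obtain ⟨m, hm⟩ := hS.1 7 h0
  obtain ⟨h2, h3⟩ := mathieu_mod7 m
  rw [hm, h2] at h1
  split_ifs at h1 with e1 e2 e3 e4 e5 e6
  all_goals first | omega | (rw [hm, e4, h3])

/-- An element of order 23 is self-centralizing. -/
theorem card_centralizer_twentyThree {z : G} (hz : orderOf z = 23) :
    Nat.card (Subgroup.centralizer ({z} : Set G)) = 23 := by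
  have := Fact.mk (show Nat.Prime 23 by norm_num)
  have := Fintype.ofFinite G
  have hp2 : ¬ 23 ^ 2 ∣ Nat.card G := by rw [hG, ord]; norm_num
  obtain ⟨V, hV, hCV⟩ := exists_setup_zpowers hp2 hz
  have hN := cnt_prime_mul hp2 hz
  rw [cnt_twentyThree hG hS, hG, ord] at hN
  have hle : 23 * Nat.card V ∣ 253 := by
    rw [show 253 = Nat.card (Subgroup.normalizer (Subgroup.zpowers z : Set G)) by omega,
      ← hV.card_centralizer]
    exact Subgroup.card_dvd_of_le (Blocks.centralizer_le_normalizer' _)
  have hd : Nat.card V ∣ 11 := Nat.dvd_of_mul_dvd_mul_left (by norm_num : 0 < 23) hle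
  rcases (Nat.dvd_prime (by norm_num : Nat.Prime 11)).1 hd with h | h
  · rw [hCV, h]
  · exfalso
    have := Fact.mk (show Nat.Prime 11 by norm_num)
    have : IsCyclic V := isCyclic_of_prime_card h
    have h253 : cnt G 253 % 23 = 13 := by
      rw [cnt_mod hz, cnt_centralizer hV (Subgroup.mem_zpowers z)
        (fun e => by simp [e] at hz), if_pos (by norm_num), cnt_cyclic, h,
        if_pos (by norm_num), Nat.totient_prime (by norm_num)]
    obtain ⟨m, hm⟩ := hS.1 253 (Nat.pos_of_ne_zero fun e => by rw [e] at h253; omega)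
    rw [hm, (mathieu_mod23 m).1] at h253
    split_ifs at h253 <;> omega

theorem card_sylow_twentyThree : Nat.card (Sylow 23 G) = 967680 := by
  have := Fact.mk (show Nat.Prime 23 by norm_num)
  have := Fintype.ofFinite G
  obtain ⟨Q⟩ : Nonempty (Sylow 23 G) := inferInstance
  have h := cnt_twentyThree hG hS
  rw [cnt, CfsgLib.Perm.card_orderOf_eq_prime Q
    (card_sylow hG (Or.inr (Or.inr (Or.inr rfl))) Q)] at h
  omega

/-- The group is simple. -/
theorem isSimple_of_counts : IsSimpleGroup G := by
  have := Fintype.ofFinite G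
  have : Fact (Nat.Prime 23) := ⟨by norm_num⟩
  have hn23 := card_sylow_twentyThree hG hS
  have hG : Nat.card G = 244823040 := hG
  obtain ⟨Q⟩ : Nonempty (Sylow 23 G) := inferInstance
  have hQ := card_sylow (G := G) hG (Or.inr (Or.inr (Or.inr rfl))) Q
  have hnorm : ∀ z : G, orderOf z = 23 → ∀ g : G, Commute g z → orderOf g ∣ 23 :=
    fun z hz g hg => card_centralizer_twentyThree hG hS hz ▸
      Subgroup.orderOf_dvd_natCard _ (Subgroup.mem_centralizer_singleton_iff.2 hg.eq)
  -- normal subgroups of order prime to 23 are trivial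
  have hsmall : ∀ K : Subgroup G, K.Normal → ¬ 23 ∣ Nat.card K → K = ⊥ := by
    intro K hK h23
    have hidx : 23 ∣ K.index := by
      have h := K.index_mul_card
      rw [hG] at h
      exact ((Nat.Prime.coprime_iff_not_dvd (by norm_num : Nat.Prime 23)).2 h23).dvd_of_dvd_mul_right
        (h.symm ▸ by norm_num)
    by_contra hne
    obtain ⟨q, hq, hqK⟩ := Nat.exists_prime_and_dvd (fun e => hne (Subgroup.card_eq_one.1 e))
    have : Fact q.Prime := ⟨hq⟩
    have hq23 : q ≠ 23 := fun e => h23 (e ▸ hqK)
    obtain ⟨P⟩ : Nonempty (Sylow q K) := inferInstance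
    set R := (P : Subgroup K).map K.subtype with hR
    have hN := Sylow.normalizer_sup_eq_top P
    have hrel : K.index ∣ Nat.card (Subgroup.normalizer (R : Set G)) := by
      rw [← Subgroup.relIndex_top_right K, ← hN, Subgroup.relIndex_sup_right]
      exact Subgroup.index_dvd_card _ |>.trans (dvd_of_eq rfl)
    obtain ⟨⟨z, hzN⟩, hz⟩ := exists_prime_orderOf_dvd_card'
      (G := Subgroup.normalizer (R : Set G)) 23 (hidx.trans hrel)
    rw [← Subgroup.orderOf_coe] at hz
    obtain ⟨a, ha⟩ := P.isPGroup'.exists_card_eq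
    have hRcard : Nat.card R = q ^ a := by
      rw [hR, ← ha]
      exact (Nat.card_congr ((P : Subgroup K).equivMapOfInjective K.subtype
        K.subtype_injective).toEquiv).symm
    have h1 := card_mod_eq_one hz R hzN fun g hg hc => by
      have hd1 := hnorm z hz g hc
      have hd2 := Subgroup.orderOf_dvd_natCard _ hg
      rw [hRcard] at hd2
      refine orderOf_eq_one_iff.1 (Nat.eq_one_of_dvd_coprimes ?_ hd1 hd2)
      exact Nat.Coprime.pow_right _ ((Nat.coprime_primes (by norm_num) hq).2 hq23.symm)
    rw [hRcard] at h1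
    have hle : q ^ a ∣ 244823040 := by
      rw [← hG, ← hRcard]; exact Subgroup.card_subgroup_dvd_card R
    have ha0 : a ≠ 0 := fun e => by
      have := P.dvd_card_of_dvd_card hqK
      rw [ha, e, pow_zero] at this
      exact hq.not_dvd_one this
    have hcases : q = 2 ∨ q = 3 ∨ q = 5 ∨ q = 7 ∨ q = 11 := by
      have h : q ∣ 2 ^ 10 * 3 ^ 3 * 5 * 7 * 11 * 23 := (dvd_pow_self q ha0).trans hle
      simp only [hq.dvd_mul] at h
      have hp : ∀ {r k : ℕ}, r.Prime → q ∣ r ^ k → q = r := fun hr hd =>
        (Nat.prime_dvd_prime_iff_eq hq hr).1 (hq.dvd_of_dvd_pow hd)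
      rcases h with ((((h | h) | h) | h) | h) | h
      · exact Or.inl (hp Nat.prime_two h)
      · exact Or.inr (Or.inl (hp Nat.prime_three h))
      · exact Or.inr (Or.inr (Or.inl ((Nat.prime_dvd_prime_iff_eq hq Nat.prime_five).1 h)))
      · exact Or.inr (Or.inr (Or.inr (Or.inl
          ((Nat.prime_dvd_prime_iff_eq hq (by norm_num)).1 h))))
      · exact Or.inr (Or.inr (Or.inr (Or.inr
          ((Nat.prime_dvd_prime_iff_eq hq (by norm_num)).1 h))))
      · exact absurd ((Nat.prime_dvd_prime_iff_eq hq (by norm_num)).1 h) hq23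
    have hbound : a < 11 := by
      by_contra hlt
      have h8 : q ^ 11 ∣ 244823040 := (pow_dvd_pow q (Nat.le_of_not_lt hlt)).trans hle
      rcases hcases with rfl | rfl | rfl | rfl | rfl <;> norm_num at h8
    rcases hcases with rfl | rfl | rfl | rfl | rfl <;> interval_cases a <;>
      first | exact absurd rfl ha0 | omega | (revert hle; norm_num)
  have : Nontrivial G := Finite.one_lt_card_iff_nontrivial.1 (by rw [hG]; norm_num)
  refine ⟨fun K hK => ?_⟩
  by_cases h23 : 23 ∣ Nat.card K
  swap
  · exact Or.inl (hsmall K hK h23)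
  right
  have hsyl : ∀ R : Sylow 23 G, (R : Subgroup G) ≤ K := fun R g hg => by
    by_contra hno
    have hd : orderOf (g : G ⧸ K) ∣ 23 :=
      (orderOf_map_dvd (QuotientGroup.mk' K) g).trans
        ((Subgroup.orderOf_dvd_natCard _ hg).trans (dvd_of_eq (card_sylow (G := G) hG (Or.inr (Or.inr (Or.inr rfl))) R)))
    rcases (Nat.dvd_prime (by norm_num : Nat.Prime 23)).1 hd with h | h
    · rw [orderOf_eq_one_iff, QuotientGroup.eq_one_iff] at h
      exact hno h
    · have h2 : 23 ∣ K.index := by
        rw [← h, Subgroup.index_eq_card]; exact orderOf_dvd_natCard _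
      have h3 : 23 * 23 ∣ 244823040 := by
        rw [← hG, ← K.index_mul_card]; exact Nat.mul_dvd_mul h2 h23
      norm_num at h3
  have hQK := hsyl Q
  let QK : Sylow 23 K := Q.subtype hQK
  have hnK : Nat.card (Sylow 23 K) = 967680 := by
    have hi : Nat.card (Sylow 23 K) ∣ K.index * Nat.card (Sylow 23 K) := Dvd.intro_left _ rfl
    have hinj : Function.Injective fun R : Sylow 23 G => R.subtype (hsyl R) :=
      fun R1 R2 e => Sylow.subtype_injective e
    have hsur : Function.Surjective fun R : Sylow 23 G => R.subtype (hsyl R) := fun P => by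
      obtain ⟨k, hk⟩ := MulAction.exists_smul_eq K QK P
      exact ⟨(k : G) • Q, by
        show ((k : G) • Q).subtype (hsyl _) = P
        rw [← hk]
        exact (Sylow.smul_subtype hQK k).symm⟩
    rw [← hn23]
    exact (Nat.card_congr (Equiv.ofBijective _ ⟨hinj, hsur⟩)).symm
  have hQK' : Nat.card (QK : Subgroup K) = 23 := by
    exact (Nat.card_congr (Subgroup.subgroupOfEquivOfLe hQK).toEquiv).trans hQ
  have hmulK := (Subgroup.normalizer ((QK : Subgroup K) : Set K)).index_mul_card
  rw [show (Subgroup.normalizer ((QK : Subgroup K) : Set K)).index = Nat.card (Sylow 23 K) from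
    (Sylow.card_eq_index_normalizer QK).symm, hnK] at hmulK
  have hN23 : 23 ∣ Nat.card (Subgroup.normalizer ((QK : Subgroup K) : Set K)) :=
    (dvd_of_eq hQK'.symm).trans (Subgroup.card_dvd_of_le Subgroup.le_normalizer)
  have hKdvd : Nat.card K ∣ 244823040 := hG ▸ Subgroup.card_subgroup_dvd_card K
  obtain ⟨j, hj⟩ := hN23
  obtain ⟨i, hi⟩ := hKdvd
  rw [← hmulK, hj] at hi
  have hj11 : j = 1 ∨ j = 11 := by
    have : j ∣ 11 := ⟨i, by linarith⟩
    exact (Nat.dvd_prime (by norm_num : Nat.Prime 11)).1 this
  rcases hj11 with rfl | rfl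
  · exfalso
    have hle : (QK : Subgroup K) ≤ Subgroup.normalizer ((QK : Subgroup K) : Set K) :=
      Subgroup.le_normalizer
    have heq : Subgroup.normalizer ((QK : Subgroup K) : Set K) = (QK : Subgroup K) :=
      (Subgroup.eq_of_le_of_card_ge hle (by rw [hQK', hj])).symm
    have hNC : Subgroup.normalizer ((QK : Subgroup K) : Set K) ≤
        Subgroup.centralizer ((QK : Subgroup K) : Set K) := by
      rw [heq]
      intro x hx
      refine Subgroup.mem_centralizer_iff.2 fun y hy => ?_
      have : IsCyclic (QK : Subgroup K) := isCyclic_of_prime_card hQK'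
      exact congrArg Subtype.val
        ((IsCyclic.isMulCommutative (α := (QK : Subgroup K))).is_comm.comm ⟨y, hy⟩ ⟨x, hx⟩)
    have hco := MonoidHom.ker_transferSylow_isComplement' QK hNC
    have hL := hco.card_mul
    rw [hQK', ← hmulK, hj] at hL
    set L := (MonoidHom.transferSylow QK hNC).ker
    have hLcard : Nat.card L = 967680 := by omega
    have hLchar : L.Characteristic := by
      refine Subgroup.characteristic_iff_map_le.2 fun φ => ?_
      rintro _ ⟨x, hx, rfl⟩
      by_contra hno
      have ho : orderOf (MonoidHom.transferSylow QK hNC (φ x)) ∣ 23 :=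
        (orderOf_dvd_natCard _).trans (dvd_of_eq hQK')
      have ho2 : orderOf (MonoidHom.transferSylow QK hNC (φ x)) ∣ 967680 :=
        (orderOf_map_dvd _ _).trans (by
          rw [MulEquiv.orderOf_eq φ x, ← hLcard]
          exact Subgroup.orderOf_dvd_natCard L hx)
      exact hno (orderOf_eq_one_iff.1
        (Nat.eq_one_of_dvd_coprimes (by norm_num : Nat.Coprime 23 967680) ho ho2))
    have hLG : (L.map K.subtype).Normal := ConjAct.normal_of_characteristic_of_normal
    have hLm : Nat.card (L.map K.subtype) = 967680 :=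
      (Nat.card_congr (L.equivMapOfInjective K.subtype K.subtype_injective).toEquiv).symm.trans hLcard
    have h := hsmall _ hLG (by rw [hLm]; norm_num)
    rw [h, Subgroup.card_bot] at hLm
    norm_num at hLm
  · exact Subgroup.eq_top_of_card_eq K (by rw [hG, ← hmulK, hj])

section Shapes

variable {H : Type*} [Group H] [Fintype H] [IsSimpleGroup H]

omit hG hS in
/-- An element of the Sylow subgroup of the local data. -/
theorem Local.exists_gen {p : ℕ} [Fact p.Prime] (hH : Nat.card H = ord) (L : Local H p) :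
    ∃ x : H, orderOf x = p ∧ x ∈ L.P ∧ x ≠ 1 ∧ Subgroup.zpowers x = L.P := by
  obtain ⟨x, hx, hx1⟩ := L.exists_mem_P hH
  exact ⟨x, L.setup.orderOf_eq hx hx1, hx, hx1, L.setup.zpowers_eq hx hx1⟩

omit hG hS in
/-- The count of the elements of order `p` gives the normalizer. -/
theorem Local.mul_normalizer {p : ℕ} [Fact p.Prime] (hH : Nat.card H = ord)
    (hp2 : ¬ p ^ 2 ∣ ord) (L : Local H p) :
    cnt H p * (L.e * (p * Nat.card L.V)) = (p - 1) * ord := by
  obtain ⟨x, hx, -, -, hxP⟩ := L.exists_gen hH
  have h := cnt_prime_mul (M := H) (by rwa [hH]) hx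
  rw [hxP, L.card_normalizer, hH] at h
  exact h

omit hG hS in
theorem shape_twentyThree (hH : Nat.card H = ord) (hC : CountsLike H) (L : Local H 23) :
    L.e = 11 ∧ Nat.card L.V = 1 := by
  have := Fact.mk (show Nat.Prime 23 by norm_num)
  obtain ⟨x, hx, -, -, -⟩ := L.exists_gen hH
  have h1 : cent x = 23 := card_centralizer_twentyThree hH hC hx
  rw [L.cent_of_orderOf hH (Or.inr (Or.inr (Or.inr rfl))) hx] at h1
  have hV : Nat.card L.V = 1 := by omega
  refine ⟨?_, hV⟩
  have h := L.mul_normalizer hH (by rw [ord]; norm_num)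
  rw [cnt_twentyThree hH hC, hV, ord] at h
  omega

omit hG hS in
theorem shape_eleven (hH : Nat.card H = ord) (hC : CountsLike H) (L : Local H 11) :
    L.e = 10 ∧ Nat.card L.V = 1 := by
  have := Fact.mk (show Nat.Prime 11 by norm_num)
  obtain ⟨x, hx, hxP, hx1, -⟩ := L.exists_gen hH
  have h := L.mul_normalizer hH (by rw [ord]; norm_num)
  rw [cnt_eleven hH hC, ord] at h
  have hec : L.e * Nat.card L.V = 10 := by
    refine Nat.eq_of_mul_eq_mul_left (show 0 < 22256640 * 11 by norm_num) ?_
    rw [show 22256640 * 11 * 10 = (11 - 1) * 244823040 by norm_num, ← h]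
    ring
  have he1 : L.e ≠ 1 := L.data.e_ne_one (perfect hH) L.triv (by norm_num)
  have hmod : ∀ n, ¬ 11 ∣ n → 0 < cnt H n → cnt L.V n % 11 = 1 → n = 1 ∨ cnt H n = 1 := by
    intro n hn h0 h1
    obtain ⟨m, hm⟩ := hC.1 n h0
    have h2 := cnt_mod (M := H) hx n
    rw [cnt_centralizer L.setup hxP hx1, if_neg hn, h1, hm, (mathieu_mod11 m).1] at h2
    split_ifs at h2 with e1
    · exact Or.inr (by rw [hm, e1]; exact cnt_one_eq)
    all_goals omega
  have hd : Nat.card L.V ∣ 10 := ⟨L.e, by rw [mul_comm]; exact hec.symm⟩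
  have hle := Nat.le_of_dvd (by norm_num) hd
  have key : Nat.card L.V ≠ 2 ∧ Nat.card L.V ≠ 5 := by
    constructor
    · intro h2
      have := Fact.mk Nat.prime_two
      have : IsCyclic L.V := isCyclic_of_prime_card h2
      have hv : cnt L.V 2 % 11 = 1 := by
        rw [cnt_cyclic, if_pos (dvd_of_eq h2.symm), Nat.totient_two]
      obtain ⟨v, hv2⟩ := exists_prime_orderOf_dvd_card' (G := L.V) 2 (dvd_of_eq h2.symm)
      have hs : orderOf (v : H) = 2 := by rw [Subgroup.orderOf_coe, hv2]
      have hpos : 0 < cnt H 2 := Nat.card_pos_iff.2 ⟨⟨⟨v, hs⟩⟩, inferInstance⟩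
      rcases hmod 2 (by norm_num) hpos hv with e | e
      · omega
      · have hz : (v : H) ∈ Subgroup.center H := Subgroup.mem_center_iff.2 fun g => by
          have hg : orderOf (g * (v : H) * g⁻¹) = 2 := by rw [Order7920.orderOf_conj_eq']; exact hs
          have := congrArg Subtype.val ((Nat.card_eq_one_iff_unique.1 e).1.elim
            (⟨g * v * g⁻¹, hg⟩ : {a : H // orderOf a = 2}) ⟨v, hs⟩)
          exact mul_inv_eq_iff_eq_mul.1 this
        rw [center_eq_bot (perfect hH), Subgroup.mem_bot] at hz
        simp [hz] at hs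
    · intro h5
      have := Fact.mk Nat.prime_five
      have : IsCyclic L.V := isCyclic_of_prime_card h5
      have h2 : cnt H 5 % 11 = 4 := by
        rw [cnt_mod hx, cnt_centralizer L.setup hxP hx1, if_neg (by norm_num), cnt_cyclic, h5,
          if_pos (dvd_refl 5), Nat.totient_prime Nat.prime_five]
      obtain ⟨m, hm⟩ := hC.1 5 (Nat.pos_of_ne_zero fun e => by rw [e] at h2; omega)
      rw [hm, (mathieu_mod11 m).1] at h2
      split_ifs at h2 <;> omega
  have hV : Nat.card L.V = 1 := by
    interval_cases hc : Nat.card L.V <;> omega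
  exact ⟨by rw [hV, mul_one] at hec; exact hec, hV⟩

omit hG hS in
theorem shape_seven (hH : Nat.card H = ord) (hC : CountsLike H) (L : Local H 7) :
    L.e = 3 ∧ Nat.card L.V = 6 ∧ ¬ IsCyclic L.V := by
  have := Fact.mk (show Nat.Prime 7 by norm_num)
  obtain ⟨x, hx, hxP, hx1, -⟩ := L.exists_gen hH
  have h := L.mul_normalizer hH (by rw [ord]; norm_num)
  rw [cnt_seven hH hC, ord] at h
  have hec : L.e * Nat.card L.V = 18 := by
    refine Nat.eq_of_mul_eq_mul_left (show 0 < 11658240 * 7 by norm_num) ?_
    rw [show 11658240 * 7 * 18 = (7 - 1) * 244823040 by norm_num, ← h]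
    ring
  have he1 : L.e ≠ 1 := L.data.e_ne_one (perfect hH) L.triv (by norm_num)
  have hd := L.data.dvd_e
  obtain ⟨hm2, -⟩ := mathieu_mod7 2
  obtain ⟨n, hn⟩ := hC.2 2 (Nat.pos_of_ne_zero fun e => by simp [e] at hm2)
  have h3 : cnt H n % 7 = 3 := by rw [hn, hm2]; rfl
  rw [cnt_mod hx, cnt_centralizer L.setup hxP hx1] at h3
  -- the residues that a group `V` may give
  have bad : (∀ m, cnt L.V m ∈ ([0, 1, 2, 6, 8] : List ℕ)) → False := fun hall => by
    split_ifs at h3
    · have := hall (n / 7)
      simp only [List.mem_cons, List.not_mem_nil, or_false] at this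
      omega
    · have := hall n
      simp only [List.mem_cons, List.not_mem_nil, or_false] at this
      omega
  have cyc : IsCyclic L.V → Nat.card L.V ∈ ([3, 6, 9] : List ℕ) → False := fun hc hmem =>
    bad fun m => by
      rw [cnt_cyclic]
      split_ifs with hm
      · have hm0 : m ≤ Nat.card L.V := Nat.le_of_dvd Nat.card_pos hm
        simp only [List.mem_cons, List.not_mem_nil, or_false] at hmem
        rcases hmem with e | e | e <;> rw [e] at hm hm0 <;> interval_cases m
        all_goals first | omega | decide +kernel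
      · simp
  have nine : Nat.card L.V ≠ 9 := fun h9 => by
    by_cases hc : IsCyclic L.V
    · exact cyc hc (by rw [h9]; simp)
    have hord : ∀ v : L.V, orderOf v = 1 ∨ orderOf v = 3 := fun v => by
      have hd : orderOf v ∣ 9 := h9 ▸ orderOf_dvd_natCard v
      have h9' : orderOf v ≠ 9 := fun e => hc (isCyclic_of_orderOf_eq_card v (e.trans h9.symm))
      have hle := Nat.le_of_dvd (by norm_num) hd
      interval_cases orderOf v <;> omega
    refine bad fun m => ?_
    by_cases hm1 : m = 1
    · rw [hm1, cnt_one_eq]; simp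
    by_cases hm3 : m = 3
    · have : Fintype L.V := Fintype.ofFinite _
      have h8 : cnt L.V 3 = 8 := by
        have h := Finset.card_eq_sum_card_fiberwise (s := (Finset.univ : Finset L.V)) (f := orderOf)
          (t := ({1, 3} : Finset ℕ)) fun g _ => by
            simp only [Finset.coe_insert, Finset.coe_singleton, Set.mem_insert_iff,
              Set.mem_singleton_iff]
            exact hord g
        rw [Finset.card_univ, ← Nat.card_eq_fintype_card, h9, Finset.sum_insert (by decide),
          Finset.sum_singleton] at h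
        have h1 := cnt_one_eq (M := L.V)
        simp only [cnt, Nat.card_eq_fintype_card, Fintype.card_subtype] at h1 ⊢
        omega
      rw [hm3, h8]; simp
    · have : cnt L.V m = 0 := by
        rw [cnt, Nat.card_eq_zero]
        exact Or.inl ⟨fun a => by rcases hord a.1 with e | e <;> rw [a.2] at e <;> omega⟩
      rw [this]; simp
  have three : Nat.card L.V ≠ 3 := fun h3' => by
    have := Fact.mk Nat.prime_three
    exact cyc (isCyclic_of_prime_card h3') (by rw [h3']; simp)
  have he6 : L.e ≤ 6 := Nat.le_of_dvd (by norm_num) hd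
  have hV : Nat.card L.V = 6 := by
    interval_cases L.e <;> omega
  refine ⟨by rw [hV] at hec; omega, hV, fun hc => cyc hc (by rw [hV]; simp)⟩

end Shapes

end CfsgLib.Blocks.Order244823040
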