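import Cfsg.Agent.Lib.Blocks.Orthogonality
import Cfsg.Agent.Lib.Char.Basic
import Mathlib.GroupTheory.SpecificGroups.Cyclic
import Mathlib.GroupTheory.IndexNormal

/-!
# The irreducible characters of the noncyclic group of order six
-/

set_option autoImplicit false

open scoped ComplexConjugate

namespace CfsgLib.Blocks.Order244823040

open Cfsg CfsgLib CfsgLib.Char
open scoped Classical

variable {V : Type*} [Group V] [Fintype V]

theorem orderOf_six (h6 : Nat.card V = 6) (hc : ¬ IsCyclic V) (v : V) :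
    orderOf v = 1 ∨ orderOf v = 2 ∨ orderOf v = 3 := by
  have hd : orderOf v ∣ 6 := h6 ▸ orderOf_dvd_natCard v
  have h6' : orderOf v ≠ 6 := fun e => hc (isCyclic_of_orderOf_eq_card v (e.trans h6.symm))
  have hle := Nat.le_of_dvd (by norm_num) hd
  interval_cases orderOf v <;> omega

theorem six_structure (h6 : Nat.card V = 6) (hc : ¬ IsCyclic V) :
    ∃ (s t : V) (sg : V →* ℂˣ), orderOf s = 2 ∧ orderOf t = 3 ∧ s * t * s⁻¹ = t⁻¹ ∧
      (∀ v, (sg v : ℂ) = if orderOf v = 2 then -1 else 1) ∧
      ∀ v, ∃ j : ℕ, v = t ^ j ∨ v = s * t ^ j := by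
  have := Fact.mk Nat.prime_two
  have := Fact.mk Nat.prime_three
  obtain ⟨s, hs⟩ := exists_prime_orderOf_dvd_card' (G := V) 2 (by rw [h6]; norm_num)
  obtain ⟨t, ht⟩ := exists_prime_orderOf_dvd_card' (G := V) 3 (by rw [h6]; norm_num)
  set A := Subgroup.zpowers t with hA
  have hAc : Nat.card A = 3 := by rw [hA, Nat.card_zpowers, ht]
  have hidx : A.index = 2 := by
    have := A.index_mul_card
    rw [hAc, h6] at this
    omega
  have hsA : s ∉ A := fun h => by
    have := Subgroup.orderOf_dvd_natCard A h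
    rw [hs, hAc] at this
    norm_num at this
  have hpowA : ∀ v ∈ A, ∃ j : ℕ, v = t ^ j := fun v hv => by
    obtain ⟨j, hj⟩ := mem_zpowers_iff_mem_range_orderOf.1 hv |> Finset.mem_image.1
    exact ⟨j, hj.2.symm⟩
  have hiff : ∀ v, v ∈ A ↔ orderOf v ≠ 2 := fun v => by
    constructor
    · intro h e
      have := Subgroup.orderOf_dvd_natCard A h
      rw [e, hAc] at this
      norm_num at this
    · intro h
      have h2 : v ^ 2 ∈ A := Subgroup.sq_mem_of_index_two hidx v
      rcases orderOf_six h6 hc v with e | e | e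
      · rw [orderOf_eq_one_iff.1 e]; exact one_mem _
      · exact absurd e h
      · have h3 : v = (v ^ 2) ^ 2 := by
          rw [← pow_mul, pow_succ, ← e, pow_orderOf_eq_one, one_mul]
        rw [h3]
        exact Subgroup.pow_mem _ h2 2
  let sg : V →* ℂˣ :=
    { toFun := fun v => if v ∈ A then 1 else -1
      map_one' := if_pos (one_mem A)
      map_mul' := fun a b => by
        have h := Subgroup.mul_mem_iff_of_index_two hidx (a := a) (b := b)
        by_cases ha : a ∈ A <;> by_cases hb : b ∈ A <;> simp [ha, hb, h] }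
  refine ⟨s, t, sg, hs, ht, ?_, fun v => ?_, fun v => ?_⟩
  · have hn : A.Normal := Subgroup.normal_of_index_eq_two hidx
    obtain ⟨j, hj⟩ := hpowA _ (hn.conj_mem t (Subgroup.mem_zpowers t) s)
    have hj3 : t ^ j = t ^ (j % 3) := by rw [← ht, pow_mod_orderOf]
    rw [hj, hj3]
    rw [hj3] at hj
    have hlt : j % 3 < 3 := Nat.mod_lt _ (by norm_num)
    interval_cases hr : j % 3
    · rw [pow_zero, conj_eq_one_iff] at hj
      rw [hj, orderOf_one] at ht
      norm_num at ht
    · exfalso
      rw [pow_one, mul_inv_eq_iff_eq_mul] at hj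
      have h : orderOf (s * t) = 6 := by
        rw [(show Commute s t from hj).orderOf_mul_eq_mul_orderOf_of_coprime
          (by rw [hs, ht]; norm_num), hs, ht]
      exact hc (isCyclic_of_orderOf_eq_card _ (h.trans h6.symm))
    · refine eq_inv_of_mul_eq_one_left ?_
      rw [← pow_succ, show (2 + 1 : ℕ) = orderOf t from ht.symm, pow_orderOf_eq_one]
  · show (((if v ∈ A then 1 else -1 : ℂˣ)) : ℂ) = _
    by_cases hA' : v ∈ A
    · rw [if_pos hA', if_neg ((hiff v).1 hA'), Units.val_one]
    · rw [if_neg hA', if_pos (by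
        by_contra h
        exact hA' ((hiff v).2 h))]
      simp
  · by_cases hv : v ∈ A
    · exact (hpowA v hv).imp fun j e => Or.inl e
    · have h := (Subgroup.mul_mem_iff_of_index_two hidx (a := s⁻¹) (b := v)).2
        (iff_of_false (fun e => hsA (inv_mem_iff.1 e)) hv)
      obtain ⟨j, hj⟩ := hpowA _ h
      exact ⟨j, Or.inr (by rw [← hj, mul_inv_cancel_left])⟩

/-- The trivial character, the sign and the character of degree two. -/
theorem six_irr (h6 : Nat.card V = 6) (hc : ¬ IsCyclic V) :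
    ∃ σ τ : IrrCharacter V, (∀ v, (σ : V → ℂ) v = if orderOf v = 2 then -1 else 1) ∧
      (∀ v, (τ : V → ℂ) v = if v = 1 then 2 else if orderOf v = 2 then 0 else -1) ∧
      ∀ η : IrrCharacter V, η = trivChar V ∨ η = σ ∨ η = τ := by
  obtain ⟨s, t, sg, hs, ht, hst, hsg, hgen⟩ := six_structure h6 hc
  have := Fintype.ofFinite (IrrCharacter V)
  set σ : IrrCharacter V := ⟨_, isIrrCharacter_linear sg⟩ with hσ
  have hσv : ∀ v, (σ : V → ℂ) v = if orderOf v = 2 then -1 else 1 := hsg
  choose d hd0 hd using fun ψ : IrrCharacter V => IsIrr.exists_degree ψ.2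
  have hne : (σ : IrrCharacter V) ≠ trivChar V := fun e => by
    have := congrFun (congrArg Subtype.val e) s
    rw [hσv, trivChar_apply, if_pos hs] at this
    norm_num at this
  -- a linear character is trivial or the sign
  have hlin : ∀ η : IrrCharacter V, d η = 1 → η = trivChar V ∨ η = σ := by
    intro η h1
    obtain ⟨φ, hφ⟩ := exists_linear_of_degree_one (IsIrr.isCharacter η.2) (by rw [hd, h1, Nat.cast_one])
    have hφ' : ∀ v, (η : V → ℂ) v = (φ v : ℂ) := fun v => by simp [hφ]
    have e3 : φ t ^ 3 = 1 := by rw [← map_pow, ← ht, pow_orderOf_eq_one, map_one]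
    have e1 : φ t ^ 2 = 1 := by
      have h := congrArg φ hst
      rw [map_mul, map_mul, map_inv, map_inv, mul_comm (φ s), mul_inv_cancel_right] at h
      rw [pow_two]
      nth_rw 2 [h]
      exact mul_inv_cancel _
    have et : φ t = 1 := by
      rw [← e3, pow_succ, e1, one_mul]
    have es : (φ s : ℂ) ^ 2 = 1 := by
      rw [← Units.val_pow_eq_pow_val, ← map_pow, ← hs, pow_orderOf_eq_one, map_one, Units.val_one]
    have hts : (sg t : ℂ) = 1 := by rw [hsg, ht]; norm_num
    have hss : (sg s : ℂ) = -1 := by rw [hsg, if_pos hs]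
    rcases sq_eq_one_iff.1 es with e | e
    · refine Or.inl (irr_ext fun v => ?_)
      rw [trivChar_apply, hφ']
      obtain ⟨j, rfl | rfl⟩ := hgen v <;> simp [et, e]
    · refine Or.inr (irr_ext fun v => ?_)
      show _ = (sg v : ℂ)
      rw [hφ']
      obtain ⟨j, rfl | rfl⟩ := hgen v <;> simp [et, e, hts, hss]
  -- the sum of the squares of the degrees
  have hsum : ∑ ψ, d ψ ^ 2 = 6 := by
    have h := sum_sq_degree (G := V)
    simp only [hd, ← Nat.card_eq_fintype_card, h6] at h
    exact_mod_cast h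
  have hd1 : d (trivChar V) = 1 ∧ d σ = 1 := by
    constructor
    · have := hd (trivChar V)
      rw [trivChar_apply] at this
      exact_mod_cast this.symm
    · have := hd σ
      rw [hσv, orderOf_one, if_neg (by norm_num)] at this
      exact_mod_cast this.symm
  set R := ((Finset.univ : Finset (IrrCharacter V)).erase (trivChar V)).erase σ with hR
  have hσm : σ ∈ (Finset.univ : Finset (IrrCharacter V)).erase (trivChar V) :=
    Finset.mem_erase.2 ⟨hne, Finset.mem_univ _⟩
  have hsR : ∑ ψ ∈ R, d ψ ^ 2 = 4 := by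
    rw [← Finset.add_sum_erase _ _ (Finset.mem_univ (trivChar V)),
      ← Finset.add_sum_erase _ _ hσm, hd1.1, hd1.2, ← hR] at hsum
    omega
  have hmem : ∀ ψ, ψ ∈ R ↔ ψ ≠ trivChar V ∧ ψ ≠ σ := fun ψ => by
    simp [hR, and_comm]
  have hR2 : ∀ ψ ∈ R, d ψ = 2 := by
    intro ψ hψ
    have h1 : d ψ ^ 2 ≤ 4 := hsR ▸ Finset.single_le_sum (f := fun ψ => d ψ ^ 2)
      (fun _ _ => Nat.zero_le _) hψ
    have h0 := hd0 ψ
    have h3 : d ψ ≤ 2 := by nlinarith
    have hn : d ψ ≠ 1 := fun e => by
      obtain ⟨a, b⟩ := (hmem ψ).1 hψ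
      rcases hlin ψ e with c | c
      · exact a c
      · exact b c
    omega
  obtain ⟨τ, hτ⟩ : ∃ τ, R = {τ} := Finset.card_eq_one.1 (by
    rw [Finset.sum_congr rfl fun ψ hψ => by rw [hR2 ψ hψ], Finset.sum_const, smul_eq_mul] at hsR
    omega)
  have hall : ∀ η : IrrCharacter V, η = trivChar V ∨ η = σ ∨ η = τ := fun η => by
    by_contra hcon
    rw [not_or, not_or] at hcon
    exact hcon.2.2 (Finset.mem_singleton.1 (hτ ▸ (hmem η).2 ⟨hcon.1, hcon.2.1⟩))
  refine ⟨σ, τ, hσv, fun v => ?_, hall⟩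
  have hτ2 : (τ : V → ℂ) 1 = 2 := by
    rw [hd, hR2 τ (by rw [hτ]; exact Finset.mem_singleton_self _)]
    norm_num
  by_cases hv : v = 1
  · rw [if_pos hv, hv, hτ2]
  · rw [if_neg hv]
    have h := sum_degree_mul_apply_of_ne_one hv
    rw [← Finset.add_sum_erase _ _ (Finset.mem_univ (trivChar V)),
      ← Finset.add_sum_erase _ _ hσm, ← hR, hτ, Finset.sum_singleton, trivChar_apply,
      trivChar_apply, hτ2, hσv 1, orderOf_one, if_neg (by norm_num), hσv v] at h
    split_ifs at h ⊢ <;> linear_combination h / 2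

end CfsgLib.Blocks.Order244823040
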