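import Cfsg.Agent.Lib.Blocks.Order244823040.EtaBlock
import Cfsg.Agent.Lib.Blocks.Order244823040.SixGroup

/-!
# The three blocks of positive defect at the prime 7

The centralizer complement is the noncyclic group of order six, its three characters are invariant,
and no involution inverts an element of order 7.
-/

set_option autoImplicit false

namespace CfsgLib.Blocks.Order244823040

open Cfsg CfsgLib CfsgLib.Char CfsgLib.CharIntegral CfsgLib.Blocks.PrimeSylow
open CfsgLib.Blocks.Order95040 (deg cent deg_cast deg_trivChar)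
open CfsgLib.Blocks.Order443520 (card_pairs sq_eq_one_of_isConj not_inverts_of_odd)
open scoped Classical ComplexConjugate

variable {G : Type*} [Group G] [Fintype G]

/-- The degrees of the three characters of the complement. -/
def etaDeg : Fin 3 → ℕ := ![1, 1, 2]

/-- Their values at an involution. -/
def etaVal : Fin 3 → ℤ := ![1, -1, 0]

/-- The three blocks. -/
structure Seven (L : Local G 7) where
  η : Fin 3 → IrrCharacter L.V
  deg_η : ∀ i, charDegree (η i : L.V → ℂ) = etaDeg i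
  val_η : ∀ i (s : L.V), orderOf (s : G) = 2 → (η i : L.V → ℂ) s = (etaVal i : ℂ)
  real : ∀ i v, (η i : L.V → ℂ) v⁻¹ = (η i : L.V → ℂ) v
  orth : ∀ i j, ∑ v : L.V, (η i : L.V → ℂ) v * (η j : L.V → ℂ) v = if i = j then 6 else 0
  blk : ∀ i, EtaBlock 7 L.P L.V 3 (η i)
  disj : ∀ i j, i ≠ j → Disjoint (blk i).all (blk j).all
  cover : ∀ χ : IrrCharacter G, ¬ 7 ∣ deg χ ↔ ∃ i, χ ∈ (blk i).all
  triv : trivChar G ∈ (blk 0).X ∧ (blk 0).δ (trivChar G) = 1

theorem inertial_eq [Fact (Nat.Prime 7)] (L : Local G 7) (η : IrrCharacter L.V)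
    (hfix : ∀ ζ ∈ orbitV L.P η, ζ = η) : L.setup.inertialIndex (η : L.V → ℂ) = L.e := by
  have h1 := L.setup.card_orbit_mul η
  have horb : Nat.card (orbitV L.P η) = 1 := by
    rw [Nat.card_eq_one_iff_unique]
    exact ⟨⟨fun a b => Subtype.ext ((hfix a a.2).trans (hfix b b.2).symm)⟩,
      ⟨⟨η, L.setup.mem_orbit_self η⟩⟩⟩
  rw [horb, one_mul] at h1
  have h2 := Subgroup.relIndex_mul_relIndex ⊥ (Subgroup.centralizer (L.P : Set G))
    (Subgroup.normalizer (L.P : Set G)) bot_le (Blocks.centralizer_le_normalizer' L.P)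
  rw [Subgroup.relIndex_bot_left, Subgroup.relIndex_bot_left, L.setup.card_centralizer,
    L.card_normalizer, ← h1, mul_comm L.e] at h2
  exact Nat.eq_of_mul_eq_mul_left (Nat.mul_pos (by norm_num) Nat.card_pos) h2

/-- The blocks exist. -/
theorem exists_seven_blocks (L : Local G 7) (he : L.e = 3) (h6 : Nat.card L.V = 6)
    (hc : ¬ IsCyclic L.V) : Nonempty (Seven L) := by
  have := Fact.mk (show Nat.Prime 7 by norm_num)
  have := Fintype.ofFinite L.P
  obtain ⟨M, hM⟩ := CfsgLib.ZStar.exists_isPModular (p := 7) (Fact.out : Nat.Prime 7)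
  have : M.IsPrime := hM.2.1.isPrime
  obtain ⟨σ, τ, hσ, hτ, hall⟩ := six_irr h6 hc
  let η : Fin 3 → IrrCharacter L.V := ![trivChar L.V, σ, τ]
  have hη1 : ∀ i, (η i : L.V → ℂ) 1 = (etaDeg i : ℂ) := by
    intro i
    fin_cases i <;> simp [η, etaDeg, hσ, hτ]
  have hdeg : ∀ i, charDegree (η i : L.V → ℂ) = etaDeg i := fun i => by
    have h := hη1 i
    rw [apply_one_eq_charDegree] at h
    exact_mod_cast h
  have hreal : ∀ i v, (η i : L.V → ℂ) v⁻¹ = (η i : L.V → ℂ) v := by
    intro i v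
    fin_cases i <;> simp [η, hσ, hτ]
  have hs : ∀ i (s : L.V), orderOf (s : G) = 2 → (η i : L.V → ℂ) s = (etaVal i : ℂ) := by
    intro i s hs
    rw [Subgroup.orderOf_coe] at hs
    have hs1 : s ≠ 1 := fun e => by simp [e] at hs
    fin_cases i <;> simp [η, etaVal, hσ, hτ, hs, hs1]
  obtain ⟨s₀, hs₀⟩ := exists_prime_orderOf_dvd_card' (G := L.V) 2
    (hp := ⟨Nat.prime_two⟩) (by rw [h6]; norm_num)
  have hinj : Function.Injective η := fun i j e => by
    have a : etaDeg i = etaDeg j := by rw [← hdeg, ← hdeg, e]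
    have h0 : orderOf (s₀ : G) = 2 := by rw [Subgroup.orderOf_coe, hs₀]
    have b : etaVal i = etaVal j := by
      have h := hs i s₀ h0
      rw [e, hs j s₀ h0] at h
      exact_mod_cast h.symm
    exact (by decide : ∀ i j : Fin 3, etaDeg i = etaDeg j → etaVal i = etaVal j → i = j) i j a b
  have hsurj : ∀ ζ, ∃ i, η i = ζ := fun ζ => by
    rcases hall ζ with e | e | e
    · exact ⟨0, e.symm⟩
    · exact ⟨1, e.symm⟩
    · exact ⟨2, e.symm⟩
  -- conjugation in the normalizer fixes each of them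
  have hfix : ∀ i, ∀ ζ ∈ orbitV L.P (η i), ζ = η i := by
    intro i ζ hζ
    obtain ⟨j, rfl⟩ := hsurj ζ
    obtain ⟨n, hn, e⟩ := hζ
    have hd : etaDeg j = etaDeg i := by
      have h1 : ((η j : IrrCharacter L.V) : L.V → ℂ) 1 = (η i : L.V → ℂ) 1 := by
        rw [e, L.setup.cjFun_apply _ hn]
        exact congrArg _ (Subtype.ext (by simp))
      rw [hη1, hη1] at h1
      exact_mod_cast h1
    by_cases hij : j = i
    · rw [hij]
    · exfalso
      have hz : (i = 0 ∧ j = 1) ∨ (i = 1 ∧ j = 0) :=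
        (by decide : ∀ i j : Fin 3, etaDeg j = etaDeg i → j ≠ i →
          (i = 0 ∧ j = 1) ∨ (i = 1 ∧ j = 0)) i j hd hij
      rcases hz with ⟨rfl, rfl⟩ | ⟨rfl, rfl⟩
      · exact hij (hinj (Subtype.ext (e.trans (L.setup.cjFun_trivChar hn))))
      · have h0 : ((η 1 : IrrCharacter L.V) : L.V → ℂ) = ((trivChar L.V : IrrCharacter L.V) : L.V → ℂ) := by
          have h' := congrArg (fun f => cjFun f n⁻¹) e.symm
          simp only [L.setup.cjFun_mul _ hn (inv_mem hn), mul_inv_cancel, L.setup.cjFun_one] at h'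
          rw [h']
          exact L.setup.cjFun_trivChar (inv_mem hn)
        exact hij (hinj (Subtype.ext h0)).symm
  have hex : ∀ i, ∃ D : EtaBlock 7 L.P L.V 3 (η i),
      ∀ χ : IrrCharacter G, χ ∈ D.all ↔ χ ∈ blockSet M L.P (η i : L.V → ℂ) := fun i => by
    have h := exists_etaBlock L.setup hM (η i) (hfix i)
    rwa [inertial_eq L (η i) (hfix i), he] at h
  choose D hD using hex
  have hdisj : ∀ i j, i ≠ j → Disjoint (D i).all (D j).all := fun i j hij => by
    refine Finset.disjoint_left.2 fun χ a b => hij ?_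
    obtain ⟨n, hn, e⟩ := L.setup.exists_conj_of_mem hM ((hD i χ).1 a) ((hD j χ).1 b)
    exact (hinj (hfix i (η j) ⟨n, hn, e⟩)).symm
  have htriv0 : trivChar G ∈ (D 0).all := (hD 0 _).2 (L.setup.trivChar_mem_blockSet hM)
  have htX : trivChar G ∈ (D 0).X := by
    refine (Finset.mem_union.1 htriv0).resolve_right fun hy => ?_
    have h := (D 0).modY _ hy
    rw [hdeg, deg_trivChar] at h
    rcases (D 0).sgnY with e | e <;> rw [e] at h <;> revert h <;> decide
  refine ⟨⟨η, hdeg, hs, hreal, fun i j => ?_, D, hdisj, fun χ => ⟨fun hd => ?_, ?_⟩, htX, ?_⟩⟩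
  · have h := classInner_irr (η i) (η j)
    have hconj : ∀ v, conj ((η j : L.V → ℂ) v) = (η j : L.V → ℂ) v := fun v => by
      rw [← IsIrr.map_inv (η j).2, hreal]
    simp only [classInner, hconj, h6, hinj.eq_iff] at h
    rw [inv_mul_eq_iff_eq_mul₀ (by norm_num)] at h
    rw [h]
    split_ifs <;> norm_num
  · obtain ⟨ζ, hζ⟩ := L.setup.exists_mem_blockSet hM hd
    obtain ⟨i, rfl⟩ := hsurj ζ
    exact ⟨i, (hD i χ).2 hζ⟩
  · rintro ⟨i, hi⟩
    exact L.setup.not_dvd_of_mem hM ((hD i χ).1 hi)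
  · obtain ⟨x, hx, hx1⟩ : ∃ x ∈ L.P, x ≠ (1 : G) := by
      refine L.P.bot_or_exists_ne_one.resolve_left fun hb => ?_
      have := L.setup.card
      rw [hb, Subgroup.card_bot] at this
      norm_num at this
    have h := (D 0).valX _ htX x hx hx1 1
    rw [trivChar_apply, hη1] at h
    simp only [etaDeg, Matrix.cons_val_zero, Nat.cast_one, mul_one] at h
    exact_mod_cast h.symm

namespace Seven

variable {L : Local G 7} (S : Seven L)

theorem deg_mod_X (i : Fin 3) {χ : IrrCharacter G} (hχ : χ ∈ (S.blk i).X) :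
    (deg χ : ℤ) ≡ (S.blk i).δ χ * etaDeg i [ZMOD 7] := by
  have h := (S.blk i).modX χ hχ
  rwa [S.deg_η] at h

theorem deg_mod_Y (i : Fin 3) {θ : IrrCharacter G} (hθ : θ ∈ (S.blk i).Y) :
    (deg θ : ℤ) ≡ (S.blk i).ε * 3 * etaDeg i [ZMOD 7] := by
  have h := (S.blk i).modY θ hθ
  rwa [S.deg_η] at h

theorem exists_theta (i : Fin 3) : ∃ θ, θ ∈ (S.blk i).Y := by
  show (S.blk i).Y.Nonempty
  rw [← Finset.card_pos, (S.blk i).cardY]
  norm_num

theorem not_dvd_of_mem (i : Fin 3) {χ : IrrCharacter G} (hχ : χ ∈ (S.blk i).all) : ¬ 7 ∣ deg χ :=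
  (S.cover χ).2 ⟨i, hχ⟩

variable [IsSimpleGroup G] (hG : Nat.card G = ord)
include hG

/-- A character of degree divisible by 7 vanishes at the elements `x v`. -/
theorem eq_zero_of_dvd {χ : IrrCharacter G} (hd : 7 ∣ deg χ) {x : G} (hx : x ∈ L.P) (hx1 : x ≠ 1)
    (v : L.V) : (χ : G → ℂ) (x * v) = 0 := by
  refine vanish hG (n := 1) (by norm_num : Nat.Prime 7) (by rw [ord]; norm_num)
    (by rw [ord]; norm_num) (by simpa using hd) ?_
  rw [(L.setup.commute hx v.2).orderOf_mul_eq_mul_orderOf_of_coprime ?_, L.setup.orderOf_eq hx hx1]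
  · exact dvd_mul_right 7 _
  · rw [L.setup.orderOf_eq hx hx1, (by norm_num : Nat.Prime 7).coprime_iff_not_dvd]
    exact L.setup.not_dvd_orderOf v.2

/-- No pairs of conjugate involutions multiply into `x V`, so each block kills the squares of the
values at an involution divided by the degrees. -/
theorem pairs [Fintype (IrrCharacter G)] (he : L.e = 3) (i : Fin 3) {r : G} (hr : orderOf r = 2)
    {θ : IrrCharacter G} (hθ : θ ∈ (S.blk i).Y) :
    ∑ χ ∈ (S.blk i).X, ((S.blk i).δ χ : ℂ) * ((χ : G → ℂ) r ^ 2 / (χ : G → ℂ) 1) -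
      ((S.blk i).ε : ℂ) * ((θ : G → ℂ) r ^ 2 / (θ : G → ℂ) 1) = 0 := by
  have := Fact.mk (show Nat.Prime 7 by norm_num)
  obtain ⟨x, hx, hx1⟩ := L.exists_mem_P hG
  set c : IrrCharacter G → ℂ := fun χ => (χ : G → ℂ) r ^ 2 / (χ : G → ℂ) 1 with hc
  have hzero : ∀ v : L.V, ∑ χ : IrrCharacter G, c χ * (χ : G → ℂ) (x * v)⁻¹ = 0 := by
    intro v
    have h := card_pairs r (x * (v : G))
    have he0 : ((classFinset r ×ˢ classFinset r).filter fun u => u.1 * u.2 = x * v) = ∅ := by
      refine Finset.filter_eq_empty_iff.2 fun u hu e => ?_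
      obtain ⟨h1, h2⟩ := Finset.mem_product.1 hu
      have hu1 := sq_eq_one_of_isConj hr (mem_classFinset.1 h1)
      have hu2 := sq_eq_one_of_isConj hr (mem_classFinset.1 h2)
      have e2 : u.1 * (x * v) * u.1⁻¹ = x⁻¹ * (v : G)⁻¹ := by
        rw [(L.setup.commute hx v.2).inv_inv.eq, ← mul_inv_rev, ← e, mul_inv_rev,
          inv_eq_of_mul_eq_one_right hu1, inv_eq_of_mul_eq_one_right hu2,
          ← mul_assoc u.1 u.1, hu1, one_mul]
      exact not_inverts_of_odd L.setup (by norm_num) L.card_normalizer (by rw [he]; decide) hx hx1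
        hu1 (L.setup.fusion hx (inv_mem hx) hx1 v.2 (inv_mem v.2) e2).2.1
    rw [he0, Finset.card_empty, Nat.cast_zero, zero_mul, eq_comm, mul_eq_zero] at h
    exact h.resolve_left (pow_ne_zero _ (Nat.cast_ne_zero.2 Subgroup.index_ne_zero_of_finite))
  set y := x⁻¹ with hy'
  have hy : y ∈ L.P := inv_mem hx
  have hy1 : y ≠ 1 := inv_ne_one.2 hx1
  set w : IrrCharacter G → ℂ := fun χ =>
    ∑ v : L.V, (S.η i : L.V → ℂ) v * (χ : G → ℂ) (y * v) with hw
  have hsum : ∑ χ : IrrCharacter G, c χ * w χ = 0 := by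
    simp only [hw, Finset.mul_sum]
    rw [Finset.sum_comm]
    refine Finset.sum_eq_zero fun v _ => ?_
    have h := hzero v⁻¹
    rw [Subgroup.coe_inv, mul_inv_rev, inv_inv, (L.setup.commute hy v.2).symm.eq] at h
    calc ∑ χ : IrrCharacter G, c χ * ((S.η i : L.V → ℂ) v * (χ : G → ℂ) (y * v))
        = (S.η i : L.V → ℂ) v * ∑ χ : IrrCharacter G, c χ * (χ : G → ℂ) (y * v) := by
          rw [Finset.mul_sum]; exact Finset.sum_congr rfl fun χ _ => by ring
      _ = 0 := by rw [h, mul_zero]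
  have hblk : ∀ j, ∑ χ ∈ (S.blk j).all, c χ * w χ =
      (if i = j then 6 else 0) * (∑ χ ∈ (S.blk j).X, ((S.blk j).δ χ : ℂ) * c χ -
        ((S.blk j).ε : ℂ) * c (Classical.choose (S.exists_theta j))) := by
    intro j
    set D := S.blk j
    set θ₀ := Classical.choose (S.exists_theta j)
    have hθ₀ : θ₀ ∈ D.Y := Classical.choose_spec (S.exists_theta j)
    have hcY : ∀ a ∈ D.Y, c a = c θ₀ := fun a ha => by
      simp only [hc]
      rw [D.sameY a ha θ₀ hθ₀ r (by rw [hr]; norm_num),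
        D.sameY a ha θ₀ hθ₀ 1 (by rw [orderOf_one]; norm_num)]
    rw [EtaBlock.all, Finset.sum_union D.disj, mul_sub, Finset.mul_sum, sub_eq_add_neg]
    refine congrArg₂ (· + ·) (Finset.sum_congr rfl fun χ hχ => ?_) ?_
    · rw [← S.orth i j]
      simp only [hw, D.valX χ hχ y hy hy1, Finset.mul_sum, Finset.sum_mul]
      exact Finset.sum_congr rfl fun v _ => by ring
    · rw [Finset.sum_congr rfl fun a ha => by rw [hcY a ha], ← Finset.mul_sum, ← S.orth i j]
      simp only [hw]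
      rw [Finset.sum_comm]
      simp only [← Finset.mul_sum, D.sumY y hy hy1, Finset.sum_mul]
      rw [Finset.mul_sum, ← Finset.sum_neg_distrib]
      exact Finset.sum_congr rfl fun v _ => by ring
  have hrest : ∀ χ, χ ∉ (Finset.univ : Finset (Fin 3)).biUnion (fun j => (S.blk j).all) →
      c χ * w χ = 0 := fun χ hχ => by
    have hd : 7 ∣ deg χ := by
      by_contra hd
      obtain ⟨j, hj⟩ := (S.cover χ).1 hd
      exact hχ (Finset.mem_biUnion.2 ⟨j, Finset.mem_univ _, hj⟩)
    simp only [hw, eq_zero_of_dvd hG hd hy hy1, mul_zero, Finset.sum_const_zero]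
  rw [← Finset.sum_subset (Finset.subset_univ _) (fun χ _ => hrest χ),
    Finset.sum_biUnion (fun a _ b _ hab => S.disj a b hab), Finset.sum_congr rfl fun j _ => hblk j]
    at hsum
  simp only [ite_mul, zero_mul, Finset.sum_ite_eq, Finset.mem_univ, if_true, mul_eq_zero,
    show ¬ ((6 : ℂ) = 0) by norm_num, false_or] at hsum
  have hcθ : c θ = c (Classical.choose (S.exists_theta i)) := by
    have hθ₀ := Classical.choose_spec (S.exists_theta i)
    simp only [hc]
    rw [(S.blk i).sameY θ hθ _ hθ₀ r (by rw [hr]; norm_num),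
      (S.blk i).sameY θ hθ _ hθ₀ 1 (by rw [orderOf_one]; norm_num)]
  rw [← hcθ] at hsum
  exact hsum

end Seven

end CfsgLib.Blocks.Order244823040
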