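import Cfsg.Agent.Lib.Blocks.Order244823040.SevenSearch

/-!
# The centralizer of an involution of the complement at the prime 7

The complement is the symmetric group of degree three, so its three involutions are conjugate and
the normalizer meets the centralizer of each in a subgroup of order 42.
-/

set_option autoImplicit false

namespace CfsgLib.Blocks.Order244823040

open Cfsg CfsgLib CfsgLib.Char CfsgLib.CharIntegral CfsgLib.Blocks.PrimeSylow
open CfsgLib.Blocks.Order95040 (deg cent deg_cast deg_trivChar)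
open scoped Classical ComplexConjugate

variable {G : Type*} [Group G] [Fintype G]

omit [Fintype G] in
/-- A subgroup with representatives of all the cosets of another inside a larger one. -/
theorem card_mul_eq_of_cover {V N K : Subgroup G} (hVN : V ≤ N)
    (hcov : ∀ n ∈ N, ∃ v ∈ V, v⁻¹ * n ∈ K) :
    Nat.card N * Nat.card (V ⊓ K : Subgroup G) = Nat.card V * Nat.card (N ⊓ K : Subgroup G) := by
  have hb : Function.Bijective (Subgroup.quotientSubgroupOfEmbeddingOfLE K hVN) := by
    refine ⟨(Subgroup.quotientSubgroupOfEmbeddingOfLE K hVN).injective, fun q => ?_⟩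
    induction q using QuotientGroup.induction_on with
    | H n =>
      obtain ⟨v, hv, hk⟩ := hcov n n.2
      refine ⟨QuotientGroup.mk ⟨v, hv⟩, ?_⟩
      rw [Subgroup.quotientSubgroupOfEmbeddingOfLE_apply_mk, QuotientGroup.eq,
        Subgroup.mem_subgroupOf]
      exact hk
  have e := Nat.card_congr (Equiv.ofBijective _ hb)
  have key : ∀ M : Subgroup G, Nat.card (K.subgroupOf M) = Nat.card (M ⊓ K : Subgroup G) :=
    fun M => by
      rw [← Subgroup.inf_subgroupOf_left]
      exact Nat.card_congr (Subgroup.subgroupOfEquivOfLe inf_le_left).toEquiv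
  rw [Subgroup.card_eq_card_quotient_mul_card_subgroup (K.subgroupOf N),
    Subgroup.card_eq_card_quotient_mul_card_subgroup (K.subgroupOf V), key, key, ← e]
  ring

namespace Shaped

variable (H : Shaped G) [IsSimpleGroup G] (hG : Nat.card G = ord)
include H hG

omit [IsSimpleGroup G] hG in
theorem conj_mem_V {n : G} (hn : n ∈ Subgroup.normalizer (H.L7.P : Set G)) {v : G}
    (hv : v ∈ H.L7.V) : n * v * n⁻¹ ∈ H.L7.V := by
  obtain ⟨hc, ho⟩ := (H.L7.setup.mem_V v).1 hv
  refine (H.L7.setup.mem_V _).2 ⟨Subgroup.mem_centralizer_iff.2 fun x hx => ?_, ?_⟩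
  · have hx' : n⁻¹ * x * n ∈ H.L7.P :=
      (Subgroup.mem_normalizer_iff''.1 hn x).1 hx
    have h := Subgroup.mem_centralizer_iff.1 hc _ hx'
    calc x * (n * v * n⁻¹) = n * (n⁻¹ * x * n * v) * n⁻¹ := by group
      _ = n * (v * (n⁻¹ * x * n)) * n⁻¹ := by rw [h]
      _ = _ := by group
  · rw [Order7920.orderOf_conj_eq']; exact ho

omit [IsSimpleGroup G] hG in
/-- Involutions of the complement are conjugate there. -/
theorem conj_of_involutions {s t : H.L7.V} (hs : orderOf s = 2) (ht : orderOf t = 2) :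
    ∃ v : H.L7.V, v * s * v⁻¹ = t := by
  have := Fact.mk Nat.prime_two
  have hf : 2 ^ (Nat.card H.L7.V).factorization 2 = 2 := by
    rw [H.v7, show (6 : ℕ) = 2 * 3 by norm_num, Nat.factorization_mul (by norm_num) (by norm_num),
      Finsupp.add_apply, Nat.prime_two.factorization_self,
      Nat.factorization_eq_zero_of_not_dvd (by norm_num), pow_one]
  have hcard : ∀ w : H.L7.V, orderOf w = 2 → ∃ S : Sylow 2 H.L7.V,
      (S : Subgroup H.L7.V) = Subgroup.zpowers w := fun w hw => by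
    obtain ⟨S, hS⟩ := (IsPGroup.of_card (G := Subgroup.zpowers w) (n := 1)
      (by rw [Nat.card_zpowers, hw, pow_one])).exists_le_sylow
    refine ⟨S, (Subgroup.eq_of_le_of_card_ge hS ?_).symm⟩
    rw [S.card_eq_multiplicity, hf, Nat.card_zpowers, hw]
  obtain ⟨S, hS⟩ := hcard s hs
  obtain ⟨T, hT⟩ := hcard t ht
  obtain ⟨v, hv⟩ := MulAction.exists_smul_eq H.L7.V S T
  refine ⟨v, ?_⟩
  have hm : v * s * v⁻¹ ∈ Subgroup.zpowers t := by
    rw [← hT, ← hv, Sylow.coe_subgroup_smul]
    refine Subgroup.mem_pointwise_smul_iff_inv_smul_mem.2 ?_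
    simp [mul_assoc, hS, Subgroup.mem_zpowers]
  obtain ⟨j, hjlt, hj⟩ := Finset.mem_image.1 (mem_zpowers_iff_mem_range_orderOf.1 hm)
  rw [Finset.mem_range, ht] at hjlt
  have ho : orderOf (v * s * v⁻¹) = 2 := by rw [Order7920.orderOf_conj_eq', hs]
  rw [← hj] at ho ⊢
  interval_cases j
  · simp at ho
  · exact pow_one t

/-- The centralizer order of an involution of the complement. -/
theorem cent_seven {s : G} (hsV : s ∈ H.L7.V) (hs : orderOf s = 2) : cent s ∈ sevenCents := by
  have := Fact.mk (show Nat.Prime 7 by norm_num)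
  have := Fact.mk (show Nat.Prime 11 by norm_num)
  have := Fact.mk (show Nat.Prime 23 by norm_num)
  set N := Subgroup.normalizer (H.L7.P : Set G) with hN
  set K := Subgroup.centralizer ({s} : Set G) with hK
  have hs1 : s ≠ 1 := fun e => by simp [e] at hs
  have hs' : orderOf (⟨s, hsV⟩ : H.L7.V) = 2 := by rwa [Subgroup.orderOf_mk]
  have hVN : H.L7.V ≤ N := fun v hv => Blocks.centralizer_le_normalizer' H.L7.P (H.L7.setup.V_le hv)
  have hcov : ∀ n ∈ N, ∃ v ∈ H.L7.V, v⁻¹ * n ∈ K := fun n hn => by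
    have ho : orderOf (⟨n * s * n⁻¹, H.conj_mem_V hn hsV⟩ : H.L7.V) = 2 := by
      rw [Subgroup.orderOf_mk, Order7920.orderOf_conj_eq', hs]
    obtain ⟨v, hv⟩ := H.conj_of_involutions hs' ho
    have hv' := congrArg Subtype.val hv
    simp only [Subgroup.coe_mul, InvMemClass.coe_inv] at hv'
    refine ⟨v, v.2, Subgroup.mem_centralizer_singleton_iff.2 ?_⟩
    calc (v : G)⁻¹ * n * s = (v : G)⁻¹ * (n * s * n⁻¹) * n := by group
      _ = (v : G)⁻¹ * (v * s * (v : G)⁻¹) * n := by rw [hv']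
      _ = _ := by group
  have hVK : Nat.card (H.L7.V ⊓ K : Subgroup G) = 2 := by
    have hd : Nat.card (H.L7.V ⊓ K : Subgroup G) ∣ 6 := H.v7 ▸ Subgroup.card_dvd_of_le inf_le_left
    have h2 : 2 ∣ Nat.card (H.L7.V ⊓ K : Subgroup G) := by
      rw [← hs]
      exact Subgroup.orderOf_dvd_natCard _ ⟨hsV, Subgroup.mem_centralizer_singleton_iff.2 rfl⟩
    have hne : Nat.card (H.L7.V ⊓ K : Subgroup G) ≠ 6 := fun e6 => by
      have heq : H.L7.V ⊓ K = H.L7.V :=
        Subgroup.eq_of_le_of_card_ge inf_le_left (by rw [H.v7, e6])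
      have := Fact.mk Nat.prime_three
      obtain ⟨t, ht⟩ := exists_prime_orderOf_dvd_card' (G := H.L7.V) 3 (by rw [H.v7]; norm_num)
      have htK : (t : G) ∈ K := (heq.symm ▸ t.2 : (t : G) ∈ H.L7.V ⊓ K).2
      have hc : Commute t ⟨s, hsV⟩ :=
        Subtype.ext (Subgroup.mem_centralizer_singleton_iff.1 htK)
      refine H.nc7 (isCyclic_of_orderOf_eq_card (t * ⟨s, hsV⟩) ?_)
      rw [hc.orderOf_mul_eq_mul_orderOf_of_coprime (by rw [ht, hs']; norm_num), ht, hs', H.v7]
    have := Nat.le_of_dvd (by norm_num) hd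
    interval_cases h : Nat.card (H.L7.V ⊓ K : Subgroup G) <;> omega
  have h42 : Nat.card (N ⊓ K : Subgroup G) = 42 := by
    have h := card_mul_eq_of_cover hVN hcov
    rw [hVK, H.v7, hN, H.L7.card_normalizer, H.e7, H.v7] at h
    rw [hN]
    omega
  have hPK : H.L7.P ≤ K := fun x hx =>
    Subgroup.mem_centralizer_singleton_iff.2 (H.L7.setup.commute hx hsV).eq
  have hd3 : 42 ∣ cent s := h42 ▸ Subgroup.card_dvd_of_le inf_le_right
  have hd4 : cent s / 42 % 7 = 1 := by
    have hcardP : Nat.card (H.L7.P.subgroupOf K) = 7 := by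
      rw [Nat.card_congr (Subgroup.subgroupOfEquivOfLe hPK).toEquiv, H.L7.setup.card]
    obtain ⟨Q, hQ⟩ : ∃ Q : Sylow 7 K, (Q : Subgroup K) = H.L7.P.subgroupOf K :=
      ⟨IsPGroup.toSylow (IsPGroup.of_card (n := 1) (by rw [hcardP, pow_one]))
        (fun hd => H.L7.setup.not_dvd (hd.trans (Subgroup.relIndex_dvd_index_of_le hPK))), rfl⟩
    obtain ⟨q1, q2⟩ := Order95040.sylow_count Q
    rw [hQ, ← Subgroup.subgroupOf_normalizer_eq hPK] at q2
    have hnd : Nat.card (N.subgroupOf K) = 42 := by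
      rw [← h42, ← Subgroup.inf_subgroupOf_right N K]
      exact Nat.card_congr (Subgroup.subgroupOfEquivOfLe inf_le_right).toEquiv
    rw [← hN, hnd] at q2
    show Nat.card K / 42 % 7 = 1
    rw [← q2, Nat.mul_div_cancel _ (by norm_num)]
    exact q1
  have h11 : ¬ 11 ∣ cent s := H.L11.not_dvd_cent hG (by norm_num) H.v11 (by rw [hs]; norm_num) hs1
  have h23 : ¬ 23 ∣ cent s := H.L23.not_dvd_cent hG (by norm_num) H.v23 (by rw [hs]; norm_num) hs1
  refine List.mem_filter.2 ⟨cent_mem hG hs, ?_⟩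
  simp only [Bool.and_eq_true, beq_iff_eq, Bool.not_eq_true', beq_eq_false_iff_ne, ne_eq]
  exact ⟨⟨⟨Nat.mod_eq_zero_of_dvd hd3, hd4⟩, fun e => h11 (Nat.dvd_of_mod_eq_zero e)⟩,
    fun e => h23 (Nat.dvd_of_mod_eq_zero e)⟩

end Shaped

end CfsgLib.Blocks.Order244823040
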