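import Cfsg.Agent.Lib.Blocks.Order244823040.Checks

/-!
# The searches over the three blocks at the prime 7

The degrees prime to 7 form three blocks of three non-exceptional and two exceptional members.
They are joined with the principal blocks for 23 and 11, in degrees and at an involution of the
centralizer complement.
-/

set_option autoImplicit false

namespace CfsgLib.Blocks.Order244823040

open CfsgLib.Blocks.Order10200960 (Cell Run consRun combos pick vals flat combos_sound vals_sound combos_runs flat_cons flat_consRun)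

/-- The degree of the character of the complement that gives the block. -/
def blkDeg : Fin 3 → ℕ
  | 0 => 1
  | 1 => 1
  | 2 => 2

/-- Its value at an involution. -/
def blkVal : Fin 3 → ℤ
  | 0 => 1
  | 1 => -1
  | 2 => 0

/-- The number of trivial characters in the block. -/
def blkTriv : Fin 3 → ℕ
  | 0 => 1
  | 1 => 0
  | 2 => 0

/-- The degrees allowed by the principal blocks for 23 and 11. -/
def degD : List ℕ :=
  degList.filter fun d => [0, 1, 22, 11, 12].contains (d % 23) && [0, 1, 10].contains (d % 11)

/-- Those prime to 7. -/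
def p7 : List ℕ :=
  [11, 12, 22, 23, 45, 230, 253, 264, 276, 495, 506, 528, 540, 736, 759, 990, 1012, 1024, 1035,
    1242, 1265, 1518, 1760, 2024, 2277, 2530, 2760, 3036, 3312, 3520, 3795, 3840, 4048, 4554, 5060,
    6072, 6336, 6831, 7360, 7590, 8096, 8832, 9108, 10120, 11385, 11880, 12144, 12420, 12672, 13662,
    15180]

/-- Degrees divisible by 7 congruent to `±1` modulo 23. -/
def tPool : List ℕ := [231, 252, 1540, 5544, 10395]

/-- Degrees divisible by 7 congruent to `±11` modulo 23. -/
def yPool : List ℕ := [770, 2772, 3024, 9856]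

/-- Degrees divisible by 7 and 23 congruent to `±1` modulo 11. -/
def uPool : List ℕ := [483, 1288, 4830, 5796, 12880, 15456]

/-- The pools contain what they should. -/
def poolsChk : Bool :=
  degD.all fun d =>
    if d % 7 == 0 then
      (!(d % 23 == 1 || d % 23 == 22) || tPool.contains d) &&
        (!(d % 23 == 11 || d % 23 == 12) || yPool.contains d) &&
        (!(d % 23 == 0 && (d % 11 == 1 || d % 11 == 10)) || uPool.contains d)
    else p7.contains d

/-- The sign of a non-exceptional degree. -/
def sg7 (i : Fin 3) (d : ℕ) : ℤ := if d % 7 == blkDeg i then 1 else -1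

/-- The degrees of non-exceptional members. -/
def pool7 (i : Fin 3) : List ℕ :=
  p7.filter fun d => d % 7 == blkDeg i || d % 7 == 7 - blkDeg i

/-- The signed sum of the degrees. -/
def dsum7 (i : Fin 3) (l : List ℕ) : ℤ :=
  (blkTriv i : ℤ) + (l.map fun d => sg7 i d * (d : ℤ)).sum

/-- The test on the degree of the exceptional members. -/
def degOk7 (i : Fin 3) (l : List ℕ) : Bool :=
  let S := dsum7 i l
  let y := S.natAbs
  p7.contains y && ((y : ℤ) - eps S * (3 * (blkDeg i : ℤ))) % 7 == 0 &&
    decide (blkTriv i + dsq l + 2 * (y * y) ≤ ord)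

/-- The degrees in a block. -/
def blkSols (i : Fin 3) : List (List Run) :=
  (combos (fun _ => 0) (pool7 i) (3 - blkTriv i) ord 0).filter fun R => degOk7 i (flat R)

/-- All nontrivial degrees in a block. -/
def blkDegs (i : Fin 3) (R : List Run) : List ℕ :=
  flat R ++ [(dsum7 i (flat R)).natAbs, (dsum7 i (flat R)).natAbs]

/-- The values of a non-exceptional member at an involution. -/
def vals7 (i : Fin 3) (C d : ℕ) : List ℤ :=
  (progression 7 ((sg7 i d * blkVal i) % 7).toNat (min (d - 1) (isqGo C 12 0))).filter (okv C d)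

/-- The exceptional value. -/
def wval7 (i : Fin 3) (b : List Cell) : ℤ :=
  eps (dsum7 i (b.map Prod.fst)) *
    ((blkTriv i : ℤ) + (b.map fun t => sg7 i t.1 * t.2).sum)

/-- The exceptional cell. -/
def ycell7 (i : Fin 3) (b : List Cell) : Cell :=
  ((dsum7 i (b.map Prod.fst)).natAbs, wval7 i b)

/-- The test on a column in a block. -/
def colOk7 (i : Fin 3) (C : ℕ) (b : List Cell) : Bool :=
  let c := ycell7 i b
  okv C c.1 c.2 && decide (blkTriv i + nsq b + 2 * (c.2.natAbs * c.2.natAbs) ≤ C) &&
    (blkTriv i : ℤ) * (ord : ℤ) +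
      (b.map fun t => sg7 i t.1 * (t.2 * t.2) * ((ord / t.1 : ℕ) : ℤ)).sum -
      eps (dsum7 i (b.map Prod.fst)) * (c.2 * c.2) * ((ord / c.1 : ℕ) : ℤ) == 0

/-- The columns of a block: all nontrivial cells. -/
def cols7 (i : Fin 3) (C : ℕ) (R : List Run) : List (List Cell) :=
  ((vals (vals7 i C) R (C - 1)).filter (colOk7 i C)).map fun b => b ++ [ycell7 i b, ycell7 i b]

/-- The possible centralizer orders of the involution of the complement. -/
def sevenCents : List ℕ :=
  centList.filter fun C =>
    C % 42 == 0 && C / 42 % 7 == 1 && !(C % 11 == 0) && !(C % 23 == 0)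

/-- The degrees of the block of the trivial character. -/
def runs0 : List Run := [(1035, 1), (2024, 1)]

/-- The block of the trivial character at the involution. -/
def chkZero : Bool :=
  (blkSols 0).all fun R => R == runs0 || sevenCents.all fun C => (cols7 0 C R).isEmpty

/-- The third block, if it meets the principal block for 23. -/
def extras : List (List (List Run)) :=
  [] :: ((blkSols 2).filter fun R => !(blkDegs 2 R).all fun d => d % 23 == 0).map fun R => [R]

/-- The degrees of the blocks that may meet the principal block for 23. -/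
def degsT (R1 : List Run) (ex : List (List Run)) : List ℕ :=
  blkDegs 0 runs0 ++ blkDegs 1 R1 ++ ex.flatMap (blkDegs 2)

/-- The non-exceptional residues for 23. -/
def isX23 (d : ℕ) : Bool := d % 23 == 1 || d % 23 == 22

/-- The exceptional residues for 23. -/
def isY23 (d : ℕ) : Bool := d % 23 == 11 || d % 23 == 12

/-- The test on the degrees of the principal block for 23, from the part given by the blocks:
the signed sum `D`, the exceptional degrees `ee` and the sum of the squares `q`. -/
def degOk23 (D : ℤ) (ee : List ℕ) (q : ℕ) (t : List ℕ) : Bool :=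
  let S := D + (t.map fun d => sgn 23 d * (d : ℤ)).sum
  let y := S.natAbs
  (match ee with
    | [] => yPool.contains y && decide (1 + q + dsq t + 2 * (y * y) ≤ ord)
    | a :: l => y == a && l == [a] && decide (1 + q + dsq t ≤ ord)) &&
    ((y : ℤ) - eps S * 11) % 23 == 0

/-- Necessary conditions on the degrees of the blocks for the principal block for 23. -/
def shapeOk23 (T : List ℕ) : Bool :=
  decide ((T.filter isX23).length ≤ 10) &&
    (match T.filter isY23 with
      | [] => true
      | a :: l => l == [a]) && decide (1 + dsq T ≤ ord)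

/-- The degrees divisible by 7 in the principal block for 23. -/
def sols23 (T : List ℕ) : List (List Run) :=
  if shapeOk23 T then
    (combos (fun _ => 0) tPool (10 - (T.filter isX23).length) (ord - 1 - dsq T) 0).filter fun t =>
      degOk23 (dsum 23 (T.filter isX23)) (T.filter isY23) (dsq T) (flat t)
  else []

/-- The degrees of the second block that survive. -/
def runs1 : List Run := [(22, 1), (230, 1), (253, 1)]

/-- The degrees in the second block. -/
def list1 : List (List Run) :=
    [[(6831, 2), (9108, 1)], [(6336, 2), (12144, 1)], [(5060, 1), (6831, 1), (11880, 1)],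
    [(5060, 2), (11880, 1)], [(5060, 2), (9108, 1)], [(3795, 1), (6831, 1), (9108, 1)], [(3795,
    1), (5060, 1), (6831, 1)], [(3795, 2), (12144, 1)], [(3795, 2), (6831, 1)], [(3795, 2),
    (5060, 1)], [(3520, 1), (5060, 1), (9108, 1)], [(3312, 1), (9108, 1), (12144, 1)], [(3312,
    1), (5060, 1), (9108, 1)], [(3312, 1), (3795, 1), (6831, 1)], [(2024, 1), (9108, 1),
    (12144, 1)], [(2024, 1), (5060, 1), (9108, 1)], [(2024, 1), (5060, 2)], [(2024, 1), (3795,
    1), (6831, 1)], [(2024, 1), (3795, 1), (5060, 1)], [(2024, 1), (3312, 1), (5060, 1)],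
    [(2024, 2), (5060, 1)], [(2024, 2), (3520, 1)], [(2024, 2), (3312, 1)], [(2024, 3)],
    [(1518, 1), (6831, 1), (9108, 1)], [(1518, 1), (5060, 1), (9108, 1)], [(1518, 1), (3795,
    1), (6831, 1)], [(1518, 1), (3795, 2)], [(1518, 1), (2024, 1), (5060, 1)], [(1518, 1),
    (2024, 2)], [(1518, 2), (9108, 1)], [(1518, 2), (5060, 1)], [(1518, 2), (3795, 1)], [(1518,
    2), (3312, 1)], [(1518, 2), (2024, 1)], [(1518, 3)], [(1035, 1), (6831, 1), (9108, 1)],
    [(1035, 1), (3312, 1), (6831, 1)], [(1035, 1), (3312, 1), (3795, 1)], [(1035, 1), (1518,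
    1), (3795, 1)], [(1035, 1), (1518, 1), (3312, 1)], [(1035, 2), (3312, 1)], [(736, 1),
    (3312, 1), (5060, 1)], [(736, 1), (3312, 1), (3520, 1)], [(736, 1), (3312, 2)], [(736, 1),
    (2024, 1), (3312, 1)], [(736, 1), (1518, 1), (3312, 1)], [(736, 1), (1518, 1), (2024, 1)],
    [(540, 1), (6336, 1), (6831, 1)], [(540, 2), (1035, 1)], [(253, 1), (6831, 1), (9108, 1)],
    [(253, 1), (3795, 1), (5060, 1)], [(253, 1), (3520, 1), (3795, 1)], [(253, 1), (3312, 1),
    (3795, 1)], [(253, 1), (3312, 1), (3520, 1)], [(253, 1), (2024, 1), (6831, 1)], [(253, 1),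
    (2024, 1), (3795, 1)], [(253, 1), (1518, 1), (6831, 1)], [(253, 1), (1518, 1), (3795, 1)],
    [(253, 1), (1518, 1), (2024, 1)], [(253, 1), (1035, 1), (3312, 1)], [(253, 1), (1035, 1),
    (2024, 1)], [(253, 2), (5060, 1)], [(253, 2), (2024, 1)], [(253, 2), (1518, 1)], [(253, 2),
    (736, 1)], [(253, 3)], [(230, 1), (3795, 2)], [(230, 1), (3520, 1), (3795, 1)], [(230, 1),
    (1518, 1), (9108, 1)], [(230, 1), (1518, 1), (2024, 1)], [(230, 1), (1035, 1), (6831, 1)],
    [(230, 1), (1035, 1), (3795, 1)], [(230, 1), (1035, 1), (2024, 1)], [(230, 1), (736, 1),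
    (5060, 1)], [(230, 1), (736, 1), (2024, 1)], [(230, 1), (736, 1), (1518, 1)], [(230, 1),
    (736, 2)], [(230, 1), (253, 1), (1035, 1)], [(230, 1), (253, 1), (736, 1)], [(230, 1),
    (253, 2)], [(230, 2), (736, 1)], [(22, 1), (1518, 1), (2024, 1)], [(22, 1), (253, 2)],
    [(22, 1), (230, 1), (736, 1)], [(22, 1), (230, 1), (253, 1)]]

/-- The possibilities for the part of the third block that meets the principal block for 23. -/
def listEx : List (List (List Run)) :=
    [[], [[(1024, 1), (2760, 1), (10120, 1)]], [[(495, 1), (1024, 1), (1265, 1)]], [[(495, 1),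
    (506, 1), (1024, 1)]], [[(264, 1), (4048, 1), (10120, 1)]], [[(264, 1), (3036, 2)]],
    [[(264, 1), (2760, 1), (8832, 1)]], [[(264, 1), (2760, 1), (3036, 1)]], [[(264, 1), (1024,
    1), (2760, 1)]], [[(264, 1), (495, 1), (7590, 1)]], [[(264, 1), (495, 1), (3036, 1)]],
    [[(264, 1), (495, 1), (2277, 1)]], [[(264, 1), (495, 1), (1265, 1)]], [[(264, 1), (495, 1),
    (506, 1)]], [[(264, 2), (4048, 1)]], [[(264, 2), (506, 1)]], [[(23, 1), (264, 1), (495,
    1)]], [[(12, 1), (1024, 1), (4048, 1)]], [[(12, 1), (1024, 1), (3036, 1)]], [[(12, 1),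
    (1024, 1), (1265, 1)]], [[(12, 1), (506, 1), (1024, 1)]], [[(12, 1), (264, 1), (8832, 1)]],
    [[(12, 1), (264, 1), (3036, 1)]], [[(12, 1), (264, 1), (506, 1)]], [[(12, 1), (264, 2)]],
    [[(12, 1), (23, 1), (1024, 1)]], [[(12, 1), (23, 1), (264, 1)]]]

/-- The possibilities for a third block of degrees divisible by 23. -/
def list2 : List (List Run) :=
    [[(4048, 1), (7590, 1), (10120, 1)], [(4048, 2), (10120, 1)], [(4048, 2), (8832, 1)],
    [(3036, 1), (4048, 2)], [(3036, 2), (7590, 1)], [(3036, 2), (4048, 1)], [(3036, 3)],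
    [(2760, 1), (7590, 1), (10120, 1)], [(2760, 1), (7590, 1), (8832, 1)], [(2760, 1), (4048,
    1), (10120, 1)], [(2760, 1), (4048, 1), (8832, 1)], [(2760, 1), (3036, 2)], [(2760, 2),
    (8832, 1)], [(2277, 1), (7590, 1), (10120, 1)], [(2277, 1), (7590, 1), (8832, 1)], [(2277,
    1), (4048, 1), (10120, 1)], [(2277, 1), (3036, 1), (7590, 1)], [(2277, 1), (3036, 2)],
    [(2277, 1), (2760, 1), (8832, 1)], [(2277, 2), (3036, 1)], [(2277, 3)], [(1265, 1), (7590,
    1), (10120, 1)], [(1265, 1), (4048, 2)], [(1265, 1), (3036, 1), (4048, 1)], [(1265, 1),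
    (2277, 1), (4048, 1)], [(1265, 1), (2277, 1), (3036, 1)], [(1265, 2), (7590, 1)], [(1265,
    2), (4048, 1)], [(1265, 2), (2760, 1)], [(1265, 2), (2277, 1)], [(1265, 3)], [(506, 1),
    (7590, 1), (10120, 1)], [(506, 1), (7590, 1), (8832, 1)], [(506, 1), (3036, 1), (7590, 1)],
    [(506, 1), (3036, 1), (4048, 1)], [(506, 1), (2760, 1), (3036, 1)], [(506, 1), (2277, 1),
    (4048, 1)], [(506, 1), (2277, 1), (3036, 1)], [(506, 1), (2277, 2)], [(506, 1), (1265, 1),
    (7590, 1)], [(506, 1), (1265, 1), (3036, 1)], [(506, 1), (1265, 1), (2277, 1)], [(506, 1),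
    (1265, 2)], [(506, 2), (4048, 1)], [(506, 2), (3036, 1)], [(506, 2), (1265, 1)], [(506,
    3)], [(23, 1), (3036, 1), (4048, 1)], [(23, 1), (2760, 1), (4048, 1)], [(23, 1), (2760, 1),
    (3036, 1)], [(23, 1), (2277, 1), (3036, 1)], [(23, 1), (2277, 1), (2760, 1)], [(23, 1),
    (1265, 1), (2760, 1)], [(23, 1), (1265, 1), (2277, 1)], [(23, 1), (506, 1), (1265, 1)],
    [(23, 1), (506, 2)]]

/-- The joint degrees that survive, with the remaining degrees of the principal block for 23. -/
def keep : List (List Run × List (List Run) × List (List Run)) :=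
    [([(22, 1), (230, 1), (253, 1)], ([], [[(252, 1), (1540, 1), (5544, 2), (10395, 1)], [(231,
    1), (1540, 3), (5544, 1)], [(231, 1), (252, 1), (1540, 3)], [(231, 2), (5544, 2), (10395,
    1)], [(231, 2), (252, 1), (5544, 1), (10395, 1)], [(231, 3), (252, 1), (1540, 1)], [(231,
    5)]])), ([(22, 1), (230, 1), (253, 1)], ([[(264, 2), (506, 1)]], [[(231, 1), (252, 1),
    (1540, 1)]])), ([(230, 1), (3520, 1), (3795, 1)], ([], [[(1540, 2), (5544, 2), (10395, 1)],
    [(252, 1), (1540, 2), (5544, 1), (10395, 1)], [(231, 1), (252, 1), (1540, 3)], [(231, 2),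
    (252, 1), (5544, 1), (10395, 1)], [(231, 3), (1540, 2)]])), ([(230, 1), (3520, 1), (3795,
    1)], ([[(264, 2), (506, 1)]], [[(252, 1), (5544, 1), (10395, 1)]])), ([(230, 1), (3520, 1),
    (3795, 1)], ([[(264, 2), (4048, 1)]], [[(252, 1), (1540, 1), (10395, 1)]])), ([(253, 1),
    (3312, 1), (3520, 1)], ([], [[(1540, 2), (5544, 2), (10395, 1)], [(252, 1), (1540, 2),
    (5544, 1), (10395, 1)], [(231, 1), (252, 1), (1540, 3)], [(231, 2), (252, 1), (5544, 1),
    (10395, 1)], [(231, 3), (1540, 2)]])), ([(253, 1), (3312, 1), (3520, 1)], ([[(264, 2),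
    (506, 1)]], [[(252, 1), (5544, 1), (10395, 1)]])), ([(253, 1), (3312, 1), (3520, 1)],
    ([[(264, 2), (4048, 1)]], [[(252, 1), (1540, 1), (10395, 1)]])), ([(540, 2), (1035, 1)],
    ([], [[(252, 2), (1540, 1), (5544, 2), (10395, 1)], [(231, 3), (252, 2), (1540, 1)]]))]

/-- The lists are the ones they should be. -/
def listsChk : Bool :=
  blkSols 1 == list1 && extras == listEx &&
    ((blkSols 2).filter fun R => (blkDegs 2 R).all fun d => d % 23 == 0) == list2 &&
    keep.all fun k => sols23 (degsT k.1 k.2.1) == k.2.2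

/-- The degrees with the principal block for 23, for one possibility of the second block. -/
def chkDegrees (R1 : List Run) : Bool :=
  listEx.all fun ex =>
    (sols23 (degsT R1 ex)).isEmpty || keep.any fun k => k.1 == R1 && k.2.1 == ex

/-- The cells of the optional third block. -/
def exCols (C : ℕ) : List (List Run) → List (List Cell)
  | [] => [[]]
  | R :: l => (cols7 2 C R).flatMap fun b => (exCols C l).map fun r => b ++ r

/-- The value of the exceptional members for 23. -/
def wval23 (n : List Cell) : ℤ := eps (dsum 23 (n.map Prod.fst)) * vsum 23 n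

/-- The exceptional cell for 23. -/
def ycell23 (n : List Cell) : Cell := ((dsum 23 (n.map Prod.fst)).natAbs, wval23 n)

/-- The test on a column of the principal block for 23. -/
def colOk23 (C : ℕ) (cc acc : List Cell) : Bool :=
  let n := cc.filter (fun t => isX23 t.1) ++ acc
  let c := ycell23 n
  let ee := cc.filter fun t => isY23 t.1
  okv C c.1 c.2 && ee.all (fun t => t.2 == c.2) &&
    decide (1 + nsq cc + nsq acc + (if ee.isEmpty then 2 * (c.2.natAbs * c.2.natAbs) else 0) ≤ C) &&
    qsum 23 n - eps (dsum 23 (n.map Prod.fst)) * (c.2 * c.2) * ((ord / c.1 : ℕ) : ℤ) == 0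

/-- All the cells so far. -/
def cellsSoFar (cc acc : List Cell) : List Cell :=
  cc ++ acc ++ if (cc.filter fun t => isY23 t.1).isEmpty then
    [ycell23 (cc.filter (fun t => isX23 t.1) ++ acc), ycell23 (cc.filter (fun t => isX23 t.1) ++ acc)]
    else []

/-- The square of the character of degree 22 has a constituent of degree 252. -/
def squareKill (R1 : List Run) (p1 all : List Cell) : Bool :=
  R1 == runs1 && p1.all fun c => c.1 != 22 || !all.contains (252, (c.2 * c.2 + 22) / 2 - 1)

/-- The test on the degrees of the principal block for 11. -/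
def degOk11 (all : List ℕ) (u : List ℕ) : Bool :=
  dsum 11 (all.filter (fun d => !(d % 11 == 0)) ++ u) == 0 &&
    decide (1 + dsq all + dsq u ≤ ord)

/-- The test on a column of the principal block for 11. -/
def colOk11 (C : ℕ) (all : List Cell) (au : List Cell) : Bool :=
  let m := all.filter (fun t => !(t.1 % 11 == 0)) ++ au
  let v := ((ord / C : ℕ) : ℤ) * ((ord / C : ℕ) : ℤ) * qsum 11 m
  vsum 11 m == 0 && (v == 0 || v == 11 * (ord : ℤ) * (ord : ℤ))

/-- The degrees of the third block that survive. -/
def runs2 : List Run := [(23, 1), (1265, 1), (2277, 1)]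

/-- The last stage: the third block and the principal block for 11. -/
def chkLast (C : ℕ) (cc : List Cell) : Bool :=
  list2.all fun R2 =>
    R2 == runs2 ||
      ((combos (fun _ => 0) uPool
          (10 - ((cc.map Prod.fst ++ blkDegs 2 R2).filter fun d => !(d % 11 == 0)).length) ord 0).filter
        fun u => degOk11 (cc.map Prod.fst ++ blkDegs 2 R2) (flat u)).all fun u =>
          (cols7 2 C R2).all fun p =>
            decide (C < 1 + nsq cc + nsq p) ||
              (vals (valsAt C) u (C - 1 - nsq cc - nsq p)).all fun au => !colOk11 C (cc ++ p) au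

/-- The search at an involution of the complement, for one possibility of the degrees. -/
def chkKey (C : ℕ) (k : List Run × List (List Run) × List (List Run)) : Bool :=
  (cols7 1 C k.1).all fun p1 => (exCols C k.2.1).all fun pe => (cols7 0 C runs0).all fun p0 =>
    k.2.2.all fun t =>
      decide (C < 1 + nsq (p0 ++ p1 ++ pe)) ||
        (vals (valsAt C) t (C - 1 - nsq (p0 ++ p1 ++ pe))).all fun acc =>
          !colOk23 C (p0 ++ p1 ++ pe) acc ||
            squareKill k.1 p1 (cellsSoFar (p0 ++ p1 ++ pe) acc) ||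
            (k.2.1.isEmpty && chkLast C (cellsSoFar (p0 ++ p1 ++ pe) acc))

/-- The possibilities one at a time. -/
def keyParts : List (List Run × List (List Run) × List (List Run)) :=
  keep.flatMap fun k => k.2.2.map fun t => (k.1, k.2.1, [t])

/-- The search at an involution of the complement. -/
def chkCent (C : ℕ) : Bool := keyParts.all (chkKey C)

end CfsgLib.Blocks.Order244823040
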