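import Cfsg.Agent.Lib.Blocks.Order244823040.SevenSearch
import Cfsg.Agent.Lib.Blocks.Order244823040.Reflection
import Cfsg.Agent.Lib.Char.MinusFour.Eigen

/-!
# The symmetric square of a character of degree 22 in the second block

It is trivial on the translates of the complement and vanishes at the elements of order 23 and 11,
so it is the sum of the trivial character and a character of degree 252, or of degrees 22 and 230;
the relations of the block at an involution inverting an element of order 11 exclude the latter.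
-/

set_option autoImplicit false

namespace CfsgLib.Blocks.Order244823040

open Cfsg CfsgLib CfsgLib.Char CfsgLib.CharIntegral CfsgLib.Blocks.PrimeSylow
open CfsgLib.Blocks.Order95040 (deg cent deg_cast deg_trivChar deg_eq_finrank)
open scoped Classical ComplexConjugate

/-- The value 0, 1 or -1 at an element of order `p`. -/
def valP (p d : ℕ) : ℤ := if d % p == 0 then 0 else sgn p d

def pairsNone : Bool :=
  [((2 : ℤ), (10 : ℤ)), (-2, 14)].all fun w => (List.range 47).all fun k =>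
    let z := (k : ℤ) - 23
    !((253 - z) % 4 == 0) ||
      (w.1 * w.1) * (230 * 253 * 45) - (w.2 * w.2) * (22 * 253 * 45) + z * z * (22 * 230 * 45) -
        (w.1 - w.2 + z) * (w.1 - w.2 + z) * (22 * 230 * 253) != 0

theorem pairsNone_true : pairsNone = true := by decide +kernel

/-- The degrees of the places. -/
def degT : Fin 11 → ℤ
  | 0 => 1 | 1 => 22 | 2 => 230 | 3 => 253 | 4 => 45 | 5 => 23
  | 6 => 230 | 7 => 253 | 8 => 22 | 9 => 231 | 10 => 252

/-- The functional of the first block. -/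
def w0T : Fin 11 → ℤ
  | 0 => 36 | 1 => 0 | 2 => 0 | 3 => 0 | 4 => 0 | 5 => 0
  | 6 => 0 | 7 => 0 | 8 => 0 | 9 => 0 | 10 => 0

/-- The functional of the second block. -/
def w1T : Fin 11 → ℤ
  | 0 => 0 | 1 => 36 | 2 => -36 | 3 => 36 | 4 => -18 | 5 => 0
  | 6 => 0 | 7 => 0 | 8 => 0 | 9 => 0 | 10 => 0

/-- The functional of the third block. -/
def w2T : Fin 11 → ℤ
  | 0 => 0 | 1 => 0 | 2 => 0 | 3 => 0 | 4 => 0 | 5 => 36
  | 6 => -18 | 7 => 18 | 8 => 18 | 9 => 0 | 10 => 0

/-- The values at an element of order 23. -/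
def z23T : Fin 11 → ℤ
  | 0 => 1 | 1 => -1 | 2 => 0 | 3 => 0 | 4 => -1 | 5 => 0
  | 6 => 0 | 7 => 0 | 8 => -1 | 9 => 1 | 10 => -1

/-- The values at an element of order 11. -/
def z11T : Fin 11 → ℤ
  | 0 => 1 | 1 => 0 | 2 => -1 | 3 => 0 | 4 => 1 | 5 => 1
  | 6 => -1 | 7 => 0 | 8 => 0 | 9 => 0 | 10 => -1

theorem sum_eleven {M : Type*} [AddCommMonoid M] (f : Fin 11 → M) :
    ∑ k, f k = f 0 + (f 1 + (f 2 + (f 3 + (f 4 + (f 5 + (f 6 + (f 7 + (f 8 + (f 9 + f 10))))))))) := by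
  simp only [Fin.sum_univ_succ, Fin.sum_univ_zero, add_zero]
  rfl

theorem exists_single {ι : Type*} [DecidableEq ι] {T : Finset ι} {m : ι → ℕ}
    (h : ∑ x ∈ T, (m x : ℤ) = 1) :
    ∃ a ∈ T, ∀ x ∈ T, m x = if x = a then 1 else 0 := by
  have h' : ∑ x ∈ T, m x = 1 := by exact_mod_cast h
  obtain ⟨a, ha, h0⟩ : ∃ a ∈ T, m a ≠ 0 := by
    by_contra hc
    push Not at hc
    rw [Finset.sum_eq_zero hc] at h'
    omega
  have hle : m a ≤ 1 := h' ▸ Finset.single_le_sum (f := m) (fun _ _ => Nat.zero_le _) ha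
  refine ⟨a, ha, fun x hx => ?_⟩
  split_ifs with e
  · rw [e]; omega
  · have h2 : m x + m a ≤ ∑ y ∈ T, m y := by
      rw [← Finset.sum_pair e (f := m)]
      exact Finset.sum_le_sum_of_subset fun y hy => by
        simp only [Finset.mem_insert, Finset.mem_singleton] at hy
        rcases hy with rfl | rfl <;> assumption
    omega

theorem all_zero {ι : Type*} {T : Finset ι} {m : ι → ℕ} (h : ∑ x ∈ T, (m x : ℤ) = 0) :
    ∀ x ∈ T, m x = 0 := by
  have h' : ∑ x ∈ T, m x = 0 := by exact_mod_cast h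
  exact fun x hx => (Finset.sum_eq_zero_iff.1 h') x hx

theorem places_cases (M : Fin 11 → ℤ) (hpos : ∀ k, 0 ≤ M k)
    (eD : (253 : ℤ) = ∑ k, degT k * M k) (eW0 : (36 : ℤ) = ∑ k, w0T k * M k)
    (eW1 : (0 : ℤ) = ∑ k, w1T k * M k) (eW2 : (0 : ℤ) = ∑ k, w2T k * M k)
    (eZ : (0 : ℤ) = ∑ k, valP 23 (degT k).toNat * M k)
    (eH : (0 : ℤ) = ∑ k, valP 11 (degT k).toNat * M k)
    (hY2 : M 8 = 0 ∨ (M 5 = 0 ∧ M 6 = 0 ∧ M 7 = 0)) :
    (M 0 = 1 ∧ M 10 = 1 ∧ M 1 = 0 ∧ M 2 = 0 ∧ M 3 = 0 ∧ M 4 = 0 ∧ M 5 = 0 ∧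
      M 6 = 0 ∧ M 7 = 0 ∧ M 8 = 0 ∧ M 9 = 0) ∨
      (M 0 = 1 ∧ M 10 = 0 ∧ M 1 = 1 ∧ M 2 = 1 ∧ M 3 = 0 ∧ M 4 = 0 ∧ M 5 = 0 ∧
      M 6 = 0 ∧ M 7 = 0 ∧ M 8 = 0 ∧ M 9 = 0) := by
  have p0 := hpos 0
  have p1 := hpos 1
  have p2 := hpos 2
  have p3 := hpos 3
  have p4 := hpos 4
  have p5 := hpos 5
  have p6 := hpos 6
  have p7 := hpos 7
  have p8 := hpos 8
  have p9 := hpos 9
  have p10 := hpos 10
  rw [Finset.sum_congr rfl fun k _ => by
    rw [(by decide +kernel : ∀ k, valP 23 (degT k).toNat = z23T k) k]] at eZ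
  rw [Finset.sum_congr rfl fun k _ => by
    rw [(by decide +kernel : ∀ k, valP 11 (degT k).toNat = z11T k) k]] at eH
  simp only [sum_eleven, degT, w0T, w1T, w2T, z23T, z11T, zero_mul, one_mul, neg_mul, zero_add,
    add_zero] at eD eW0 eW1 eW2 eZ eH
  obtain ⟨b3, b7, b1⟩ : M 3 = 0 ∧ M 7 = 0 ∧ M 2 + M 6 + M 9 + M 10 ≤ 1 := by
    clear hY2 eW1 eW2 eZ eH hpos
    omega
  obtain ⟨b5, b8⟩ : M 5 = 0 ∧ M 8 = M 6 := by
    clear hY2 eW1 eD eZ eH hpos
    omega
  have b4 : M 4 = 2 * M 1 - 2 * M 2 := by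
    clear hY2 eW2 eD eZ eH hpos
    omega
  simp only [b3, b5, b7, b8, b4] at eD eZ eH hY2
  obtain ⟨c2, c6, c9, c10⟩ | ⟨c2, c6, c9, c10⟩ | ⟨c2, c6, c9, c10⟩ | ⟨c2, c6, c9, c10⟩ |
      ⟨c2, c6, c9, c10⟩ :
      (M 2 = 0 ∧ M 6 = 0 ∧ M 9 = 0 ∧ M 10 = 1) ∨ (M 2 = 1 ∧ M 6 = 0 ∧ M 9 = 0 ∧ M 10 = 0) ∨
      (M 2 = 0 ∧ M 6 = 1 ∧ M 9 = 0 ∧ M 10 = 0) ∨ (M 2 = 0 ∧ M 6 = 0 ∧ M 9 = 1 ∧ M 10 = 0) ∨
      (M 2 = 0 ∧ M 6 = 0 ∧ M 9 = 0 ∧ M 10 = 0) := by
    clear hY2 eW1 eW2 eD eZ eH hpos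
    omega
  all_goals simp only [c2, c6, c9, c10] at eD eZ eH hY2
  · exact Or.inl (by omega)
  · exact Or.inr (by omega)
  · exfalso; omega
  · exfalso; omega
  · exfalso; omega

variable {G : Type*} [Group G] [Fintype G]

namespace Shaped

open Local (ival_spec sum_sq_le sum_deg_le okv_cell deg_mem)

variable (H : Shaped G)

/-- The places of the constituents of the square. -/
noncomputable def typ (ψ : IrrCharacter G) : Fin 11 :=
  if ψ = trivChar G then 0
  else if ψ ∈ H.nt7 1 then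
    if deg ψ = 22 then 1 else if deg ψ = 230 then 2 else if deg ψ = 253 then 3 else 4
  else if ψ ∈ H.nt7 2 then
    if deg ψ = 23 then 5 else if deg ψ = 230 then 6 else if deg ψ = 253 then 7 else 8
  else if deg ψ = 231 then 9 else 10

/-- The sum of the block functional of the second and third kind on the translates. -/
noncomputable def wval (i : Fin 3) (f : G → ℂ) : ℂ :=
  ∑ x ∈ Finset.univ.filter (fun x : G => x ∈ H.L7.P ∧ x ≠ 1),
    ∑ v : H.L7.V, (H.S.η i : H.L7.V → ℂ) v * f (x * v)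

theorem wval_X (i j : Fin 3) {ψ : IrrCharacter G} (hψ : ψ ∈ (H.S.blk j).X) :
    H.wval i ψ = (if i = j then 36 else 0) * ((H.S.blk j).δ ψ : ℂ) := by
  have := Fact.mk (show Nat.Prime 7 by norm_num)
  have hc : ((Finset.univ.filter fun x : G => x ∈ H.L7.P ∧ x ≠ 1).card : ℂ) = 6 := by
    have e : (Finset.univ.filter fun x : G => x ∈ H.L7.P ∧ x ≠ 1) =
        (Finset.univ.filter fun x : G => x ∈ H.L7.P).erase 1 := by ext; simp [and_comm]
    rw [e, Finset.card_erase_of_mem (by simp [one_mem]), ← Fintype.card_subtype,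
      ← Nat.card_eq_fintype_card, show Nat.card {x : G // x ∈ H.L7.P} = 7 from H.L7.setup.card]
    norm_num
  rw [wval, Finset.sum_congr rfl
    (g := fun _ => (if i = j then (6 : ℂ) else 0) * ((H.S.blk j).δ ψ : ℂ))
    fun x hx => ?_, Finset.sum_const, nsmul_eq_mul, hc]
  · split_ifs <;> ring
  · rw [← H.S.orth i j, Finset.sum_mul]
    obtain ⟨-, hx1, hx2⟩ := Finset.mem_filter.1 hx
    exact Finset.sum_congr rfl fun v _ => by rw [(H.S.blk j).valX ψ hψ x hx1 hx2 v]; ring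

theorem wval_Y (i j : Fin 3) {ψ : IrrCharacter G} (hψ : ψ ∈ (H.S.blk j).Y) :
    H.wval i ψ = (if i = j then -18 else 0) * ((H.S.blk j).ε : ℂ) := by
  rw [wval, Finset.sum_comm, show ((if i = j then -18 else 0 : ℂ) * ((H.S.blk j).ε : ℂ)) =
    (if i = j then (6 : ℂ) else 0) * (-(3 * ((H.S.blk j).ε : ℂ))) by split_ifs <;> ring,
    ← H.S.orth i j, Finset.sum_mul]
  refine Finset.sum_congr rfl fun v _ => ?_
  rw [← Finset.mul_sum, (H.S.blk j).sumP ψ hψ v]
  push_cast
  ring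

variable [IsSimpleGroup G] (hG : Nat.card G = ord)
include H hG

theorem wval_zero (i : Fin 3) {ψ : IrrCharacter G} (hd : 7 ∣ deg ψ) : H.wval i ψ = 0 := by
  refine Finset.sum_eq_zero fun x hx => Finset.sum_eq_zero fun v _ => ?_
  obtain ⟨-, hx1, hx2⟩ := Finset.mem_filter.1 hx
  rw [Seven.eq_zero_of_dvd hG hd hx1 hx2, mul_zero]

/-- The value at an element of order 23. -/
theorem value_23 {z : G} (hz : z ∈ H.L23.P) (hz1 : z ≠ 1) {ψ : IrrCharacter G}
    (hne : ψ ≠ trivChar G) (hd : isY23 (deg ψ) = false) :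
    (ψ : G → ℂ) z = (valP 23 (deg ψ) : ℂ) := by
  have := Fact.mk (show Nat.Prime 23 by norm_num)
  unfold valP
  by_cases h : 23 ∣ deg ψ
  · rw [if_pos (by rw [beq_iff_eq]; exact Nat.mod_eq_zero_of_dvd h), Int.cast_zero]
    refine vanish hG (n := 1) (by norm_num : Nat.Prime 23) (by rw [ord]; norm_num)
      (by rw [ord]; norm_num) (by simpa using h) ?_
    rw [H.L23.setup.orderOf_eq hz hz1]
  · rw [if_neg (by rw [beq_iff_eq]; exact fun e => h (Nat.dvd_of_mod_eq_zero e))]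
    have hnt := (H.L23.mem_nt_iff H.v23).2 ⟨hne, h⟩
    rcases H.L23.residue (by norm_num) hnt with ⟨hx, -⟩ | ⟨-, hy⟩
    · have hX := Finset.mem_of_mem_erase hx
      have := H.L23.data.valX ψ hX z hz hz1 1 (one_mem _)
      rw [mul_one] at this
      rw [this, (H.L23.εX_eq (by norm_num) hX).1]
    · rw [H.e23] at hy
      simp [isY23] at hd
      omega

/-- The value at an element of order 11. -/
theorem value_11 {h : G} (hh : h ∈ H.L11.P) (hh1 : h ≠ 1) {ψ : IrrCharacter G}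
    (hne : ψ ≠ trivChar G) : (ψ : G → ℂ) h = (valP 11 (deg ψ) : ℂ) := by
  have := Fact.mk (show Nat.Prime 11 by norm_num)
  unfold valP
  by_cases hd : 11 ∣ deg ψ
  · rw [if_pos (by rw [beq_iff_eq]; exact Nat.mod_eq_zero_of_dvd hd), Int.cast_zero]
    refine vanish hG (n := 1) (by norm_num : Nat.Prime 11) (by rw [ord]; norm_num)
      (by rw [ord]; norm_num) (by simpa using hd) ?_
    rw [H.L11.setup.orderOf_eq hh hh1]
  · rw [if_neg (by rw [beq_iff_eq]; exact fun e => hd (Nat.dvd_of_mod_eq_zero e))]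
    have hnt := (H.L11.mem_nt_iff H.v11).2 ⟨hne, hd⟩
    rw [H.L11.nt_eq, Finset.mem_union] at hnt
    rcases hnt with hx | hy
    · have hX := Finset.mem_of_mem_erase hx
      have := H.L11.data.valX ψ hX h hh hh1 1 (one_mem _)
      rw [mul_one] at this
      rw [this, (H.L11.εX_eq (by norm_num) hX).1]
    · have hY1 : H.L11.data.Y.card = 1 := by
        rw [H.L11.cardY_eq (by norm_num), H.e11]
      have := H.L11.data.valY hY1 ψ hy h hh hh1 1 (one_mem _)
      rw [mul_one] at this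
      have hm : (deg ψ : ℤ) ≡ H.L11.data.ε * ((10 : ℕ) : ℤ) [ZMOD ((11 : ℕ) : ℤ)] := by
        have h' := H.L11.data.modY ψ hy
        rwa [show ((H.L11.e : ℕ) : ℤ) = ((10 : ℕ) : ℤ) by exact_mod_cast H.e11] at h'
      rw [this, ← Int.cast_neg]
      congr 1
      unfold Int.ModEq at hm
      unfold sgn
      rcases H.L11.data.sgnY with e | e <;> rw [e] at hm ⊢ <;> split_ifs with hb <;>
        (try rw [beq_iff_eq] at hb) <;> omega

/-- The constituents of small degree by their places. -/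
theorem class_of_le (h0 : ∀ ψ ∈ H.nt7 0, 253 < deg ψ)
    (hmem1 : ∀ ψ ∈ H.nt7 1, deg ψ = 22 ∨ deg ψ = 230 ∨ deg ψ = 253 ∨ deg ψ = 45)
    (h2 : (∀ ψ ∈ H.nt7 2, 23 ∣ deg ψ) ∨
      (H.nt7 2).val.map deg = ([264, 264, 506, 22, 22] : List ℕ))
    {ψ : IrrCharacter G} (hdle : deg ψ ≤ 253) :
    isY23 (deg ψ) = false ∧ ((deg ψ : ℤ) = degT (H.typ ψ)) ∧
      (H.wval 0 ψ = (w0T (H.typ ψ) : ℂ)) ∧
      (H.wval 1 ψ = (w1T (H.typ ψ) : ℂ)) ∧
      (H.wval 2 ψ = (w2T (H.typ ψ) : ℂ)) := by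
  by_cases ht : ψ = trivChar G
  · have hX0 := H.S.triv
    rw [typ, if_pos ht]
    subst ht
    rw [H.wval_X 0 0 hX0.1, H.wval_X 1 0 hX0.1, H.wval_X 2 0 hX0.1, hX0.2, deg_trivChar]
    norm_num [isY23, sg7, blkDeg, degT, w0T, w1T, w2T, Fin.reduceEq] <;> decide
  by_cases h7 : 7 ∣ deg ψ
  · have n1 : ψ ∉ H.nt7 1 := fun h => (H.mem_nt7 h).2 h7
    have n2 : ψ ∉ H.nt7 2 := fun h => (H.mem_nt7 h).2 h7
    have hD := H.deg_mem_degD hG ht
    have hcase : deg ψ = 231 ∨ deg ψ = 252 := by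
      have e : (degD.filter fun d => d % 7 == 0 && decide (d ≤ 253)) = [231, 252] ∨
          (degD.filter fun d => d % 7 == 0 && decide (d ≤ 253)) = [252, 231] := by decide +kernel
      have : deg ψ ∈ degD.filter fun d => d % 7 == 0 && decide (d ≤ 253) :=
        List.mem_filter.2 ⟨hD, by simp [Nat.mod_eq_zero_of_dvd h7, hdle]⟩
      rcases e with e | e <;> rw [e] at this <;> simp at this <;> omega
    rw [typ, if_neg ht, if_neg n1, if_neg n2, H.wval_zero hG 0 h7, H.wval_zero hG 1 h7,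
      H.wval_zero hG 2 h7]
    rcases hcase with e | e <;> rw [e] <;> norm_num [isY23, sg7, blkDeg, degT, w0T, w1T, w2T, Fin.reduceEq] <;> decide
  obtain ⟨i, hi⟩ := H.exists_block ht h7
  have hall := Finset.mem_union.1 (Finset.mem_of_mem_erase hi)
  obtain rfl | rfl | rfl : i = 0 ∨ i = 1 ∨ i = 2 :=
    (by decide : ∀ j : Fin 3, j = 0 ∨ j = 1 ∨ j = 2) i
  · exact absurd (h0 ψ hi) (by omega)
  · rw [typ, if_neg ht, if_pos hi]
    rcases hall with hx | hy
    · rw [H.wval_X 0 1 hx, H.wval_X 1 1 hx, H.wval_X 2 1 hx, (H.δ_eq 1 hx).1]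
      have hres := (H.δ_eq 1 hx).2
      rcases hmem1 ψ hi with a | a | a | a <;> rw [a] at hres ⊢
      all_goals first | (simp [blkDeg] at hres; done) | (norm_num [isY23, sg7, blkDeg, degT, w0T, w1T, w2T, Fin.reduceEq]; done) |
          (norm_num [isY23, sg7, blkDeg, degT, w0T, w1T, w2T, Fin.reduceEq] <;> decide)
    · rw [H.wval_Y 0 1 hy, H.wval_Y 1 1 hy, H.wval_Y 2 1 hy]
      have hres := H.S.deg_mod_Y 1 hy
      rw [etaDeg_eq] at hres
      unfold Int.ModEq at hres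
      rcases (H.S.blk 1).sgnY with e | e <;> rcases hmem1 ψ hi with a | a | a | a <;>
        rw [e, a] at hres <;> rw [e, a] <;>
        first | (simp [blkDeg] at hres; done) | (norm_num [isY23, sg7, blkDeg, degT, w0T, w1T, w2T, Fin.reduceEq]; done) |
          (norm_num [isY23, sg7, blkDeg, degT, w0T, w1T, w2T, Fin.reduceEq] <;> decide)
  · have hd2 : deg ψ = 23 ∨ deg ψ = 230 ∨ deg ψ = 253 ∨ deg ψ = 22 := by
      rcases h2 with h | h
      · have e : (degD.filter fun d => d % 23 == 0 && d % 7 != 0 && decide (d ≤ 253)).all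
            (fun d => [23, 230, 253].contains d) = true := by decide +kernel
        have := List.all_eq_true.1 e _ (List.mem_filter.2 ⟨H.deg_mem_degD hG ht, by
          simp [Nat.mod_eq_zero_of_dvd (h ψ hi), hdle]
          exact fun e => h7 (Nat.dvd_of_mod_eq_zero e)⟩)
        simp at this
        omega
      · have := Multiset.mem_map_of_mem deg (Finset.mem_val.symm ▸ hi)
        rw [h] at this
        simp only [Multiset.mem_coe, List.mem_cons, List.not_mem_nil, or_false] at this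
        omega
    rw [typ, if_neg ht, if_neg (H.notMem_of_ne (by decide) hi), if_pos hi]
    rcases hall with hx | hy
    · rw [H.wval_X 0 2 hx, H.wval_X 1 2 hx, H.wval_X 2 2 hx, (H.δ_eq 2 hx).1]
      have hres := (H.δ_eq 2 hx).2
      rcases hd2 with a | a | a | a <;> rw [a] at hres ⊢
      all_goals first | (simp [blkDeg] at hres; done) | (norm_num [isY23, sg7, blkDeg, degT, w0T, w1T, w2T, Fin.reduceEq]; done) |
          (norm_num [isY23, sg7, blkDeg, degT, w0T, w1T, w2T, Fin.reduceEq] <;> decide)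
    · rw [H.wval_Y 0 2 hy, H.wval_Y 1 2 hy, H.wval_Y 2 2 hy]
      have hres := H.S.deg_mod_Y 2 hy
      rw [etaDeg_eq] at hres
      unfold Int.ModEq at hres
      rcases (H.S.blk 2).sgnY with e | e <;> rcases hd2 with a | a | a | a <;>
        rw [e, a] at hres <;> rw [e, a] <;>
        first | (simp [blkDeg] at hres; done) | (norm_num [isY23, sg7, blkDeg, degT, w0T, w1T, w2T, Fin.reduceEq]; done) |
          (norm_num [isY23, sg7, blkDeg, degT, w0T, w1T, w2T, Fin.reduceEq] <;> decide)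

/-- The symmetric square of the character of degree 22 gives a character of degree 252. -/
theorem square_constituent [Fintype (IrrCharacter G)]
    (h1 : (H.nt7 1).val.map deg = ([22, 230, 253, 45, 45] : List ℕ))
    (h0 : ∀ ψ ∈ H.nt7 0, 253 < deg ψ)
    (h2 : (∀ ψ ∈ H.nt7 2, 23 ∣ deg ψ) ∨
      (H.nt7 2).val.map deg = ([264, 264, 506, 22, 22] : List ℕ))
    {χ : IrrCharacter G} (hχ : χ ∈ H.nt7 1) (hd : deg χ = 22) {s : G} (hs : orderOf s = 2) :
    ∃ ψ : IrrCharacter G, ψ ≠ trivChar G ∧ deg ψ = 252 ∧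
      2 * (1 + ival s ψ) = ival s χ * ival s χ + 22 := by
  have := Fact.mk (show Nat.Prime 7 by norm_num)
  have := Fact.mk (show Nat.Prime 11 by norm_num)
  have := Fact.mk (show Nat.Prime 23 by norm_num)
  have hmem1 : ∀ ψ ∈ H.nt7 1,
      deg ψ = 22 ∨ deg ψ = 230 ∨ deg ψ = 253 ∨ deg ψ = 45 := fun ψ hψ => by
    have := Multiset.mem_map_of_mem deg (Finset.mem_val.symm ▸ hψ)
    rw [h1] at this
    simp only [Multiset.mem_coe, List.mem_cons, List.not_mem_nil, or_false] at this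
    omega
  have hX1 : ∀ ψ ∈ H.nt7 1, deg ψ ≠ 45 → ψ ∈ (H.S.blk 1).X := fun ψ hψ hne => by
    refine (Finset.mem_union.1 (Finset.mem_of_mem_erase hψ)).resolve_right fun hy => ?_
    have := H.S.deg_mod_Y 1 hy
    rw [etaDeg_eq] at this
    unfold Int.ModEq at this
    rcases (H.S.blk 1).sgnY with e | e <;> rcases hmem1 ψ hψ with a | a | a | a <;>
      rw [e, a] at this <;> simp [blkDeg] at this <;> omega
  have hδ1 : ∀ ψ ∈ H.nt7 1, deg ψ ≠ 45 → (H.S.blk 1).δ ψ = sg7 1 (deg ψ) := fun ψ hψ hne =>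
    (H.δ_eq 1 (hX1 ψ hψ hne)).1
  have hχX := hX1 χ hχ (by omega)
  have hne : χ ≠ trivChar G := (H.mem_nt7 hχ).1
  have hδ : (H.S.blk 1).δ χ = 1 := by rw [hδ1 χ hχ (by omega), hd]; rfl
  -- the sign character of the complement
  have hη : ∀ v : H.L7.V, (H.S.η 1 : H.L7.V → ℂ) v ^ 2 = 1 := by
    intro v
    have hd1 : (H.S.η 1 : H.L7.V → ℂ) 1 = 1 := by
      rw [apply_one_eq_charDegree, H.S.deg_η]; norm_num [etaDeg]
    obtain ⟨φ, hφ⟩ := exists_linear_of_degree_one (IsIrr.isCharacter (H.S.η 1).2) hd1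
    have h' := H.S.real 1 v
    simp only [hφ, map_inv, Units.val_inv_eq_inv_val] at h' ⊢
    have h0' : (φ v : ℂ) ≠ 0 := Units.ne_zero _
    field_simp at h'
    linear_combination (norm := ring_nf) -h'
  have hS := CfsgLib.Char.MinusFour.isCharacter_sym (IsIrr.isCharacter χ.2)
  have hcf := IsChar.isClassFunction hS
  choose m hm using fun ψ : IrrCharacter G =>
    IsChar.classInner_eq_natCast hS (IsIrr.isCharacter ψ.2)
  have hexp : ∀ g, CfsgLib.Char.MinusFour.sym (χ : G → ℂ) g =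
      ∑ ψ : IrrCharacter G, (m ψ : ℂ) * (ψ : G → ℂ) g := fun g => by
    rw [classFunction_apply_eq_sum hcf g]
    exact Finset.sum_congr rfl fun ψ _ => by rw [hm]
  have hd1 : (χ : G → ℂ) 1 = 22 := by rw [deg_cast, hd]; norm_num
  have hle : ∀ ψ : IrrCharacter G, m ψ ≠ 0 → deg ψ ≤ 253 := fun ψ hψ => by
    have h := hexp 1
    simp only [CfsgLib.Char.MinusFour.sym, one_mul, hd1, deg_cast] at h
    have h' : ((∑ ψ : IrrCharacter G, m ψ * deg ψ : ℕ) : ℂ) = ((253 : ℕ) : ℂ) := by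
      push_cast; rw [← h]; norm_num
    have h'' : ∑ ψ : IrrCharacter G, m ψ * deg ψ = 253 := by exact_mod_cast h'
    have := Finset.single_le_sum (f := fun ψ => m ψ * deg ψ) (fun _ _ => Nat.zero_le _)
      (Finset.mem_univ ψ)
    rw [h''] at this
    exact le_trans (Nat.le_mul_of_pos_left _ (Nat.pos_of_ne_zero hψ)) this
  set T := (Finset.univ : Finset (IrrCharacter G)).filter fun ψ => m ψ ≠ 0
  -- the constituents by their places
  have hclass : ∀ ψ ∈ T, isY23 (deg ψ) = false ∧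
      ((deg ψ : ℤ) = degT (H.typ ψ)) ∧
      (H.wval 0 ψ = (w0T (H.typ ψ) : ℂ)) ∧
      (H.wval 1 ψ = (w1T (H.typ ψ) : ℂ)) ∧
      (H.wval 2 ψ = (w2T (H.typ ψ) : ℂ)) := fun ψ hψ =>
    H.class_of_le hG h0 hmem1 h2 (hle ψ (Finset.mem_filter.1 hψ).2)
  set Mk : Fin 11 → ℤ := fun k => ∑ ψ ∈ T.filter (fun ψ => H.typ ψ = k), (m ψ : ℤ)
  have hfun : ∀ (F : IrrCharacter G → ℂ) (c : Fin 11 → ℤ) (tot : ℤ),
      ∑ ψ : IrrCharacter G, (m ψ : ℂ) * F ψ = (tot : ℂ) →
      (∀ ψ ∈ T, F ψ = (c (H.typ ψ) : ℂ)) → tot = ∑ k, c k * Mk k := by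
    intro F c tot ht hc
    have e : ((∑ k, c k * Mk k : ℤ) : ℂ) = ∑ ψ ∈ T, (m ψ : ℂ) * F ψ := by
      rw [← Finset.sum_fiberwise T H.typ, Int.cast_sum]
      refine Finset.sum_congr rfl fun k _ => ?_
      rw [Int.cast_mul, Int.cast_sum, Finset.mul_sum]
      refine Finset.sum_congr rfl fun ψ hψ => ?_
      obtain ⟨a, b⟩ := Finset.mem_filter.1 hψ
      rw [hc ψ a, b]
      push_cast
      ring
    rw [show ∑ ψ ∈ T, (m ψ : ℂ) * F ψ = ∑ ψ : IrrCharacter G, (m ψ : ℂ) * F ψ from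
      Finset.sum_filter_of_ne fun ψ _ hne => fun h0' => hne (by rw [h0', Nat.cast_zero, zero_mul]),
      ht] at e
    exact_mod_cast e.symm
  -- the five functionals
  obtain ⟨z, hz, hz1⟩ := H.L23.exists_mem_P hG
  obtain ⟨h, hh, hh1⟩ := H.L11.exists_mem_P hG
  have eD := hfun (fun ψ => (ψ : G → ℂ) 1) degT 253
    (by rw [← hexp]; simp only [CfsgLib.Char.MinusFour.sym, one_mul, hd1]; norm_num)
    (fun ψ hψ => by rw [← (hclass ψ hψ).2.1, deg_cast]; push_cast; rfl)
  have hWS : ∀ i : Fin 3, ∑ ψ : IrrCharacter G, (m ψ : ℂ) * H.wval i ψ =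
      ((if i = 0 then 36 else 0 : ℤ) : ℂ) := by
    intro i
    have e : ∀ x ∈ Finset.univ.filter (fun x : G => x ∈ H.L7.P ∧ x ≠ 1), ∀ v : H.L7.V,
        CfsgLib.Char.MinusFour.sym (χ : G → ℂ) (x * v) = 1 := by
      intro x hx v
      obtain ⟨-, hxP, hx1⟩ := Finset.mem_filter.1 hx
      have hsq : x * (v : G) * (x * v) = x ^ 2 * ((v * v : H.L7.V) : G) := by
        rw [mul_assoc, ← mul_assoc (v : G), ← (H.L7.setup.commute hxP v.2).eq, pow_two,
          Subgroup.coe_mul]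
        group
      have hx2 : x ^ 2 ≠ 1 := fun e => by
        have := orderOf_dvd_of_pow_eq_one e
        rw [H.L7.setup.orderOf_eq hxP hx1] at this
        norm_num [degT] at this
      have hηm : (H.S.η 1 : H.L7.V → ℂ) (v * v) = 1 := by
        have hd1' : (H.S.η 1 : H.L7.V → ℂ) 1 = 1 := by
          rw [apply_one_eq_charDegree, H.S.deg_η]; norm_num [etaDeg]
        obtain ⟨φ, hφ⟩ := exists_linear_of_degree_one (IsIrr.isCharacter (H.S.η 1).2) hd1'
        have h' := hη v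
        simp only [hφ, map_mul, Units.val_mul] at h' ⊢
        rw [← pow_two]; exact h'
      simp only [CfsgLib.Char.MinusFour.sym]
      rw [hsq, (H.S.blk 1).valX χ hχX x hxP hx1 v,
        (H.S.blk 1).valX χ hχX _ (Subgroup.pow_mem _ hxP 2) hx2 (v * v), hδ, hηm, Int.cast_one,
        one_mul, ← pow_two, hη v]
      norm_num
    have e2 : ∑ ψ : IrrCharacter G, (m ψ : ℂ) * H.wval i ψ =
        H.wval i (CfsgLib.Char.MinusFour.sym (χ : G → ℂ)) := by
      simp only [wval, hexp, Finset.mul_sum]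
      rw [Finset.sum_comm]
      refine Finset.sum_congr rfl fun x _ => ?_
      rw [Finset.sum_comm]
      exact Finset.sum_congr rfl fun v _ => Finset.sum_congr rfl fun ψ _ => by ring
    have e3 : H.wval i (CfsgLib.Char.MinusFour.sym (χ : G → ℂ)) = H.wval i (trivChar G) :=
      Finset.sum_congr rfl fun x hx => Finset.sum_congr rfl fun v _ => by
        rw [e x hx v, trivChar_apply]
    rw [e2, e3, H.wval_X i 0 H.S.triv.1, H.S.triv.2]
    split_ifs <;> norm_num
  have eW0 := hfun (fun ψ => H.wval 0 ψ) _ _ (hWS 0) (fun ψ hψ => (hclass ψ hψ).2.2.1)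
  have eW1 := hfun (fun ψ => H.wval 1 ψ) _ _ (hWS 1) (fun ψ hψ => (hclass ψ hψ).2.2.2.1)
  have eW2 := hfun (fun ψ => H.wval 2 ψ) _ _ (hWS 2) (fun ψ hψ => (hclass ψ hψ).2.2.2.2)
  have hvalT : ∀ (p : ℕ), p = 11 ∨ p = 23 → ∀ ψ ∈ T,
      (if ψ = trivChar G then 1 else valP p (deg ψ)) =
        valP p (degT (H.typ ψ)).toNat := by
    intro p hp ψ hψ
    rw [← (hclass ψ hψ).2.1, Int.toNat_natCast]
    split_ifs with e
    · rw [e, deg_trivChar]; rcases hp with rfl | rfl <;> rfl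
    · rfl
  have eZ := hfun (fun ψ => (ψ : G → ℂ) z)
    (fun k => valP 23 (degT k).toNat) 0
    (by
      rw [← hexp]
      have hz2 : z * z ≠ 1 := fun e => by
        have := orderOf_dvd_of_pow_eq_one (show z ^ 2 = 1 by rw [pow_two, e])
        rw [H.L23.setup.orderOf_eq hz hz1] at this
        norm_num [degT] at this
      simp only [CfsgLib.Char.MinusFour.sym,
        H.value_23 hG hz hz1 hne (by rw [hd]; rfl), H.value_23 hG (mul_mem hz hz) hz2 hne (by rw [hd]; rfl), hd]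
      norm_num [valP, sgn])
    (fun ψ hψ => by
      rw [← hvalT 23 (Or.inr rfl) ψ hψ]
      split_ifs with e
      · rw [e, trivChar_apply, Int.cast_one]
      · exact H.value_23 hG hz hz1 e (hclass ψ hψ).1)
  have eH := hfun (fun ψ => (ψ : G → ℂ) h)
    (fun k => valP 11 (degT k).toNat) 0
    (by
      rw [← hexp]
      have hh2 : h * h ≠ 1 := fun e => by
        have := orderOf_dvd_of_pow_eq_one (show h ^ 2 = 1 by rw [pow_two, e])
        rw [H.L11.setup.orderOf_eq hh hh1] at this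
        norm_num [degT] at this
      simp only [CfsgLib.Char.MinusFour.sym, H.value_11 hG hh hh1 hne,
        H.value_11 hG (mul_mem hh hh) hh2 hne, hd]
      norm_num [valP, sgn])
    (fun ψ hψ => by
      rw [← hvalT 11 (Or.inl rfl) ψ hψ]
      split_ifs with e
      · rw [e, trivChar_apply, Int.cast_one]
      · exact H.value_11 hG hh hh1 e)
  have hpos : ∀ k, 0 ≤ Mk k := fun k => Finset.sum_nonneg fun _ _ => Int.natCast_nonneg _
  -- the third block has one exceptional degree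
  have hY2 : Mk 8 = 0 ∨ (Mk 5 = 0 ∧ Mk 6 = 0 ∧ Mk 7 = 0) := by
    have hz' : ∀ k, (∀ ψ ∈ T, H.typ ψ ≠ k) → Mk k = 0 := fun k hk =>
      Finset.sum_eq_zero fun ψ hψ => absurd (Finset.mem_filter.1 hψ).2 (hk ψ (Finset.mem_filter.1 hψ).1)
    have htyp : ∀ ψ, H.typ ψ = 5 ∨ H.typ ψ = 6 ∨ H.typ ψ = 7 ∨ H.typ ψ = 8 → ψ ∈ H.nt7 2 := by
      intro ψ hψ
      unfold typ at hψ
      by_contra hn
      rw [if_neg hn] at hψ
      revert hψ
      split_ifs <;> decide
    rcases h2 with h | h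
    · left
      refine hz' 8 fun ψ hψ e => ?_
      have hd23 := h ψ (htyp ψ (by simp [e]))
      have := (hclass ψ hψ).2.1
      rw [e] at this
      norm_num [degT] at this
      omega
    · right
      have hcase : ∀ ψ ∈ T, H.typ ψ = 5 ∨ H.typ ψ = 6 ∨ H.typ ψ = 7 → False := fun ψ hψ e => by
        have hm' := Multiset.mem_map_of_mem deg (Finset.mem_val.symm ▸ htyp ψ (by tauto))
        rw [h] at hm'
        simp only [Multiset.mem_coe, List.mem_cons, List.not_mem_nil, or_false] at hm'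
        have := (hclass ψ hψ).2.1
        rcases e with e | e | e <;> rw [e] at this <;> norm_num [degT] at this <;> omega
      exact ⟨hz' 5 fun ψ hψ e => hcase ψ hψ (by tauto), hz' 6 fun ψ hψ e => hcase ψ hψ (by tauto),
        hz' 7 fun ψ hψ e => hcase ψ hψ (by tauto)⟩
  have hcases : (Mk 0 = 1 ∧ Mk 10 = 1 ∧ Mk 1 = 0 ∧ Mk 2 = 0 ∧ Mk 3 = 0 ∧ Mk 4 = 0 ∧ Mk 5 = 0 ∧
      Mk 6 = 0 ∧ Mk 7 = 0 ∧ Mk 8 = 0 ∧ Mk 9 = 0) ∨
      (Mk 0 = 1 ∧ Mk 10 = 0 ∧ Mk 1 = 1 ∧ Mk 2 = 1 ∧ Mk 3 = 0 ∧ Mk 4 = 0 ∧ Mk 5 = 0 ∧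
      Mk 6 = 0 ∧ Mk 7 = 0 ∧ Mk 8 = 0 ∧ Mk 9 = 0) :=
    places_cases Mk hpos eD eW0 eW1 eW2 eZ eH hY2
  -- the values in the two cases
  have hval : ∀ (g : G), CfsgLib.Char.MinusFour.sym (χ : G → ℂ) g =
      ∑ k, ∑ ψ ∈ T.filter (fun ψ => H.typ ψ = k), (m ψ : ℂ) * (ψ : G → ℂ) g := fun g => by
    rw [Finset.sum_fiberwise T H.typ, hexp]
    refine (Finset.sum_subset (Finset.subset_univ T) fun ψ _ hn => ?_).symm
    rw [show m ψ = 0 from not_not.1 fun h0' => hn (Finset.mem_filter.2 ⟨Finset.mem_univ ψ, h0'⟩),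
      Nat.cast_zero, zero_mul]
  have hnone : ∀ k, Mk k = 0 → ∀ g,
      ∑ ψ ∈ T.filter (fun ψ => H.typ ψ = k), (m ψ : ℂ) * (ψ : G → ℂ) g = 0 := fun k hk g =>
    Finset.sum_eq_zero fun ψ hψ => by rw [all_zero hk ψ hψ, Nat.cast_zero, zero_mul]
  have hone : ∀ k, Mk k = 1 → ∃ ψ, ψ ∈ T ∧ H.typ ψ = k ∧ ∀ g,
      ∑ φ ∈ T.filter (fun ψ => H.typ ψ = k), (m φ : ℂ) * (φ : G → ℂ) g = (ψ : G → ℂ) g := fun k hk => by
    obtain ⟨a, ha, hm'⟩ := exists_single hk
    refine ⟨a, (Finset.mem_filter.1 ha).1, (Finset.mem_filter.1 ha).2, fun g => ?_⟩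
    rw [Finset.sum_congr rfl fun φ hφ => by rw [hm' φ hφ]]
    simp only [Nat.cast_ite, Nat.cast_one, Nat.cast_zero, ite_mul, one_mul, zero_mul]
    rw [Finset.sum_ite_eq' (T.filter fun ψ => H.typ ψ = k) a, if_pos ha]
  obtain ⟨ψ0, -, ht0, hψ0⟩ := hone 0 (by omega)
  have htriv : ψ0 = trivChar G := by
    by_contra hn
    unfold typ at ht0
    rw [if_neg hn] at ht0
    revert ht0
    split_ifs <;> decide
  subst htriv
  rcases hcases with ⟨-, ha, hb, hc, hd', he, hf, hg, hi, hj, hk⟩ |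
    ⟨-, ha, hb, hc, hd', he, hf, hg, hi, hj, hk⟩
  · obtain ⟨ψ, hψT, htψ, hψ⟩ := hone 10 ha
    have hψd : deg ψ = 252 := by
      have := (hclass ψ hψT).2.1
      rw [htψ] at this
      norm_num [degT] at this
      omega
    refine ⟨ψ, fun e => by rw [e, deg_trivChar] at hψd; norm_num at hψd, hψd, ?_⟩
    have hs2 : s * s = 1 := by rw [← pow_two, ← hs]; exact pow_orderOf_eq_one s
    have hv := hval s
    rw [sum_eleven] at hv
    rw [hψ0, hnone 1 hb, hnone 2 hc, hnone 3 hd', hnone 4 he, hnone 5 hf, hnone 6 hg, hnone 7 hi,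
      hnone 8 hj, hnone 9 hk, hψ, trivChar_apply, (ival_spec hG hs ψ).1] at hv
    simp only [CfsgLib.Char.MinusFour.sym, hs2, hd1, (ival_spec hG hs χ).1] at hv
    have h' : ((2 * (1 + ival s ψ) : ℤ) : ℂ) = ((ival s χ * ival s χ + 22 : ℤ) : ℂ) := by
      push_cast
      linear_combination (-2 : ℂ) * hv
    exact_mod_cast h'
  · exfalso
    obtain ⟨ψ1, hψ1T, ht1, hψ1⟩ := hone 1 hb
    obtain ⟨ψ2, hψ2T, ht2, hψ2⟩ := hone 2 hc
    have hin : ∀ ψ, (H.typ ψ = 1 ∨ H.typ ψ = 2) → ψ ∈ H.nt7 1 := fun ψ e => by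
      unfold typ at e
      by_contra hn
      rw [if_neg hn] at e
      revert e
      split_ifs <;> decide
    have hd1' : deg ψ1 = 22 := by
      have := (hclass ψ1 hψ1T).2.1
      rw [ht1] at this
      norm_num [degT] at this
      omega
    have hd2' : deg ψ2 = 230 := by
      have := (hclass ψ2 hψ2T).2.1
      rw [ht2] at this
      norm_num [degT] at this
      omega
    -- the degree 22 occurs once in the block
    have huniq : ∀ d, ([22, 230, 253, 45, 45] : List ℕ).count d = 1 →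
        ∀ a ∈ H.nt7 1, ∀ b ∈ H.nt7 1, deg a = d → deg b = d → a = b := fun d hdc a ha' b hb' ea eb => by
      have hcard : ((H.nt7 1).filter fun ψ => deg ψ = d).card = 1 := by
        rw [← hdc, ← Multiset.coe_count, ← h1, Multiset.count_map]
        simp only [Finset.card_def, Finset.filter_val, eq_comm]
      exact Finset.card_le_one.1 hcard.le a (Finset.mem_filter.2 ⟨ha', ea⟩) b
        (Finset.mem_filter.2 ⟨hb', eb⟩)
    have hψe : ψ1 = χ := huniq 22 (by decide) ψ1 (hin ψ1 (Or.inl ht1)) χ hχ hd1' hd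
    subst ψ1
    -- an involution inverting an element of order 11
    obtain ⟨r, hr, hrh⟩ : ∃ r : G, orderOf r = 2 ∧ r * h * r⁻¹ = h⁻¹ := by
      have := Fact.mk Nat.prime_two
      set N := Subgroup.normalizer (H.L11.P : Set G)
      have hN : Nat.card N = 110 := by rw [H.L11.card_normalizer, H.e11, H.v11]
      obtain ⟨r, hr⟩ := exists_prime_orderOf_dvd_card' (G := N) 2 (by rw [hN]; norm_num)
      have hr2 : orderOf (r : G) = 2 := by rw [Subgroup.orderOf_coe, hr]
      have hho := H.L11.setup.orderOf_eq hh hh1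
      have hm' : (r : G) * h * (r : G)⁻¹ ∈ H.L11.P := (Subgroup.mem_normalizer_iff.1 r.2 h).1 hh
      rw [← H.L11.setup.zpowers_eq hh hh1] at hm'
      obtain ⟨k, hk'⟩ := mem_zpowers_iff_mem_range_orderOf.1 hm' |> Finset.mem_image.1
      obtain ⟨hklt, hk'⟩ := hk'
      rw [Finset.mem_range, hho] at hklt
      have hrr : (r : G) * r = 1 := by rw [← pow_two, ← hr2]; exact pow_orderOf_eq_one _
      have hsq : h ^ (k * k) = h ^ 1 := by
        rw [pow_mul, hk', conj_pow, hk', pow_one]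
        calc (r : G) * (r * h * (r : G)⁻¹) * (r : G)⁻¹ = (r * r) * h * ((r : G) * r)⁻¹ := by group
          _ = h := by rw [hrr]; simp
      rw [pow_eq_pow_iff_modEq, hho] at hsq
      have hk10 : k = 1 ∨ k = 10 := by
        revert hsq
        unfold Nat.ModEq
        interval_cases k <;> norm_num
      refine ⟨r, hr2, ?_⟩
      rcases hk10 with rfl | rfl
      · exfalso
        rw [pow_one] at hk'
        have hrC : (r : G) ∈ Subgroup.centralizer ({h} : Set G) := by
          refine Subgroup.mem_centralizer_singleton_iff.2 ?_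
          conv_rhs => rw [hk']
          group
        have hd2 := Subgroup.orderOf_dvd_natCard _ hrC
        rw [H.L11.setup.centralizer_singleton hh hh1, H.L11.setup.card_centralizer, H.v11, hr2] at hd2
        norm_num at hd2
      · rw [← hk']
        refine eq_inv_of_mul_eq_one_left ?_
        rw [← pow_succ, show (10 + 1 : ℕ) = orderOf h from hho.symm, pow_orderOf_eq_one]
    have hr2 : r * r = 1 := by rw [← pow_two, ← hr]; exact pow_orderOf_eq_one r
    have hho := H.L11.setup.orderOf_eq hh hh1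
    obtain ⟨hb1, hb2⟩ := value_bound_reflection (IsIrr.isCharacter χ.2) (IsIrr.isClassFunction χ.2) hho hr2 hrh
      (fun k hk hk' => by
        have hk1 : h ^ k ≠ 1 := fun e => by
          have := orderOf_dvd_of_pow_eq_one e
          rw [hho] at this
          have := Nat.le_of_dvd hk this
          omega
        rw [H.value_11 hG (Subgroup.pow_mem _ hh k) hk1 hne, hd]
        norm_num [valP])
      (d := 22) (by rw [hd1]; norm_num) (ival_spec hG hr χ).1
    have h4 := (ival_spec hG hr χ).2.1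
    rw [hd] at h4
    have hv := hval r
    rw [sum_eleven] at hv
    rw [hψ0, hψ1, hψ2, hnone 10 ha, hnone 3 hd', hnone 4 he, hnone 5 hf, hnone 6 hg, hnone 7 hi,
      hnone 8 hj, hnone 9 hk, trivChar_apply, (ival_spec hG hr ψ2).1] at hv
    simp only [CfsgLib.Char.MinusFour.sym, hr2, hd1, (ival_spec hG hr χ).1] at hv
    have hw : ival r χ * ival r χ + 22 = 2 * (1 + ival r χ + ival r ψ2) := by
      have h' : ((ival r χ * ival r χ + 22 : ℤ) : ℂ) =
          ((2 * (1 + ival r χ + ival r ψ2) : ℤ) : ℂ) := by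
        push_cast
        linear_combination (2 : ℂ) * hv
      exact_mod_cast h'
    -- the relation and the pairs equation of the block
    obtain ⟨θ, hθ⟩ := H.S.exists_theta 1
    have hθ45 : deg θ = 45 := by
      have hθn : θ ∈ H.nt7 1 := Finset.mem_erase.2
        ⟨fun e => H.triv_notMem_Y7 1 (e ▸ hθ), Finset.mem_union_right _ hθ⟩
      by_contra hn
      exact Finset.disjoint_left.1 (H.S.blk 1).disj (hX1 θ hθn hn) hθ
    obtain ⟨ψ3, hψ3, hd3⟩ : ∃ ψ ∈ H.nt7 1, deg ψ = 253 := by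
      have : 253 ∈ (H.nt7 1).val.map deg := by rw [h1]; simp
      simpa using Multiset.mem_map.1 this
    have hX : (H.S.blk 1).X = {χ, ψ2, ψ3} := by
      symm
      refine Finset.eq_of_subset_of_card_le ?_ ?_
      · simp only [Finset.insert_subset_iff, Finset.singleton_subset_iff]
        exact ⟨hχX, hX1 ψ2 (hin ψ2 (Or.inr ht2)) (by omega), hX1 ψ3 hψ3 (by omega)⟩
      · rw [(H.S.blk 1).cardX, Finset.card_insert_of_notMem, Finset.card_insert_of_notMem,
          Finset.card_singleton]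
        · simp only [Finset.mem_singleton]; rintro rfl; omega
        · simp only [Finset.mem_insert, Finset.mem_singleton]; rintro (rfl | rfl) <;> omega
    have n1 : χ ∉ ({ψ2, ψ3} : Finset (IrrCharacter G)) := by
      simp only [Finset.mem_insert, Finset.mem_singleton]; rintro (rfl | rfl) <;> omega
    have n2 : ψ2 ∉ ({ψ3} : Finset (IrrCharacter G)) := by
      simp only [Finset.mem_singleton]; rintro rfl; omega
    have hδ2 : (H.S.blk 1).δ ψ2 = -1 := by
      rw [hδ1 ψ2 (hin ψ2 (Or.inr ht2)) (by omega), hd2']; rfl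
    have hδ3 : (H.S.blk 1).δ ψ3 = 1 := by rw [hδ1 ψ3 hψ3 (by omega), hd3]; rfl
    have hrel := (H.S.blk 1).rel θ hθ r (by rw [hr]; norm_num)
    have hpairs := H.S.pairs hG H.e7 1 hr hθ
    have hε : (H.S.blk 1).ε = 1 := by
      have h' := (H.S.blk 1).deg_rel (by norm_num) hθ
      rw [hX, Finset.sum_insert n1, Finset.sum_insert n2, Finset.sum_singleton, hδ, hδ2, hδ3, hd,
        hd2', hd3, hθ45] at h'
      omega
    rw [hX, Finset.sum_insert n1, Finset.sum_insert n2, Finset.sum_singleton, hδ, hδ2, hδ3, hε,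
      (ival_spec hG hr θ).1, (ival_spec hG hr χ).1, (ival_spec hG hr ψ2).1,
      (ival_spec hG hr ψ3).1] at hrel hpairs
    rw [deg_cast χ, deg_cast ψ2, deg_cast ψ3, deg_cast θ, hd, hd2', hd3, hθ45] at hpairs
    have hrel' : ival r θ = ival r χ - ival r ψ2 + ival r ψ3 := by
      have h' : ((ival r θ : ℤ) : ℂ) = ((ival r χ - ival r ψ2 + ival r ψ3 : ℤ) : ℂ) := by
        push_cast
        push_cast at hrel
        linear_combination hrel
      exact_mod_cast h'
    have hp : (ival r χ * ival r χ) * (230 * 253 * 45) - (ival r ψ2 * ival r ψ2) * (22 * 253 * 45) +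
        (ival r ψ3 * ival r ψ3) * (22 * 230 * 45) -
        (ival r θ * ival r θ) * (22 * 230 * 253) = 0 := by
      have h' : (((ival r χ * ival r χ) * (230 * 253 * 45) - (ival r ψ2 * ival r ψ2) * (22 * 253 * 45) +
          (ival r ψ3 * ival r ψ3) * (22 * 230 * 45) -
          (ival r θ * ival r θ) * (22 * 230 * 253) : ℤ) : ℂ) = ((0 : ℤ) : ℂ) := by
        push_cast
        push_cast at hpairs
        linear_combination (22 * 230 * 253 * 45 : ℂ) * hpairs
      exact_mod_cast h'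
    have h4' := (ival_spec hG hr ψ3).2.1
    rw [hd3] at h4'
    obtain ⟨hb3, hb4⟩ := value_bound_reflection (IsIrr.isCharacter ψ3.2)
      (IsIrr.isClassFunction ψ3.2) hho hr2 hrh
      (fun k hk hk' => by
        have hk1 : h ^ k ≠ 1 := fun e => by
          have := orderOf_dvd_of_pow_eq_one e
          rw [hho] at this
          have := Nat.le_of_dvd hk this
          omega
        rw [H.value_11 hG (Subgroup.pow_mem _ hh k) hk1 (H.mem_nt7 hψ3).1, hd3]
        norm_num [valP])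
      (d := 253) (by rw [deg_cast, hd3]) (ival_spec hG hr ψ3).1
    rw [hrel'] at hp
    have hcast : (((ival r ψ3 + 23).toNat : ℕ) : ℤ) - 23 = ival r ψ3 := by omega
    have key := List.all_eq_true.1 pairsNone_true
    rcases (by omega : ival r χ = 2 ∨ ival r χ = -2) with e | e
    · rw [e] at hp hw
      have e2 : ival r ψ2 = 10 := by omega
      rw [e2] at hp
      have h' := List.all_eq_true.1 (key (2, 10) (by simp)) (ival r ψ3 + 23).toNat
        (List.mem_range.2 (by omega))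
      simp only [hcast, Bool.or_eq_true, Bool.not_eq_true', beq_eq_false_iff_ne, bne_iff_ne] at h'
      rcases h' with h' | h'
      · exact h' (by omega)
      · exact h' hp
    · rw [e] at hp hw
      have e2 : ival r ψ2 = 14 := by omega
      rw [e2] at hp
      have h' := List.all_eq_true.1 (key (-2, 14) (by simp)) (ival r ψ3 + 23).toNat
        (List.mem_range.2 (by omega))
      simp only [hcast, Bool.or_eq_true, Bool.not_eq_true', beq_eq_false_iff_ne, bne_iff_ne] at h'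
      rcases h' with h' | h'
      · exact h' (by omega)
      · exact h' hp

end Shaped

end CfsgLib.Blocks.Order244823040
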