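import Cfsg.Agent.Lib.Blocks.Order244823040.SevenTablesCentB

/-!
# The columns, third part
-/

set_option autoImplicit false
set_option Elab.async false

namespace CfsgLib.Blocks.Order244823040

theorem table_key_7 :
    ((keyParts.drop 7).take 8).all (chkKey 21504) = true := by decide +kernel

theorem table_key_15 :
    ((keyParts.drop 15).take 2).all (chkKey 21504) = true := by decide +kernel

theorem table_key_17 :
    ((keyParts.drop 17).take 1).all (chkKey 21504) = true := by decide +kernel

theorem table_key_18 :
    ((keyParts.drop 18).take 2).all (chkKey 21504) = true := by decide +kernel

theorem table_key_20 :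
    ((keyParts.drop 20).take 3).all (chkKey 21504) = true := by decide +kernel

theorem table_key_23 :
    ((keyParts.drop 23).take 1).all (chkKey 21504) = true := by decide +kernel

/-- The columns at the centralizer order 21504. -/
theorem table_cent_big : keyParts.all (chkKey 21504) = true := by
  have e : keyParts = (keyParts.drop 0).take 1 ++
      (keyParts.drop 1).take 1 ++
      (keyParts.drop 2).take 1 ++
      (keyParts.drop 3).take 1 ++
      (keyParts.drop 4).take 1 ++
      (keyParts.drop 5).take 1 ++
      (keyParts.drop 6).take 1 ++
      (keyParts.drop 7).take 8 ++
      (keyParts.drop 15).take 2 ++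
      (keyParts.drop 17).take 1 ++
      (keyParts.drop 18).take 2 ++
      (keyParts.drop 20).take 3 ++
      (keyParts.drop 23).take 1 := by
    decide +kernel
  rw [e]
  simp only [List.all_append, table_key_0, table_key_1, table_key_2, table_key_3, table_key_4, table_key_5, table_key_6, table_key_7, table_key_15, table_key_17, table_key_18, table_key_20, table_key_23, Bool.and_self]

end CfsgLib.Blocks.Order244823040
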