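import Cfsg.Agent.Lib.Blocks.Order244823040.SevenChecks

/-!
# The columns away from one centralizer order
-/

set_option autoImplicit false
set_option Elab.async false

namespace CfsgLib.Blocks.Order244823040

theorem table_cents :
    (sevenCents.filter fun C => !(C == 21504)).all chkCent = true := by decide +kernel

end CfsgLib.Blocks.Order244823040
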