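import Cfsg.Agent.Lib.Blocks.Order244823040.SevenChecks

/-!
# The degrees with the principal block for 23
-/

set_option autoImplicit false
set_option Elab.async false

namespace CfsgLib.Blocks.Order244823040

theorem table_lists :
    listsChk = true := by decide +kernel


theorem table_degrees_a :
    (list1.take 22).all chkDegrees = true := by decide +kernel


theorem table_degrees_b :
    ((list1.drop 22).take 22).all chkDegrees = true := by decide +kernel


theorem table_degrees_c :
    ((list1.drop 44).take 22).all chkDegrees = true := by decide +kernel


theorem table_degrees_d :
    (list1.drop 66).all chkDegrees = true := by decide +kernel

end CfsgLib.Blocks.Order244823040
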