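import Cfsg.Agent.Lib.Blocks.Order244823040.SevenPlaces
import Cfsg.Agent.Lib.Blocks.Order244823040.SevenCent
import Cfsg.Agent.Lib.Blocks.Order244823040.SevenSquare
import Cfsg.Agent.Lib.Blocks.Order244823040.SevenTablesDegrees
import Cfsg.Agent.Lib.Blocks.Order244823040.SevenTablesCentSmall
import Cfsg.Agent.Lib.Blocks.Order244823040.SevenTablesCentC

/-!
# A character of degree 23

The searches leave one possibility for the third block at 7; it contains a character of degree 23.
-/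

set_option autoImplicit false

namespace CfsgLib.Blocks.Order244823040

open Cfsg CfsgLib CfsgLib.Char CfsgLib.CharIntegral CfsgLib.Blocks.PrimeSylow
open CfsgLib.Blocks.Order95040 (deg cent deg_cast deg_trivChar)
open CfsgLib.Blocks.Order10200960 (Cell Run combos vals flat combos_sound vals_sound combos_runs)
open scoped Classical ComplexConjugate

theorem table_keys {C : ℕ} (hC : C ∈ sevenCents) : keyParts.all (chkKey C) = true := by
  by_cases h : C = 21504
  · subst h; exact table_cent_big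
  · exact List.all_eq_true.1 table_cents C
      (List.mem_filter.2 ⟨hC, by simpa using h⟩)

theorem table_degrees {R1 : List Run} (h : R1 ∈ list1) : chkDegrees R1 = true := by
  have e : list1 = list1.take 22 ++ (list1.drop 22).take 22 ++ (list1.drop 44).take 22 ++
      list1.drop 66 := by decide +kernel
  have hall : list1.all chkDegrees = true := by
    rw [e]
    simp only [List.all_append, table_degrees_a, table_degrees_b, table_degrees_c, table_degrees_d,
      Bool.and_self]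
  exact List.all_eq_true.1 hall R1 h

theorem key_runs1 : (keyParts.all fun k => k.1 != runs1 ||
    k.2.1.all fun R => blkDegs 2 R == [264, 264, 506, 22, 22]) = true := by decide +kernel

theorem runs1_degs : blkDegs 1 runs1 = [22, 230, 253, 45, 45] := by decide +kernel

theorem runs0_degs : ∀ d ∈ blkDegs 0 runs0, 253 < d := by decide +kernel

theorem runs2_degs : 23 ∈ blkDegs 2 runs2 := by decide +kernel

variable {G : Type*} [Group G] [Fintype G]

namespace Shaped

open Local (ival_spec sum_sq_le sum_deg_le okv_cell)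

variable (H : Shaped G)

theorem cardY11 : H.L11.data.Y.card = 1 := by
  rw [H.L11.cardY_eq (by norm_num), H.e11]

theorem card_nt11 : H.L11.nt.card = 10 := by
  rw [H.L11.nt_eq, Finset.card_union_of_disjoint H.L11.disjoint_xs, H.L11.card_xs, H.cardY11,
    H.e11]

theorem sgn_Y11 {θ : IrrCharacter G} (hθ : θ ∈ H.L11.data.Y) :
    sgn 11 (deg θ) = -H.L11.data.ε := by
  have h := H.L11.data.modY θ hθ
  rw [show ((H.L11.e : ℕ) : ℤ) = 10 by exact_mod_cast H.e11] at h
  refine ((sgn_eq (by norm_num) (by rcases H.L11.data.sgnY with e | e <;> simp [e])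
    (h.trans ?_)).1).symm
  rcases H.L11.data.sgnY with e | e <;> rw [e] <;> decide

theorem sum_nt11 {θ : IrrCharacter G} (hθ : θ ∈ H.L11.data.Y) (f : IrrCharacter G → ℤ) :
    ∑ χ ∈ H.L11.nt, f χ = ∑ χ ∈ H.L11.xs, f χ + f θ := by
  obtain ⟨a, ha⟩ := Finset.card_eq_one.1 H.cardY11
  rw [ha, Finset.mem_singleton] at hθ
  rw [H.L11.nt_eq, Finset.sum_union H.L11.disjoint_xs, ha, Finset.sum_singleton, hθ]

variable [IsSimpleGroup G] (hG : Nat.card G = ord)
include H hG

omit [IsSimpleGroup G] hG in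
theorem dsum11 {l : List ℕ} (hl : (l : Multiset ℕ) = H.L11.nt.val.map deg) : dsum 11 l = 0 := by
  have := Fact.mk (show Nat.Prime 11 by norm_num)
  obtain ⟨θ, hθ⟩ := H.L11.exists_theta
  have h1 := H.L11.deg_sum (by norm_num) hθ
  rw [dsum_eq 11 hl, H.sum_nt11 hθ, H.sgn_Y11 hθ]
  linarith

theorem column11 [Fintype (IrrCharacter G)] {s : G} (hs : orderOf s = 2) {b : List Cell}
    (hb : (b : Multiset Cell) = H.L11.nt.val.map (cell s)) :
    vsum 11 b = 0 ∧
      (((ord / cent s : ℕ) : ℤ) * ((ord / cent s : ℕ) : ℤ) * qsum 11 b = 0 ∨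
        ((ord / cent s : ℕ) : ℤ) * ((ord / cent s : ℕ) : ℤ) * qsum 11 b =
          11 * (ord : ℤ) * (ord : ℤ)) := by
  have := Fact.mk (show Nat.Prime 11 by norm_num)
  obtain ⟨θ, hθ⟩ := H.L11.exists_theta
  have h1 := H.L11.val_sum hG (by norm_num) hs hθ
  obtain ⟨j, hj, -, he⟩ := H.L11.pairs_int hG (by norm_num) hs hθ
  rw [H.v11] at hj he
  refine ⟨?_, ?_⟩
  · rw [vsum_eq 11 hb, H.sum_nt11 hθ, H.sgn_Y11 hθ]
    linarith
  · rw [qsum_eq 11 hb, H.sum_nt11 hθ, H.sgn_Y11 hθ]
    interval_cases j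
    · left
      simp only [Nat.cast_zero, Nat.cast_one, Nat.cast_ofNat, mul_zero, zero_mul, mul_one] at he
      linear_combination he
    · right
      simp only [Nat.cast_zero, Nat.cast_one, Nat.cast_ofNat, mul_zero, zero_mul, mul_one] at he
      linear_combination he

/-- The joint possibility for the blocks is one of those kept. -/
theorem exists_key {U : Finset (IrrCharacter G)} (hU : H.Part U) {R1 : List Run}
    {ex : List (List Run)} (hR1 : R1 ∈ list1) (hex : ex ∈ listEx)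
    (hT : (degsT R1 ex : Multiset ℕ) = (H.t0 U).val.map deg) :
    ∃ t, (R1, ex, [t]) ∈ keyParts ∧ (flat t : Multiset ℕ) = H.xt.val.map deg ∧
      (t.map Prod.fst).Nodup := by
  obtain ⟨t, ht, htm, hnd⟩ := H.exists_tdegs hU hG hT
  have h := List.all_eq_true.1 (table_degrees hR1) ex hex
  rw [Bool.or_eq_true, List.isEmpty_iff] at h
  rcases h with h | h
  · rw [h] at ht
    exact absurd ht List.not_mem_nil
  · obtain ⟨k, hk, hk'⟩ := List.any_eq_true.1 h
    simp only [Bool.and_eq_true, beq_iff_eq] at hk'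
    obtain ⟨e1, e2⟩ := hk'
    have hl := table_lists
    simp only [listsChk, Bool.and_eq_true, beq_iff_eq, List.all_eq_true] at hl
    have hk2 := hl.2 k hk
    rw [e1, e2] at hk2
    refine ⟨t, List.mem_flatMap.2 ⟨k, hk, List.mem_map.2 ⟨t, hk2 ▸ ht, ?_⟩⟩, htm, hnd⟩
    rw [e1, e2]

/-- The last stage leaves one possibility for the third block. -/
theorem last [Fintype (IrrCharacter G)] {s : G} (hsV : s ∈ H.L7.V) (hs : orderOf s = 2)
    (hall : ∀ χ ∈ H.nt7 2, 23 ∣ deg χ) {R2 : List Run} (hR2 : R2 ∈ list2)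
    (hR2m : (flat R2 : Multiset ℕ) = (H.xs7 2).val.map deg) (hR2n : (R2.map Prod.fst).Nodup)
    (hR2d : (blkDegs 2 R2 : Multiset ℕ) = (H.nt7 2).val.map deg)
    {cc : List Cell} (hcc : (cc : Multiset Cell) = (H.seen ∅).val.map (cell s))
    (h : chkLast (cent s) cc = true) : R2 = runs2 := by
  have hU : H.Part ∅ := Or.inl ⟨rfl, hall⟩
  have hC := cent_le hG (fun e => by simp [e] at hs : s ≠ 1)
  have h' := List.all_eq_true.1 h R2 hR2
  rw [Bool.or_eq_true, beq_iff_eq] at h'
  rcases h' with e | h'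
  · exact e
  exfalso
  set A := H.seen ∅ ∪ H.nt7 2
  have hdA : Disjoint (H.seen ∅) (H.nt7 2) := by
    refine Finset.disjoint_left.2 fun χ hχ h2 => ?_
    simp only [seen, t0, Finset.mem_union, Finset.notMem_empty, or_false] at hχ
    rcases hχ with (h0 | h1) | h3 | h4
    · exact H.notMem_of_ne (by decide) h0 h2
    · exact H.notMem_of_ne (by decide) h1 h2
    · exact H.not_dvd_X (Finset.mem_filter.1 h3).1 (hall χ h2)
    · exact H.not_dvd_Y h4 (hall χ h2)
  have hA : trivChar G ∉ A := fun ha => (Finset.mem_union.1 ha).elim (H.triv_notMem_seen hU)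
    fun h2 => (H.mem_nt7 h2).1 rfl
  set U11 := H.L11.nt.filter fun χ => χ ∉ A with hU11
  have hsplit : A.filter (fun χ => (!(deg χ % 11 == 0)) = true) ∪ U11 = H.L11.nt ∧
      Disjoint (A.filter fun χ => (!(deg χ % 11 == 0)) = true) U11 := by
    refine ⟨?_, Finset.disjoint_left.2 fun χ h1 h2 =>
      (Finset.mem_filter.1 h2).2 (Finset.mem_filter.1 h1).1⟩
    ext χ
    simp only [hU11, Finset.mem_union, Finset.mem_filter, Bool.not_eq_true', beq_eq_false_iff_ne]
    constructor
    · rintro (⟨h1, h2⟩ | ⟨h1, -⟩)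
      · exact (H.L11.mem_nt_iff H.v11).2 ⟨fun e => hA (e ▸ h1),
          fun e => h2 (Nat.mod_eq_zero_of_dvd e)⟩
      · exact h1
    · intro h1
      by_cases h2 : χ ∈ A
      · exact Or.inl ⟨h2, fun e => ((H.L11.mem_nt_iff H.v11).1 h1).2 (Nat.dvd_of_mod_eq_zero e)⟩
      · exact Or.inr ⟨h1, h2⟩
  have hU11mem : ∀ χ ∈ U11, χ ≠ trivChar G ∧ deg χ ∈ uPool := by
    intro χ hχ
    obtain ⟨h1, h2⟩ := Finset.mem_filter.1 hχ
    obtain ⟨hne, h11⟩ := (H.L11.mem_nt_iff H.v11).1 h1
    have h7 : 7 ∣ deg χ := by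
      by_contra h7
      obtain ⟨i, hi⟩ := H.exists_block hne h7
      obtain rfl | rfl | rfl : i = 0 ∨ i = 1 ∨ i = 2 :=
        (by decide : ∀ j : Fin 3, j = 0 ∨ j = 1 ∨ j = 2) i
      · exact h2 (Finset.mem_union_left _ (Finset.mem_union_left _
          (Finset.mem_union_left _ (Finset.mem_union_left _ hi))))
      · exact h2 (Finset.mem_union_left _ (Finset.mem_union_left _
          (Finset.mem_union_left _ (Finset.mem_union_right _ hi))))
      · exact h2 (Finset.mem_union_right _ hi)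
    have h23 : 23 ∣ deg χ := by
      by_contra h23
      refine h2 (Finset.mem_union_left _ (Finset.mem_union_right _ ?_))
      rcases H.L23.residue (by norm_num) ((H.L23.mem_nt_iff H.v23).2 ⟨hne, h23⟩) with
        ⟨hx, -⟩ | ⟨hy, -⟩
      · exact Finset.mem_union_left _ (Finset.mem_filter.2 ⟨hx, h7⟩)
      · exact Finset.mem_union_right _ hy
    exact ⟨hne, ((H.pools hG hne).2 h7).2.2 h23 h11⟩
  have hdAU : Disjoint A U11 :=
    Finset.disjoint_left.2 fun χ h1 h2 => (Finset.mem_filter.1 h2).2 h1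
  have hAU : trivChar G ∉ A ∪ U11 := fun ha => (Finset.mem_union.1 ha).elim hA
    fun h2 => (hU11mem _ h2).1 rfl
  have hAd : ((cc.map Prod.fst ++ blkDegs 2 R2 : List ℕ) : Multiset ℕ) = A.val.map deg :=
    append_map_eq (map_fst hcc) hR2d hdA
  have hfil := filter_map_eq hAd fun d => !(d % 11 == 0)
  have hlen : ((cc.map Prod.fst ++ blkDegs 2 R2).filter fun d => !(d % 11 == 0)).length +
      U11.card = 10 := by
    rw [card_eq_of_map hfil, ← Finset.card_union_of_disjoint hsplit.2, hsplit.1, H.card_nt11]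
  have hbud := sum_deg_le hG hAU
  rw [Finset.sum_union hdAU, ← dsq_eq hAd] at hbud
  have hnd : uPool.Nodup := by decide
  obtain ⟨u, hu, hum⟩ := combos_sound (mn := fun _ => 0) hnd
    (k := 10 - ((cc.map Prod.fst ++ blkDegs 2 R2).filter fun d => !(d % 11 == 0)).length)
    (B := ord) (B' := 0) (U11.val.map deg) (fun d hd => by
      obtain ⟨χ, hχ, rfl⟩ := Multiset.mem_map.1 hd
      exact (hU11mem χ hχ).2)
    (by rw [Multiset.card_map, ← Finset.card_def]; omega)
    (by rw [Multiset.map_map]; simp only [Function.comp_def]; simp only [Finset.sum] at hbud; omega)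
    (by simp)
  have hu' : degOk11 (cc.map Prod.fst ++ blkDegs 2 R2) (flat u) = true := by
    simp only [degOk11, Bool.and_eq_true, beq_iff_eq, decide_eq_true_eq]
    refine ⟨H.dsum11 (by rw [append_map_eq hfil hum hsplit.2, hsplit.1]), ?_⟩
    rw [← dsq_eq hum] at hbud
    omega
  obtain ⟨p, hp, hpm⟩ := H.exists_col7 hG 2 hsV hs hR2m hR2n
  have hAc : ((cc ++ p : List Cell) : Multiset Cell) = A.val.map (cell s) :=
    append_map_eq hcc hpm hdA
  have h2 := List.all_eq_true.1 (List.all_eq_true.1 h' u (List.mem_filter.2 ⟨hu, hu'⟩)) p hp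
  have hb2 := sum_sq_le hG hs hAU
  rw [Finset.sum_union hdAU, Finset.sum_union hdA, ← nsq_eq hcc, ← nsq_eq hpm] at hb2
  rw [Bool.or_eq_true, decide_eq_true_eq] at h2
  rcases h2 with h2 | h2
  · omega
  obtain ⟨au, hau, haum⟩ := vals_sound (vs := valsAt (cent s)) (combos_runs hnd hu).1
    (B := cent s - 1 - nsq cc - nsq p) (U11.val.map (cell s)) (fun c hc => by
      obtain ⟨χ, hχ, rfl⟩ := Multiset.mem_map.1 hc
      exact mem_valsAt hC (okv_cell hG hs (hU11mem χ hχ).1))
    (by rw [Multiset.map_map, hum]; rfl)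
    (by rw [Multiset.map_map]
        simp only [Finset.sum] at hb2
        simp only [Function.comp_def, cell]
        omega)
  have h3 := List.all_eq_true.1 h2 au hau
  have hm : (((cc ++ p).filter (fun c => !(c.1 % 11 == 0)) ++ au : List Cell) : Multiset Cell) =
      H.L11.nt.val.map (cell s) := by
    rw [← hsplit.1]
    exact append_map_eq (filter_map_eq hAc fun c => !(c.1 % 11 == 0)) haum hsplit.2
  obtain ⟨hv, hq⟩ := H.column11 hG hs hm
  simp only [colOk11, hv, Bool.not_eq_true', Bool.and_eq_false_iff, Bool.or_eq_false_iff,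
    beq_eq_false_iff_ne, ne_eq, not_true, false_or] at h3
  exact hq.elim h3.1 h3.2

/-- A character of degree 23 exists. -/
theorem exists_degree_twentyThree : ∃ χ : IrrCharacter G, deg χ = 23 := by
  have : Fintype (IrrCharacter G) := Fintype.ofFinite _
  obtain ⟨s0, hs0⟩ := exists_prime_orderOf_dvd_card' (G := H.L7.V) 2
    (hp := ⟨Nat.prime_two⟩) (by rw [H.v7]; norm_num)
  set s : G := (s0 : G)
  have hsV : s ∈ H.L7.V := s0.2
  have hs : orderOf s = 2 := by rw [Subgroup.orderOf_coe, hs0]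
  have hCs := H.cent_seven hG hsV hs
  obtain ⟨R0, hR0, hR0m, hR0n, hR0d⟩ := H.exists_runs hG 0
  obtain ⟨R1, hR1, hR1m, hR1n, hR1d⟩ := H.exists_runs hG 1
  obtain ⟨R2, hR2, hR2m, hR2n, hR2d⟩ := H.exists_runs hG 2
  obtain ⟨p0, hp0, hp0m⟩ := H.exists_col7 hG 0 hsV hs hR0m hR0n
  obtain ⟨p1, hp1, hp1m⟩ := H.exists_col7 hG 1 hsV hs hR1m hR1n
  have hR0e : R0 = runs0 := by
    have h := List.all_eq_true.1 table_zero R0 hR0
    rw [Bool.or_eq_true, beq_iff_eq] at h
    refine h.resolve_right fun h' => ?_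
    have h2 := List.all_eq_true.1 h' _ hCs
    rw [List.isEmpty_iff] at h2
    rw [h2] at hp0
    exact List.not_mem_nil hp0
  subst hR0e
  have hl := table_lists
  simp only [listsChk, Bool.and_eq_true, beq_iff_eq] at hl
  obtain ⟨⟨⟨hl1, hlx⟩, hl2⟩, -⟩ := hl
  rw [hl1] at hR1
  have hd01 : Disjoint (H.nt7 0) (H.nt7 1) :=
    Finset.disjoint_left.2 fun χ a b => H.notMem_of_ne (by decide) a b
  have hd2 : Disjoint (H.nt7 0 ∪ H.nt7 1) (H.nt7 2) := Finset.disjoint_left.2 fun χ a b =>
    (Finset.mem_union.1 a).elim (fun a => H.notMem_of_ne (by decide) a b)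
      fun a => H.notMem_of_ne (by decide) a b
  obtain ⟨ex, U, hex, hU, hdU, hUd, ⟨pe, hpe, hpem⟩, hcase⟩ :
      ∃ (ex : List (List Run)) (U : Finset (IrrCharacter G)), ex ∈ listEx ∧ H.Part U ∧
        Disjoint (H.nt7 0 ∪ H.nt7 1) U ∧
        ((ex.flatMap (blkDegs 2) : List ℕ) : Multiset ℕ) = U.val.map deg ∧
        (∃ pe ∈ exCols (cent s) ex, (pe : Multiset Cell) = U.val.map (cell s)) ∧
        ((ex = [] ∧ U = ∅ ∧ R2 ∈ list2 ∧ ∀ χ ∈ H.nt7 2, 23 ∣ deg χ) ∨ ex = [R2]) := by
    by_cases ha : ((blkDegs 2 R2).all fun d => d % 23 == 0) = true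
    · have hdiv : ∀ χ ∈ H.nt7 2, 23 ∣ deg χ := fun χ hχ => Nat.dvd_of_mod_eq_zero
        (beq_iff_eq.1 (List.all_eq_true.1 ha _ (Multiset.mem_coe.1
          (hR2d ▸ Multiset.mem_map_of_mem deg hχ))))
      refine ⟨[], ∅, by rw [← hlx]; exact List.mem_cons_self, Or.inl ⟨rfl, hdiv⟩,
        Finset.disjoint_empty_right _, rfl, ⟨[], List.mem_singleton_self _, rfl⟩,
        Or.inl ⟨rfl, rfl, ?_, hdiv⟩⟩
      rw [← hl2]
      exact List.mem_filter.2 ⟨hR2, ha⟩
    · obtain ⟨b, hb, hbm⟩ := H.exists_col7 hG 2 hsV hs hR2m hR2n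
      refine ⟨[R2], H.nt7 2, ?_, Or.inr rfl, hd2, by simpa using hR2d, ⟨b, ?_, hbm⟩, Or.inr rfl⟩
      · rw [← hlx]
        exact List.mem_cons_of_mem _ (List.mem_map.2 ⟨R2, List.mem_filter.2 ⟨hR2, by simpa using ha⟩, rfl⟩)
      · simp only [exCols, List.mem_flatMap]
        exact ⟨b, hb, by simp⟩
  obtain ⟨t, hk, htm, htn⟩ := H.exists_key hG hU hR1 hex
    (append_map_eq (append_map_eq hR0d hR1d hd01) hUd hdU)
  have hcc : ((p0 ++ p1 ++ pe : List Cell) : Multiset Cell) = (H.t0 U).val.map (cell s) :=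
    append_map_eq (append_map_eq hp0m hp1m hd01) hpem hdU
  obtain ⟨hle, acc, hacc, hok, hseen⟩ := H.column23 hU hG hs htm htn hcc
  have h := List.all_eq_true.1 (table_keys hCs) _ hk
  simp only [chkKey, List.all_eq_true, List.mem_singleton, forall_eq, Bool.or_eq_true,
    decide_eq_true_eq] at h
  have h' := (h p1 hp1 pe hpe p0 hp0).resolve_left (by omega)
  have h'' := h' acc hacc
  rw [hok] at h''
  simp only [Bool.not_true, Bool.false_eq_true, false_or] at h''
  rcases h'' with hk1 | hk2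
  · exfalso
    simp only [squareKill, Bool.and_eq_true, beq_iff_eq, List.all_eq_true, Bool.or_eq_true,
      bne_iff_ne, ne_eq, Bool.not_eq_true'] at hk1
    obtain ⟨e1, hk1⟩ := hk1
    have h1 : (H.nt7 1).val.map deg = ([22, 230, 253, 45, 45] : List ℕ) := by
      rw [← hR1d, e1, runs1_degs]
    have h0 : ∀ ψ ∈ H.nt7 0, 253 < deg ψ := fun ψ hψ =>
      runs0_degs _ (Multiset.mem_coe.1 (hR0d ▸ Multiset.mem_map_of_mem deg hψ))
    have h2 : (∀ ψ ∈ H.nt7 2, 23 ∣ deg ψ) ∨
        (H.nt7 2).val.map deg = ([264, 264, 506, 22, 22] : List ℕ) := by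
      rcases hcase with ⟨-, -, -, hdiv⟩ | hR
      · exact Or.inl hdiv
      · refine Or.inr ?_
        have hkey := List.all_eq_true.1 key_runs1 _ hk
        simp only [e1, hR, bne_self_eq_false, Bool.false_or, List.all_cons, List.all_nil,
          Bool.and_true, beq_iff_eq] at hkey
        rw [← hR2d, hkey]
    obtain ⟨χ, hχ, hd⟩ : ∃ χ ∈ H.nt7 1, deg χ = 22 := by
      have : 22 ∈ (H.nt7 1).val.map deg := by rw [h1]; simp
      simpa using Multiset.mem_map.1 this
    obtain ⟨ψ, hψne, hψd, hψv⟩ := H.square_constituent hG h1 h0 h2 hχ hd hs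
    have hmem : ψ ∈ H.seen U := by
      refine Finset.mem_union_right _ (Finset.mem_union_left _ (Finset.mem_filter.2 ⟨?_, ?_⟩))
      · exact H.mem_xs23.2 ⟨hψne, by rw [hψd]; decide⟩
      · rw [hψd]; norm_num
    have hc : cell s χ ∈ p1 := Multiset.mem_coe.1 (hp1m ▸ Multiset.mem_map_of_mem _ hχ)
    have hψc : cell s ψ ∈ cellsSoFar (p0 ++ p1 ++ pe) acc :=
      Multiset.mem_coe.1 (hseen ▸ Multiset.mem_map_of_mem _ hmem)
    rcases hk1 _ hc with hn | hn
    · exact hn hd
    · have e : ((252, ((cell s χ).2 * (cell s χ).2 + 22) / 2 - 1) : Cell) = cell s ψ := by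
        refine Prod.ext hψd.symm ?_
        show (ival s χ * ival s χ + 22) / 2 - 1 = ival s ψ
        omega
      rw [e, List.contains_iff_mem.2 hψc] at hn
      exact Bool.noConfusion hn
  · rw [Bool.and_eq_true] at hk2
    obtain ⟨hexE, hlast⟩ := hk2
    rcases hcase with ⟨-, hUe, hR2l, hdiv⟩ | hR
    · subst hUe
      have e2 := H.last hG hsV hs hdiv hR2l hR2m hR2n hR2d hseen hlast
      rw [e2] at hR2d
      obtain ⟨χ, -, hχ⟩ := Multiset.mem_map.1 (hR2d ▸ Multiset.mem_coe.2 runs2_degs)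
      exact ⟨χ, hχ⟩
    · rw [hR] at hexE
      simp at hexE

end Shaped

end CfsgLib.Blocks.Order244823040
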