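import Cfsg.Agent.Lib.Blocks.Order244823040.SevenSearch

/-!
# The principal block for 23 seen from the three blocks at the prime 7
-/

set_option autoImplicit false

namespace CfsgLib.Blocks.Order244823040

open Cfsg CfsgLib CfsgLib.Char CfsgLib.CharIntegral CfsgLib.Blocks.PrimeSylow
open CfsgLib.Blocks.Order95040 (deg cent deg_cast deg_trivChar)
open CfsgLib.Blocks.Order10200960 (Cell Run combos vals flat combos_sound vals_sound combos_runs)
open scoped Classical ComplexConjugate

variable {G : Type*} [Group G] [Fintype G]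

namespace Shaped

open Local (ival_spec sum_sq_le sum_deg_le okv_cell)

variable (H : Shaped G)

/-- The non-exceptional members for 23 of degree divisible by 7. -/
noncomputable def xt : Finset (IrrCharacter G) := H.L23.xs.filter fun χ => 7 ∣ deg χ

/-- The nontrivial members of the blocks at 7 that may meet the principal block for 23. -/
noncomputable def t0 (U : Finset (IrrCharacter G)) : Finset (IrrCharacter G) :=
  H.nt7 0 ∪ H.nt7 1 ∪ U

/-- These and the principal block for 23. -/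
noncomputable def seen (U : Finset (IrrCharacter G)) : Finset (IrrCharacter G) :=
  H.t0 U ∪ (H.xt ∪ H.L23.data.Y)

/-- The part of the third block. -/
def Part (U : Finset (IrrCharacter G)) : Prop :=
  (U = ∅ ∧ ∀ χ ∈ H.nt7 2, 23 ∣ deg χ) ∨ U = H.nt7 2

theorem mem_xs23 {χ : IrrCharacter G} :
    χ ∈ H.L23.xs ↔ χ ≠ trivChar G ∧ isX23 (deg χ) = true := by
  simp only [isX23, Bool.or_eq_true, beq_iff_eq]
  constructor
  · intro h
    obtain ⟨hne, hX⟩ := Finset.mem_erase.1 h
    exact ⟨hne, (H.L23.εX_eq (by norm_num) hX).2⟩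
  · rintro ⟨hne, h⟩
    rcases H.L23.residue (by norm_num)
      ((H.L23.mem_nt_iff H.v23).2 ⟨hne, by omega⟩) with ⟨hx, -⟩ | ⟨-, hy⟩
    · exact hx
    · rw [H.e23] at hy
      omega

theorem mem_Y23 {χ : IrrCharacter G} :
    χ ∈ H.L23.data.Y ↔ χ ≠ trivChar G ∧ isY23 (deg χ) = true := by
  simp only [isY23, Bool.or_eq_true, beq_iff_eq]
  constructor
  · intro h
    refine ⟨fun e => H.L23.triv_notMem_Y (e ▸ h), ?_⟩
    rcases H.L23.residue (by norm_num)
      (show χ ∈ H.L23.nt by rw [H.L23.nt_eq]; exact Finset.mem_union_right _ h) with ⟨hx, -⟩ | ⟨-, hy⟩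
    · exact absurd h (Finset.disjoint_left.1 H.L23.disjoint_xs hx)
    · rw [H.e23] at hy
      omega
  · rintro ⟨hne, h⟩
    rcases H.L23.residue (by norm_num)
      ((H.L23.mem_nt_iff H.v23).2 ⟨hne, by omega⟩) with ⟨-, hx⟩ | ⟨hy, -⟩
    · omega
    · exact hy

theorem not_dvd_X {χ : IrrCharacter G} (h : χ ∈ H.L23.xs) : ¬ 23 ∣ deg χ := by
  have h' := (H.mem_xs23.1 h).2
  simp only [isX23, Bool.or_eq_true, beq_iff_eq] at h'
  omega

theorem not_dvd_Y {χ : IrrCharacter G} (h : χ ∈ H.L23.data.Y) : ¬ 23 ∣ deg χ := by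
  have h' := (H.mem_Y23.1 h).2
  simp only [isY23, Bool.or_eq_true, beq_iff_eq] at h'
  omega

theorem card_Y23 : H.L23.data.Y.card = 2 := by
  rw [H.L23.cardY_eq (by norm_num), H.e23]

theorem card_xs23 : H.L23.xs.card = 10 := by
  rw [H.L23.card_xs, H.e23]

variable {U : Finset (IrrCharacter G)} (hU : H.Part U)
include hU

theorem mem_t0 {χ : IrrCharacter G} (h : χ ∈ H.t0 U) : χ ≠ trivChar G ∧ ¬ 7 ∣ deg χ := by
  rcases Finset.mem_union.1 h with h | h
  · rcases Finset.mem_union.1 h with h | h <;> exact H.mem_nt7 h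
  · rcases hU with ⟨e, -⟩ | e
    · rw [e] at h; exact absurd h (Finset.notMem_empty _)
    · rw [e] at h; exact H.mem_nt7 h

theorem t0_of {χ : IrrCharacter G} (hne : χ ≠ trivChar G) (h7 : ¬ 7 ∣ deg χ) (h23 : ¬ 23 ∣ deg χ) :
    χ ∈ H.t0 U := by
  obtain ⟨i, hi⟩ := H.exists_block hne h7
  obtain rfl | rfl | rfl : i = 0 ∨ i = 1 ∨ i = 2 :=
    (by decide : ∀ j : Fin 3, j = 0 ∨ j = 1 ∨ j = 2) i
  · exact Finset.mem_union_left _ (Finset.mem_union_left _ hi)
  · exact Finset.mem_union_left _ (Finset.mem_union_right _ hi)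
  · rcases hU with ⟨-, h⟩ | e
    · exact absurd (h χ hi) h23
    · exact Finset.mem_union_right _ (e ▸ hi)

theorem disjoint_t0_xt : Disjoint (H.t0 U) H.xt :=
  Finset.disjoint_left.2 fun _ h h' => (H.mem_t0 hU h).2 (Finset.mem_filter.1 h').2

theorem xs_split :
    (H.t0 U).filter (fun χ => isX23 (deg χ) = true) ∪ H.xt = H.L23.xs ∧
      Disjoint ((H.t0 U).filter fun χ => isX23 (deg χ) = true) H.xt := by
  refine ⟨?_, Finset.disjoint_of_subset_left (Finset.filter_subset _ _) (H.disjoint_t0_xt hU)⟩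
  ext χ
  simp only [Finset.mem_union, Finset.mem_filter, xt]
  constructor
  · rintro (⟨h1, h2⟩ | ⟨h, -⟩)
    · exact H.mem_xs23.2 ⟨(H.mem_t0 hU h1).1, h2⟩
    · exact h
  · intro h
    by_cases h7 : 7 ∣ deg χ
    · exact Or.inr ⟨h, h7⟩
    · exact Or.inl ⟨H.t0_of hU (H.mem_xs23.1 h).1 h7 (H.not_dvd_X h), (H.mem_xs23.1 h).2⟩

theorem Y_cases {θ : IrrCharacter G} (hθ : θ ∈ H.L23.data.Y) :
    (7 ∣ deg θ ∧ (H.t0 U).filter (fun χ => isY23 (deg χ) = true) = ∅ ∧
      Disjoint (H.t0 U ∪ H.xt) H.L23.data.Y) ∨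
    ((H.t0 U).filter (fun χ => isY23 (deg χ) = true) = H.L23.data.Y ∧
      H.seen U = H.t0 U ∪ H.xt) := by
  have := Fact.mk (show Nat.Prime 23 by norm_num)
  by_cases h7 : 7 ∣ deg θ
  · refine Or.inl ⟨h7, ?_, ?_⟩
    · refine Finset.filter_eq_empty_iff.2 fun χ hχ hy => (H.mem_t0 hU hχ).2 ?_
      rwa [H.L23.deg_Y hθ (H.mem_Y23.2 ⟨(H.mem_t0 hU hχ).1, hy⟩)]
    · refine Finset.disjoint_left.2 fun χ hχ hy => ?_
      rcases Finset.mem_union.1 hχ with h | h
      · exact (H.mem_t0 hU h).2 (by rwa [H.L23.deg_Y hθ hy])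
      · exact Finset.disjoint_left.1 H.L23.disjoint_xs (Finset.mem_filter.1 h).1 hy
  · have hsub : ∀ χ ∈ H.L23.data.Y, χ ∈ H.t0 U := fun χ hχ =>
      H.t0_of hU (H.mem_Y23.1 hχ).1 (by rwa [H.L23.deg_Y hθ hχ]) (H.not_dvd_Y hχ)
    refine Or.inr ⟨?_, ?_⟩
    · ext χ
      simp only [Finset.mem_filter]
      exact ⟨fun h => H.mem_Y23.2 ⟨(H.mem_t0 hU h.1).1, h.2⟩,
        fun h => ⟨hsub χ h, (H.mem_Y23.1 h).2⟩⟩
    · ext χ
      simp only [seen, Finset.mem_union]
      exact ⟨fun h => h.elim Or.inl fun h => h.elim Or.inr fun h => Or.inl (hsub χ h),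
        fun h => h.elim Or.inl fun h => Or.inr (Or.inl h)⟩

theorem triv_notMem_seen : trivChar G ∉ H.seen U := fun h => by
  rcases Finset.mem_union.1 h with h | h
  · exact (H.mem_t0 hU h).1 rfl
  · rcases Finset.mem_union.1 h with h | h
    · exact (H.mem_xs23.1 (Finset.mem_filter.1 h).1).1 rfl
    · exact H.L23.triv_notMem_Y h

variable [IsSimpleGroup G] (hG : Nat.card G = ord)
include hG

/-- The degrees of the principal block for 23 divisible by 7 are listed. -/
theorem exists_tdegs {T : List ℕ} (hT : (T : Multiset ℕ) = (H.t0 U).val.map deg) :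
    ∃ t ∈ sols23 T, (flat t : Multiset ℕ) = H.xt.val.map deg ∧ (t.map Prod.fst).Nodup := by
  have := Fact.mk (show Nat.Prime 23 by norm_num)
  obtain ⟨θ, hθ⟩ := H.L23.exists_theta
  have hfX := filter_map_eq hT isX23
  have hfY := filter_map_eq hT isY23
  obtain ⟨hun, hdX⟩ := H.xs_split hU
  have hlenX : (T.filter isX23).length + H.xt.card = 10 := by
    rw [card_eq_of_map hfX, ← Finset.card_union_of_disjoint hdX, hun, H.card_xs23]
  have hseen := H.triv_notMem_seen hU
  have hbud := sum_deg_le hG (S := H.t0 U ∪ H.xt) fun h => hseen (by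
    simp only [seen, Finset.mem_union] at h ⊢; tauto)
  rw [Finset.sum_union (H.disjoint_t0_xt hU), ← dsq_eq hT] at hbud
  have hnd : tPool.Nodup := by decide
  obtain ⟨t, ht, htm⟩ := combos_sound (mn := fun _ => 0) hnd
    (k := 10 - (T.filter isX23).length) (B := ord - 1 - dsq T) (B' := 0) (H.xt.val.map deg)
    (fun d hd => by
      obtain ⟨χ, hχ, rfl⟩ := Multiset.mem_map.1 hd
      obtain ⟨hx, h7⟩ := Finset.mem_filter.1 hχ
      obtain ⟨hne, hx'⟩ := H.mem_xs23.1 hx
      exact ((H.pools hG hne).2 h7).1 hx')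
    (by rw [Multiset.card_map, ← Finset.card_def]; omega)
    (by rw [Multiset.map_map]; simp only [Function.comp_def]; simp only [Finset.sum] at hbud; omega)
    (by simp)
  have hlist : ((T.filter isX23 ++ flat t : List ℕ) : Multiset ℕ) = H.L23.xs.val.map deg := by
    rw [append_map_eq hfX htm hdX, hun]
  obtain ⟨hS, hε, hy⟩ := H.L23.dsum_xs (by norm_num) hθ hlist
  have hcong : ((deg θ : ℤ) - H.L23.data.ε * 11) % 23 = 0 := by
    have h := H.L23.data.modY θ hθ
    rw [show ((H.L23.e : ℕ) : ℤ) = 11 by exact_mod_cast H.e23] at h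
    exact Int.emod_eq_zero_of_dvd (Int.modEq_iff_dvd.1 h.symm)
  have hD : dsum 23 (T.filter isX23) + ((flat t).map fun d => sgn 23 d * (d : ℤ)).sum =
      dsum 23 (T.filter isX23 ++ flat t) := by
    simp [dsum, add_assoc]
  refine ⟨t, ?_, htm, (combos_runs hnd ht).1⟩
  have hshape : shapeOk23 T = true := by
    simp only [shapeOk23, Bool.and_eq_true, decide_eq_true_eq]
    refine ⟨⟨by omega, ?_⟩, by omega⟩
    rcases H.Y_cases hU hθ with ⟨-, he, -⟩ | ⟨he, -⟩ <;> rw [he] at hfY
    · have hn0 : T.filter isY23 = [] :=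
        List.eq_nil_of_length_eq_zero (by rw [card_eq_of_map hfY, Finset.card_empty])
      rw [hn0]
    · have hlen : (T.filter isY23).length = 2 := by rw [card_eq_of_map hfY, H.card_Y23]
      have hrep : T.filter isY23 = List.replicate 2 (deg θ) :=
        List.eq_replicate_iff.2 ⟨hlen, fun b hb => by
          obtain ⟨χ, hχ, rfl⟩ := Multiset.mem_map.1 (hfY ▸ Multiset.mem_coe.2 hb)
          exact H.L23.deg_Y hθ hχ⟩
      simp [hrep, List.replicate]
  rw [sols23, if_pos hshape]
  refine List.mem_filter.2 ⟨ht, ?_⟩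
  simp only [degOk23, hD, hy, hε, Bool.and_eq_true, beq_iff_eq]
  refine ⟨?_, hcong⟩
  rcases H.Y_cases hU hθ with ⟨h7, he, hdY⟩ | ⟨he, -⟩ <;> rw [he] at hfY
  · have hn0 : T.filter isY23 = [] :=
      List.eq_nil_of_length_eq_zero (by rw [card_eq_of_map hfY, Finset.card_empty])
    rw [hn0]
    simp only [Bool.and_eq_true, decide_eq_true_eq, List.contains_iff_mem]
    obtain ⟨hne, hy'⟩ := H.mem_Y23.1 hθ
    refine ⟨((H.pools hG hne).2 h7).2.1 hy', ?_⟩
    have hb2 := sum_deg_le hG (S := (H.t0 U ∪ H.xt) ∪ H.L23.data.Y) fun h => hseen (by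
      simp only [seen, Finset.mem_union] at h ⊢; tauto)
    rw [Finset.sum_union hdY, Finset.sum_union (H.disjoint_t0_xt hU), ← dsq_eq hT,
      show ∑ χ ∈ H.L23.data.Y, deg χ * deg χ = 2 * (deg θ * deg θ) by
        rw [Finset.sum_congr rfl fun χ hχ => by rw [H.L23.deg_Y hθ hχ], Finset.sum_const,
          H.card_Y23, smul_eq_mul],
      ← dsq_eq htm] at hb2
    omega
  · have hlen : (T.filter isY23).length = 2 := by rw [card_eq_of_map hfY, H.card_Y23]
    have hrep : T.filter isY23 = List.replicate 2 (deg θ) :=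
      List.eq_replicate_iff.2 ⟨hlen, fun b hb => by
        obtain ⟨χ, hχ, rfl⟩ := Multiset.mem_map.1 (hfY ▸ Multiset.mem_coe.2 hb)
        exact H.L23.deg_Y hθ hχ⟩
    rw [← dsq_eq htm] at hbud
    simp only [hrep, List.replicate, Bool.and_eq_true, beq_iff_eq, decide_eq_true_eq]
    exact ⟨⟨trivial, trivial⟩, by omega⟩

/-- The column of the principal block for 23 at an involution is listed. -/
theorem column23 [Fintype (IrrCharacter G)] {s : G} (hs : orderOf s = 2) {t : List Run}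
    (htm : (flat t : Multiset ℕ) = H.xt.val.map deg) (hnd : (t.map Prod.fst).Nodup)
    {cc : List Cell} (hcc : (cc : Multiset Cell) = (H.t0 U).val.map (cell s)) :
    1 + nsq cc ≤ cent s ∧ ∃ acc ∈ vals (valsAt (cent s)) t (cent s - 1 - nsq cc),
      colOk23 (cent s) cc acc = true ∧
        (cellsSoFar cc acc : Multiset Cell) = (H.seen U).val.map (cell s) := by
  have := Fact.mk (show Nat.Prime 23 by norm_num)
  obtain ⟨θ, hθ⟩ := H.L23.exists_theta
  have hseen := H.triv_notMem_seen hU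
  have hC := cent_le hG (fun e => by simp [e] at hs : s ≠ 1)
  have hbud := sum_sq_le hG hs (S := H.t0 U ∪ H.xt) fun h => hseen (by
    simp only [seen, Finset.mem_union] at h ⊢; tauto)
  rw [Finset.sum_union (H.disjoint_t0_xt hU), ← nsq_eq hcc] at hbud
  obtain ⟨acc, hacc, haccm⟩ := vals_sound (vs := valsAt (cent s)) hnd
    (B := cent s - 1 - nsq cc) (H.xt.val.map (cell s)) (fun c hc => by
      obtain ⟨χ, hχ, rfl⟩ := Multiset.mem_map.1 hc
      exact mem_valsAt hC (okv_cell hG hs (H.mem_xs23.1 (Finset.mem_filter.1 hχ).1).1))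
    (by rw [Multiset.map_map, htm]; rfl)
    (by rw [Multiset.map_map]
        simp only [Finset.sum] at hbud
        simp only [Function.comp_def, cell]
        omega)
  obtain ⟨hun, hdX⟩ := H.xs_split hU
  have hn : ((cc.filter (fun c => isX23 c.1) ++ acc : List Cell) : Multiset Cell) =
      H.L23.xs.val.map (cell s) := by
    rw [← hun]
    exact append_map_eq (filter_map_eq hcc fun c => isX23 c.1) haccm hdX
  have hee : ((cc.filter (fun c => isY23 c.1) : List Cell) : Multiset Cell) =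
      ((H.t0 U).filter fun χ => isY23 (deg χ) = true).val.map (cell s) :=
    filter_map_eq hcc fun c => isY23 c.1
  obtain ⟨hS, hε, hy⟩ := H.L23.dsum_xs (by norm_num) hθ (map_fst hn)
  have hw : wval23 (cc.filter (fun c => isX23 c.1) ++ acc) = ival s θ := by
    rw [wval23, hε, vsum_eq 23 hn, ← H.L23.val_sum hG (by norm_num) hs hθ, ← mul_assoc]
    rcases H.L23.data.sgnY with h | h <;> simp [h]
  have hyc : ycell23 (cc.filter (fun c => isX23 c.1) ++ acc) = cell s θ := Prod.ext hy hw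
  have hθne := (H.mem_Y23.1 hθ).1
  have hsame : ∀ χ ∈ H.L23.data.Y, cell s χ = cell s θ := fun χ hχ =>
    H.L23.sameY_val hG (by norm_num) hs hθ hχ
  refine ⟨by omega, acc, hacc, ?_, ?_⟩
  · simp only [colOk23, hyc, hε, Bool.and_eq_true, decide_eq_true_eq, beq_iff_eq,
      List.all_eq_true]
    refine ⟨⟨⟨okv_cell hG hs hθne, fun c hc => ?_⟩, ?_⟩, ?_⟩
    · obtain ⟨χ, hχ, rfl⟩ := Multiset.mem_map.1 (hee ▸ Multiset.mem_coe.2 hc)
      obtain ⟨hχ1, hχ2⟩ := Finset.mem_filter.1 hχ
      rw [hsame χ (H.mem_Y23.2 ⟨(H.mem_t0 hU hχ1).1, hχ2⟩)]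
    · rw [nsq_eq haccm]
      simp only [isEmpty_iff_map hee]
      split_ifs with h0
      · rcases H.Y_cases hU hθ with ⟨-, -, hdY⟩ | ⟨he, -⟩
        · have hb2 := sum_sq_le hG hs (S := (H.t0 U ∪ H.xt) ∪ H.L23.data.Y) fun h => hseen (by
            simp only [seen, Finset.mem_union] at h ⊢; tauto)
          rw [Finset.sum_union hdY, Finset.sum_union (H.disjoint_t0_xt hU), ← nsq_eq hcc,
            H.L23.sum_sq_Y hG (by norm_num) hs hθ, H.e23] at hb2
          show 1 + nsq cc + _ + 2 * ((ival s θ).natAbs * (ival s θ).natAbs) ≤ _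
          omega
        · rw [he] at h0
          rw [h0] at hθ
          exact absurd hθ (Finset.notMem_empty _)
      · omega
    · rw [qsum_eq 23 hn]
      simp only [cell]
      obtain ⟨j, -, hj, he⟩ := H.L23.pairs_int hG (by norm_num) hs hθ
      rw [hj (by rw [H.e23]; decide), H.v23, Nat.cast_zero, Nat.cast_one, mul_zero, zero_mul,
        zero_mul, one_mul, mul_eq_zero, mul_eq_zero] at he
      have hk : ((ord / cent s : ℕ) : ℤ) ≠ 0 := by
        exact_mod_cast (Nat.div_pos (Nat.le_of_dvd (by rw [ord]; norm_num) (cent_dvd hG s))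
          Nat.card_pos).ne'
      exact (he.resolve_left fun h => hk (h.elim id id))
  · unfold cellsSoFar
    rcases H.Y_cases hU hθ with ⟨-, he, hdY⟩ | ⟨he, hs'⟩
    · rw [if_pos ((isEmpty_iff_map hee).2 he), hyc, seen, ← Finset.union_assoc]
      exact append_map_eq (append_map_eq hcc haccm (H.disjoint_t0_xt hU))
        (pair_map_eq H.card_Y23 hsame) hdY
    · rw [if_neg (fun h => by
        have h' := (isEmpty_iff_map hee).1 h
        rw [he] at h'
        exact absurd (h' ▸ hθ) (Finset.notMem_empty _)), List.append_nil, hs']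
      exact append_map_eq hcc haccm (H.disjoint_t0_xt hU)

end Shaped

end CfsgLib.Blocks.Order244823040
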