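import Cfsg.Agent.Lib.Blocks.Order244823040.Columns
import Cfsg.Agent.Lib.Blocks.Order244823040.SevenBlocks
import Cfsg.Agent.Lib.Blocks.Order244823040.SevenTables

/-!
# The degrees and columns at the prime 7 are found by the searches
-/

set_option autoImplicit false

namespace CfsgLib.Blocks.Order244823040

open Cfsg CfsgLib CfsgLib.Char CfsgLib.CharIntegral CfsgLib.Blocks.PrimeSylow
open CfsgLib.Blocks.Order95040 (deg cent deg_cast deg_trivChar)
open CfsgLib.Blocks.Order10200960 (Cell Run combos pick vals flat combos_sound vals_sound combos_runs)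
open scoped Classical ComplexConjugate

theorem etaDeg_eq : ∀ i, etaDeg i = blkDeg i := by decide

theorem etaVal_eq : ∀ i, etaVal i = blkVal i := by decide

theorem blkDeg_cases : ∀ i, blkDeg i = 1 ∨ blkDeg i = 2 := by decide

variable {G : Type*} [Group G] [Fintype G]

section Lists

variable {α : Type*} {f : IrrCharacter G → α} {T U : Finset (IrrCharacter G)}

theorem sum_map_eq {β : Type*} [AddCommMonoid β] (g : α → β) {l : List α}
    (h : (l : Multiset α) = T.val.map f) : (l.map g).sum = ∑ χ ∈ T, g (f χ) := by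
  rw [← Multiset.sum_coe, ← Multiset.map_coe, h, Multiset.map_map]
  rfl

theorem filter_map_eq {l : List α} (h : (l : Multiset α) = T.val.map f) (P : α → Bool) :
    ((l.filter P : List α) : Multiset α) = (T.filter fun χ => P (f χ) = true).val.map f := by
  rw [show l.filter P = l.filter (fun b => decide (P b = true)) from
      List.filter_congr fun b _ => by simp, ← Multiset.filter_coe, h, Multiset.filter_map,
    Finset.filter_val]
  rfl

theorem append_map_eq {l m : List α} (h1 : (l : Multiset α) = T.val.map f)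
    (h2 : (m : Multiset α) = U.val.map f) (hd : Disjoint T U) :
    ((l ++ m : List α) : Multiset α) = (T ∪ U).val.map f := by
  rw [← Multiset.coe_add, h1, h2, ← Finset.disjUnion_eq_union _ _ hd, Finset.disjUnion_val,
    Multiset.map_add]

theorem pair_map_eq (h : T.card = 2) {a : α} (ha : ∀ χ ∈ T, f χ = a) :
    (([a, a] : List α) : Multiset α) = T.val.map f := by
  rw [Multiset.map_congr rfl fun χ hχ => ha χ hχ, Multiset.map_const', ← Finset.card_def, h]
  rfl

theorem card_eq_of_map {l : List α} (h : (l : Multiset α) = T.val.map f) : l.length = T.card := by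
  have := congrArg Multiset.card h
  rwa [Multiset.coe_card, Multiset.card_map] at this

theorem isEmpty_iff_map {l : List α} (h : (l : Multiset α) = T.val.map f) :
    l.isEmpty = true ↔ T = ∅ := by
  rw [List.isEmpty_iff, ← Finset.card_eq_zero, ← card_eq_of_map h, List.length_eq_zero_iff]

end Lists

/-- The hypotheses on the local data at 23, 11 and 7. -/
structure Shaped (G : Type*) [Group G] [Fintype G] where
  L23 : Local G 23
  L11 : Local G 11
  L7 : Local G 7
  e23 : L23.e = 11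
  v23 : Nat.card L23.V = 1
  e11 : L11.e = 10
  v11 : Nat.card L11.V = 1
  e7 : L7.e = 3
  v7 : Nat.card L7.V = 6
  nc7 : ¬ IsCyclic L7.V
  S : Seven L7

namespace Shaped

variable (H : Shaped G)

/-- The nontrivial members of a block. -/
noncomputable def nt7 (i : Fin 3) : Finset (IrrCharacter G) := (H.S.blk i).all.erase (trivChar G)

/-- The non-exceptional members other than the trivial one. -/
noncomputable def xs7 (i : Fin 3) : Finset (IrrCharacter G) := (H.S.blk i).X.erase (trivChar G)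

theorem triv_notMem_Y7 (i : Fin 3) : trivChar G ∉ (H.S.blk i).Y := fun h => by
  by_cases hi : i = 0
  · subst hi
    exact Finset.disjoint_left.1 (H.S.blk 0).disj H.S.triv.1 h
  · exact Finset.disjoint_left.1 (H.S.disj i 0 hi) (Finset.mem_union_right _ h)
      (Finset.mem_union_left _ H.S.triv.1)

theorem nt7_eq (i : Fin 3) : H.nt7 i = H.xs7 i ∪ (H.S.blk i).Y := by
  rw [nt7, xs7, EtaBlock.all, Finset.erase_union_distrib,
    Finset.erase_eq_of_notMem (H.triv_notMem_Y7 i)]

theorem disjoint_xs7 (i : Fin 3) : Disjoint (H.xs7 i) (H.S.blk i).Y :=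
  Finset.disjoint_of_subset_left (Finset.erase_subset _ _) (H.S.blk i).disj

theorem mem_nt7 {i : Fin 3} {χ : IrrCharacter G} (h : χ ∈ H.nt7 i) :
    χ ≠ trivChar G ∧ ¬ 7 ∣ deg χ :=
  ⟨Finset.ne_of_mem_erase h, H.S.not_dvd_of_mem i (Finset.mem_of_mem_erase h)⟩

theorem card_xs7 (i : Fin 3) : (H.xs7 i).card = 3 - blkTriv i := by
  fin_cases i
  · show (H.xs7 0).card = _
    rw [xs7, Finset.card_erase_of_mem H.S.triv.1, (H.S.blk 0).cardX]; rfl
  all_goals
    rw [xs7, Finset.erase_eq_of_notMem (fun h => Finset.disjoint_left.1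
      (H.S.disj _ 0 (by decide)) (Finset.mem_union_left _ h) (Finset.mem_union_left _ H.S.triv.1)),
      (H.S.blk _).cardX]
    rfl

theorem cardY7 (i : Fin 3) : (H.S.blk i).Y.card = 2 := (H.S.blk i).cardY

theorem δ_eq (i : Fin 3) {χ : IrrCharacter G} (hχ : χ ∈ (H.S.blk i).X) :
    (H.S.blk i).δ χ = sg7 i (deg χ) ∧ (deg χ % 7 = blkDeg i ∨ deg χ % 7 = 7 - blkDeg i) := by
  have h := H.S.deg_mod_X i hχ
  rw [etaDeg_eq] at h
  unfold Int.ModEq at h
  unfold sg7
  rcases (H.S.blk i).sgnX χ hχ with e | e <;> rcases blkDeg_cases i with a | a <;>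
    rw [e, a] at h <;> rw [e, a] <;>
    refine ⟨?_, by omega⟩ <;> split_ifs with hb <;> (try rw [beq_iff_eq] at hb) <;> omega

theorem sum_X7 (i : Fin 3) {β : Type*} [CommRing β] (f : IrrCharacter G → β) :
    ∑ χ ∈ (H.S.blk i).X, ((H.S.blk i).δ χ : β) * f χ =
      (blkTriv i : β) * f (trivChar G) + ∑ χ ∈ H.xs7 i, (sg7 i (deg χ) : β) * f χ := by
  have hrest : ∑ χ ∈ H.xs7 i, ((H.S.blk i).δ χ : β) * f χ =
      ∑ χ ∈ H.xs7 i, (sg7 i (deg χ) : β) * f χ :=
    Finset.sum_congr rfl fun χ hχ => by rw [(H.δ_eq i (Finset.mem_of_mem_erase hχ)).1]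
  by_cases hi : i = 0
  · subst hi
    rw [← Finset.add_sum_erase _ _ H.S.triv.1, H.S.triv.2, Int.cast_one, one_mul, ← hrest]
    simp [blkTriv, xs7]
  · have hn : trivChar G ∉ (H.S.blk i).X := fun h => Finset.disjoint_left.1 (H.S.disj i 0 hi)
      (Finset.mem_union_left _ h) (Finset.mem_union_left _ H.S.triv.1)
    have h0 : blkTriv i = 0 :=
      (by decide : ∀ j : Fin 3, j ≠ 0 → blkTriv j = 0) i hi
    rw [← hrest, h0, Nat.cast_zero, zero_mul, zero_add, xs7, Finset.erase_eq_of_notMem hn]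

theorem dsum7_eq (i : Fin 3) {θ : IrrCharacter G} (hθ : θ ∈ (H.S.blk i).Y) {l : List ℕ}
    (hl : (l : Multiset ℕ) = (H.xs7 i).val.map deg) :
    dsum7 i l = (H.S.blk i).ε * (deg θ : ℤ) ∧ eps (dsum7 i l) = (H.S.blk i).ε ∧
      (dsum7 i l).natAbs = deg θ := by
  have h1 : dsum7 i l = (H.S.blk i).ε * (deg θ : ℤ) := by
    rw [(H.S.blk i).deg_rel (by norm_num) hθ]
    have h := H.sum_X7 i fun χ => (deg χ : ℤ)
    simp only [Int.cast_id, deg_trivChar, Nat.cast_one, mul_one] at h
    rw [dsum7, sum_map_eq _ hl, h]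
  obtain ⟨e1, e2⟩ := eps_of_mul (H.S.blk i).sgnY (charDegree_pos θ : 0 < deg θ)
  rw [h1]
  exact ⟨rfl, e1, e2⟩

theorem notMem_of_ne {i j : Fin 3} (hij : i ≠ j) {χ : IrrCharacter G} (h : χ ∈ H.nt7 i) :
    χ ∉ H.nt7 j := fun h' => Finset.disjoint_left.1 (H.S.disj i j hij) (Finset.mem_of_mem_erase h)
      (Finset.mem_of_mem_erase h')

theorem exists_block {χ : IrrCharacter G} (hne : χ ≠ trivChar G) (hd : ¬ 7 ∣ deg χ) :
    ∃ i, χ ∈ H.nt7 i :=
  let ⟨i, hi⟩ := (H.S.cover χ).1 hd
  ⟨i, Finset.mem_erase.2 ⟨hne, hi⟩⟩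

variable [IsSimpleGroup G] (hG : Nat.card G = ord)
include H hG

open Local (ival_spec sum_sq_le sum_deg_le okv_cell deg_mem)

/-- The degrees allowed by the principal blocks for 23 and 11. -/
theorem deg_mem_degD {χ : IrrCharacter G} (hne : χ ≠ trivChar G) : deg χ ∈ degD := by
  refine List.mem_filter.2 ⟨deg_mem hG hne, ?_⟩
  simp only [Bool.and_eq_true, List.contains_iff_mem, List.mem_cons, List.not_mem_nil, or_false]
  refine ⟨?_, ?_⟩
  · by_cases hd : 23 ∣ deg χ
    · exact Or.inl (Nat.mod_eq_zero_of_dvd hd)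
    · rcases H.L23.residue (by norm_num) ((H.L23.mem_nt_iff H.v23).2 ⟨hne, hd⟩) with
        ⟨-, h⟩ | ⟨-, h⟩
      · omega
      · rw [H.e23] at h; omega
  · by_cases hd : 11 ∣ deg χ
    · exact Or.inl (Nat.mod_eq_zero_of_dvd hd)
    · rcases H.L11.residue (by norm_num) ((H.L11.mem_nt_iff H.v11).2 ⟨hne, hd⟩) with
        ⟨-, h⟩ | ⟨-, h⟩
      · omega
      · rw [H.e11] at h; omega

theorem pools {χ : IrrCharacter G} (hne : χ ≠ trivChar G) :
    (¬ 7 ∣ deg χ → deg χ ∈ p7) ∧ (7 ∣ deg χ → (isX23 (deg χ) = true → deg χ ∈ tPool) ∧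
      (isY23 (deg χ) = true → deg χ ∈ yPool) ∧
      (23 ∣ deg χ → ¬ 11 ∣ deg χ → deg χ ∈ uPool)) := by
  have h := List.all_eq_true.1 table_pools _ (H.deg_mem_degD hG hne)
  have hm := (List.mem_filter.1 (H.deg_mem_degD hG hne)).2
  rw [Bool.and_eq_true, List.contains_iff_mem, List.contains_iff_mem] at hm
  refine ⟨fun hd => ?_, fun hd => ?_⟩
  · rw [if_neg (by rw [beq_iff_eq]; exact fun e => hd (Nat.dvd_of_mod_eq_zero e))] at h
    exact List.contains_iff_mem.1 h
  · rw [if_pos (by rw [beq_iff_eq]; exact Nat.mod_eq_zero_of_dvd hd)] at h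
    simp only [Bool.and_eq_true, Bool.or_eq_true] at h
    obtain ⟨⟨h1, h2⟩, h3⟩ := h
    refine ⟨fun hx => ?_, fun hy => ?_, fun h23 h11 => ?_⟩
    · refine List.contains_iff_mem.1 (h1.resolve_left fun e => ?_)
      simp only [isX23] at hx
      rw [hx] at e
      simp at e
    · refine List.contains_iff_mem.1 (h2.resolve_left fun e => ?_)
      simp only [isY23] at hy
      rw [hy] at e
      simp at e
    · refine List.contains_iff_mem.1 (h3.resolve_left fun e => ?_)
      have h0 := Nat.mod_eq_zero_of_dvd h23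
      have h1' : deg χ % 11 = 1 ∨ deg χ % 11 = 10 := by
        have := hm.2
        simp only [List.mem_cons, List.not_mem_nil, or_false] at this
        exact this.resolve_left fun e' => h11 (Nat.dvd_of_mod_eq_zero e')
      rcases h1' with e1 | e1 <;> simp [h0, e1] at e

theorem sum_deg_sq (S : Finset (IrrCharacter G)) (hS : trivChar G ∉ S) {l : List ℕ}
    (hl : (l : Multiset ℕ) = S.val.map deg) : 1 + dsq l ≤ ord := by
  rw [dsq_eq hl]
  exact sum_deg_le hG hS

/-- The degrees in a block are listed. -/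
theorem exists_runs (i : Fin 3) :
    ∃ R ∈ blkSols i, (flat R : Multiset ℕ) = (H.xs7 i).val.map deg ∧ (R.map Prod.fst).Nodup ∧
      (blkDegs i R : Multiset ℕ) = (H.nt7 i).val.map deg := by
  obtain ⟨θ, hθ⟩ := H.S.exists_theta i
  have hnd : (pool7 i).Nodup := List.Nodup.filter _ (by decide)
  have htriv : trivChar G ∉ H.nt7 i := Finset.notMem_erase _ _
  have hbud := sum_deg_le hG htriv
  rw [H.nt7_eq, Finset.sum_union (H.disjoint_xs7 i)] at hbud
  obtain ⟨R, hR, hRm⟩ := combos_sound (mn := fun _ => 0) hnd (k := 3 - blkTriv i) (B := ord)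
    (B' := 0) ((H.xs7 i).val.map deg) (fun d hd => by
      obtain ⟨χ, hχ, rfl⟩ := Multiset.mem_map.1 hd
      obtain ⟨hne, hX⟩ := Finset.mem_erase.1 hχ
      refine List.mem_filter.2 ⟨(H.pools hG hne).1 (H.S.not_dvd_of_mem i
        (Finset.mem_union_left _ hX)), ?_⟩
      simpa only [Bool.or_eq_true, beq_iff_eq] using (H.δ_eq i hX).2)
    (by rw [Multiset.card_map, ← Finset.card_def, H.card_xs7])
    (by rw [Multiset.map_map]; simp only [Function.comp_def]; simp only [Finset.sum] at hbud; omega)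
    (by simp)
  obtain ⟨hS, hε, hy⟩ := H.dsum7_eq i hθ hRm
  have hθne : θ ≠ trivChar G := fun e => H.triv_notMem_Y7 i (e ▸ hθ)
  have hY : ([deg θ, deg θ] : List ℕ) = ([deg θ, deg θ] : List ℕ) := rfl
  refine ⟨R, List.mem_filter.2 ⟨hR, ?_⟩, hRm, (combos_runs hnd hR).1, ?_⟩
  · simp only [degOk7, hy, hε, Bool.and_eq_true, List.contains_iff_mem, beq_iff_eq, decide_eq_true_eq]
    refine ⟨⟨(H.pools hG hθne).1 (H.S.not_dvd_of_mem i (Finset.mem_union_right _ hθ)), ?_⟩, ?_⟩
    · have h := H.S.deg_mod_Y i hθ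
      rw [etaDeg_eq] at h
      exact Int.emod_eq_zero_of_dvd (by
        have h' := Int.modEq_iff_dvd.1 h.symm
        rwa [mul_assoc] at h')
    · rw [dsq_eq hRm]
      have e : ∑ χ ∈ (H.S.blk i).Y, deg χ * deg χ = 2 * (deg θ * deg θ) := by
        rw [Finset.sum_congr rfl fun χ hχ => by
          rw [(H.S.blk i).deg_Y (by norm_num) hθ hχ], Finset.sum_const, H.cardY7, smul_eq_mul]
      have : blkTriv i ≤ 1 := (by decide : ∀ j : Fin 3, blkTriv j ≤ 1) i
      omega
  · rw [H.nt7_eq, blkDegs, hy]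
    exact append_map_eq hRm (pair_map_eq (H.cardY7 i) fun χ hχ =>
      (H.S.blk i).deg_Y (by norm_num) hθ hχ) (H.disjoint_xs7 i)

/-- The column of a block at an involution of the complement is listed. -/
theorem exists_col7 [Fintype (IrrCharacter G)] (i : Fin 3) {s : G} (hsV : s ∈ H.L7.V)
    (hs : orderOf s = 2) {R : List Run} (hR : (flat R : Multiset ℕ) = (H.xs7 i).val.map deg)
    (hnd : (R.map Prod.fst).Nodup) :
    ∃ r ∈ cols7 i (cent s) R, (r : Multiset Cell) = (H.nt7 i).val.map (cell s) := by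
  have := Fact.mk (show Nat.Prime 7 by norm_num)
  obtain ⟨θ, hθ⟩ := H.S.exists_theta i
  have hθne : θ ≠ trivChar G := fun e => H.triv_notMem_Y7 i (e ▸ hθ)
  have hC := cent_le hG (fun e => by simp [e] at hs : s ≠ 1)
  have hsp : ¬ 7 ∣ orderOf s := by rw [hs]; norm_num
  have hsame : ∀ χ ∈ (H.S.blk i).Y, cell s χ = cell s θ := fun χ hχ => by
    have e1 := (H.S.blk i).sameY χ hχ θ hθ s hsp
    rw [(ival_spec hG hs χ).1, (ival_spec hG hs θ).1] at e1
    exact Prod.ext ((H.S.blk i).deg_Y (by norm_num) hθ hχ) (by exact_mod_cast e1)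
  have hbud := sum_sq_le hG hs (S := H.nt7 i) (Finset.notMem_erase _ _)
  rw [H.nt7_eq, Finset.sum_union (H.disjoint_xs7 i)] at hbud
  have hYs : ∑ χ ∈ (H.S.blk i).Y, (ival s χ).natAbs * (ival s χ).natAbs =
      2 * ((ival s θ).natAbs * (ival s θ).natAbs) := by
    rw [Finset.sum_congr rfl fun χ hχ => by
      rw [show ival s χ = ival s θ from congrArg Prod.snd (hsame χ hχ)], Finset.sum_const,
      H.cardY7, smul_eq_mul]
  obtain ⟨b, hb, hbm⟩ := vals_sound (vs := vals7 i (cent s)) hnd (B := cent s - 1)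
    ((H.xs7 i).val.map (cell s)) (fun t ht => by
      obtain ⟨χ, hχ, rfl⟩ := Multiset.mem_map.1 ht
      obtain ⟨hne, hX⟩ := Finset.mem_erase.1 hχ
      have hok := okv_cell hG hs hne
      have hok' := hok
      simp only [okv, Bool.and_eq_true, beq_iff_eq, decide_eq_true_eq] at hok'
      have hc := (H.S.blk i).val_congr H.L7.setup (by norm_num) hX (s := ⟨s, hsV⟩) hs
        (a := etaVal i) (H.S.val_η i ⟨s, hsV⟩ hs) (ival_spec hG hs χ).1
      rw [(H.δ_eq i hX).1, etaVal_eq] at hc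
      refine List.mem_filter.2 ⟨mem_progression (by norm_num) (by simp only [cell]; omega) ?_
        (le_min (by simp only [cell]; omega) (le_isqGo (lt_of_le_of_lt hC (by norm_num))
          (by simp only [cell]; omega))),
        hok⟩
      simp only [cell]
      omega)
    (by rw [Multiset.map_map, hR]; rfl)
    (by rw [Multiset.map_map]
        simp only [Finset.sum] at hbud
        simp only [Function.comp_def, cell]
        omega)
  obtain ⟨-, hε, hy⟩ := H.dsum7_eq i hθ (map_fst hbm)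
  have hw : wval7 i b = ival s θ := by
    have h1 := (H.S.blk i).rel θ hθ s hsp
    rw [H.sum_X7 i fun χ => (χ : G → ℂ) s, trivChar_apply, mul_one] at h1
    simp only [fun χ => (ival_spec hG hs χ).1] at h1
    have h2 : (H.S.blk i).ε * ival s θ =
        (blkTriv i : ℤ) + ∑ χ ∈ H.xs7 i, sg7 i (deg χ) * ival s χ := by exact_mod_cast h1
    rw [wval7, hε, sum_map_eq _ hbm]
    show (H.S.blk i).ε * ((blkTriv i : ℤ) + ∑ χ ∈ H.xs7 i, sg7 i (deg χ) * ival s χ) = _
    rw [← h2]
    rcases (H.S.blk i).sgnY with h | h <;> simp [h]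
  have hyc : ycell7 i b = cell s θ := Prod.ext hy hw
  refine ⟨_, List.mem_map.2 ⟨b, List.mem_filter.2 ⟨hb, ?_⟩, rfl⟩, ?_⟩
  · simp only [colOk7, hyc, hε, Bool.and_eq_true, decide_eq_true_eq, beq_iff_eq]
    refine ⟨⟨okv_cell hG hs hθne, ?_⟩, ?_⟩
    · rw [nsq_eq hbm]
      have : blkTriv i ≤ 1 := (by decide : ∀ j : Fin 3, blkTriv j ≤ 1) i
      show blkTriv i + _ + 2 * ((ival s θ).natAbs * (ival s θ).natAbs) ≤ _
      omega
    · rw [sum_map_eq _ hbm]
      simp only [cell]
      refine @Int.cast_injective ℂ _ _ _ _ ?_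
      have he := H.S.pairs hG H.e7 i hs hθ
      rw [H.sum_X7 i fun χ => (χ : G → ℂ) s ^ 2 / (χ : G → ℂ) 1, trivChar_apply,
        trivChar_apply] at he
      simp only [fun χ => (ival_spec hG hs χ).1] at he
      have key : ∀ χ : IrrCharacter G, ((ord / deg χ : ℕ) : ℂ) = (ord : ℂ) / (χ : G → ℂ) 1 :=
        fun χ => by
          rw [deg_cast, Nat.cast_div (hG ▸ Order443520.deg_dvd_card χ)
            (Nat.cast_ne_zero.2 (charDegree_pos χ).ne')]
      simp only [Int.cast_sub, Int.cast_add, Int.cast_mul, Int.cast_natCast, Int.cast_sum,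
        Int.cast_zero, key]
      rw [Finset.sum_congr rfl fun χ _ => show
        (sg7 i (deg χ) : ℂ) * ((ival s χ : ℂ) * (ival s χ : ℂ)) * ((ord : ℂ) / (χ : G → ℂ) 1) =
          (ord : ℂ) * ((sg7 i (deg χ) : ℂ) * ((ival s χ : ℂ) ^ 2 / (χ : G → ℂ) 1)) by ring,
        ← Finset.mul_sum]
      linear_combination (ord : ℂ) * he
  · rw [H.nt7_eq, hyc]
    exact append_map_eq hbm (pair_map_eq (H.cardY7 i) hsame) (H.disjoint_xs7 i)

end Shaped

end CfsgLib.Blocks.Order244823040
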