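import Cfsg.Agent.Lib.Blocks.Order244823040.SevenChecks

/-!
# The columns, first part
-/

set_option autoImplicit false
set_option Elab.async false

namespace CfsgLib.Blocks.Order244823040

theorem table_key_0 :
    ((keyParts.drop 0).take 1).all (chkKey 21504) = true := by decide +kernel

theorem table_key_1 :
    ((keyParts.drop 1).take 1).all (chkKey 21504) = true := by decide +kernel

theorem table_key_2 :
    ((keyParts.drop 2).take 1).all (chkKey 21504) = true := by decide +kernel

theorem table_key_3 :
    ((keyParts.drop 3).take 1).all (chkKey 21504) = true := by decide +kernel

end CfsgLib.Blocks.Order244823040
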