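import Cfsg.Agent.Lib.Blocks.Order244823040.SevenTablesCentA

/-!
# The columns, second part
-/

set_option autoImplicit false
set_option Elab.async false

namespace CfsgLib.Blocks.Order244823040

theorem table_key_4 :
    ((keyParts.drop 4).take 1).all (chkKey 21504) = true := by decide +kernel

theorem table_key_5 :
    ((keyParts.drop 5).take 1).all (chkKey 21504) = true := by decide +kernel

theorem table_key_6 :
    ((keyParts.drop 6).take 1).all (chkKey 21504) = true := by decide +kernel

end CfsgLib.Blocks.Order244823040
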