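import Cfsg.Agent.Lib.Blocks.Order244823040.Basic

/-!
# The values allowed in the searches
-/

set_option autoImplicit false

namespace CfsgLib.Blocks.Order244823040

theorem isqGo_spec (C : ℕ) : ∀ (k r : ℕ), r * r ≤ C → C < (r + 2 ^ k) * (r + 2 ^ k) →
    isqGo C k r * isqGo C k r ≤ C ∧ C < (isqGo C k r + 1) * (isqGo C k r + 1)
  | 0, r, h1, h2 => ⟨h1, by simpa [isqGo] using h2⟩
  | k + 1, r, h1, h2 => by
    rw [isqGo]
    split_ifs with h
    · refine isqGo_spec C k _ h ?_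
      rwa [add_assoc, ← two_mul, ← pow_succ']
    · exact isqGo_spec C k r h1 (by omega)

theorem le_isqGo {C m k : ℕ} (hC : C < 2 ^ k * 2 ^ k) (hm : m * m ≤ C) : m ≤ isqGo C k 0 := by
  obtain ⟨-, h⟩ := isqGo_spec C k 0 (by simp) (by simpa using hC)
  by_contra hlt
  have := Nat.mul_le_mul (show isqGo C k 0 + 1 ≤ m by omega) (show isqGo C k 0 + 1 ≤ m by omega)
  omega

theorem isqGo_mul_self {j k : ℕ} (hj : j < 2 ^ k) : isqGo (j * j) k 0 = j := by
  have hlt : j * j < 2 ^ k * 2 ^ k := Nat.mul_self_lt_mul_self hj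
  obtain ⟨h1, h2⟩ := isqGo_spec (j * j) k 0 (by simp) (by simpa using hlt)
  have h3 := Nat.mul_self_le_mul_self_iff.1 h1
  have h4 := Nat.mul_self_lt_mul_self_iff.1 h2
  omega

theorem mem_window {d m : ℕ} {w : ℤ} (h4 : ((d : ℤ) - w) % 4 = 0) (hw : w.natAbs ≤ m) :
    w ∈ window d m := by
  refine List.mem_filter.2 ⟨List.mem_map.2 ⟨((w - (d : ℤ)) / 4 + ((d + m) / 4 : ℕ)).toNat,
    List.mem_range.2 (by omega), by omega⟩, decide_eq_true hw⟩

theorem mem_progression {k r m : ℕ} (hk : 0 < k) (hr : r < k) {w : ℤ}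
    (hc : (k : ℤ) ∣ w - (r : ℤ)) (hw : w.natAbs ≤ m) : w ∈ progression k r m := by
  obtain ⟨q, hq⟩ := hc
  obtain ⟨t, ht⟩ : ∃ t : ℕ, t = (r + m) / k := ⟨_, rfl⟩
  have hk' : (0 : ℤ) < k := by exact_mod_cast hk
  have h1 : k * t ≤ r + m := by rw [ht]; exact Nat.mul_div_le _ _
  have h2 : r + m < k * (t + 1) := by
    rw [ht, Nat.mul_succ]
    have := Nat.div_add_mod (r + m) k
    have := Nat.mod_lt (r + m) hk
    omega
  have h1' : (k : ℤ) * t ≤ r + m := by exact_mod_cast h1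
  have h2' : (r : ℤ) + m < k * ((t : ℤ) + 1) := by exact_mod_cast h2
  have hlo : 0 ≤ q + (t : ℤ) := by
    by_contra hlt
    have := mul_le_mul_of_nonneg_left (show q + (t : ℤ) + 1 ≤ 0 by omega) hk'.le
    rw [mul_zero, mul_add, mul_add, mul_one, ← hq] at this
    rw [mul_add, mul_one] at h2'
    omega
  obtain ⟨u, hu⟩ : ∃ u : ℕ, u = 2 * m / k := ⟨_, rfl⟩
  have h3 : (2 * m : ℤ) < (k : ℤ) * ((u : ℤ) + 1) := by
    have := Nat.div_add_mod (2 * m) k
    have := Nat.mod_lt (2 * m) hk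
    have h : 2 * m < k * (u + 1) := by rw [hu, Nat.mul_succ]; omega
    exact_mod_cast h
  have hhi : q + (t : ℤ) < (u : ℤ) + 2 := by
    by_contra hge
    have := mul_le_mul_of_nonneg_left (show (u : ℤ) + 1 + 1 ≤ q + t by omega) hk'.le
    rw [mul_add, mul_add (k : ℤ) q, ← hq, mul_one] at this
    rw [mul_add, mul_one] at h2'
    omega
  refine List.mem_filter.2 ⟨List.mem_map.2 ⟨(q + (t : ℤ)).toNat,
    List.mem_range.2 (by rw [← hu]; omega), ?_⟩, decide_eq_true hw⟩
  rw [Int.toNat_of_nonneg hlo, ← ht, mul_add, ← hq]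
  ring

theorem classOf_spec {p : ℕ} (hp : p = 5 ∨ p = 7 ∨ p = 11 ∨ p = 23) (d : ℕ) :
    classOf p d < 4 * p ∧ classOf p d % 4 = d % 4 ∧
      classOf p d % p = if d % p == 1 then 1 else p - 1 := by
  set c := if d % p == 1 then 1 else p - 1 with hc
  unfold classOf
  rw [← hc]
  set f := fun r => r % 4 == d % 4 && r % p == c
  have hex : ((List.range (4 * p)).find? f).isSome := by
    rw [List.find?_isSome]
    have hd := Nat.mod_lt d (show 0 < 4 by norm_num)
    have hcp : c = 1 ∨ c = p - 1 := by rw [hc]; split_ifs <;> simp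
    have key : ∀ q ∈ [5, 7, 11, 23], ∀ a < 4, ∀ b ∈ [1, q - 1],
        (List.range (4 * q)).any (fun r => r % 4 == a && r % q == b) = true := by decide
    obtain ⟨r, hr, hf⟩ := List.any_eq_true.1 (key p (by rcases hp with rfl | rfl | rfl | rfl <;> simp)
      _ hd c (by rcases hcp with h | h <;> simp [h]))
    exact ⟨r, hr, hf⟩
  obtain ⟨r, hr⟩ := Option.isSome_iff_exists.1 hex
  rw [hr, Option.getD_some]
  have h1 := List.mem_range.1 (List.mem_of_find?_eq_some hr)
  have h2 := List.find?_some hr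
  simp only [f, Bool.and_eq_true, beq_iff_eq] at h2
  exact ⟨h1, h2.1, h2.2⟩

theorem mem_valsAt {C d : ℕ} {w : ℤ} (hC : C ≤ 10644480) (h : okv C d w = true) :
    w ∈ valsAt C d := by
  have h' := h
  simp only [okv, Bool.and_eq_true, beq_iff_eq, decide_eq_true_eq] at h'
  exact List.mem_filter.2 ⟨mem_window h'.1.1.1
    (le_min (by omega) (le_isqGo (by norm_num; omega) (by omega))), h⟩

theorem mem_valsC {p C d : ℕ} {w : ℤ} (hp : p = 5 ∨ p = 7 ∨ p = 11 ∨ p = 23) (hC : C ≤ 10644480)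
    (h : okv C d w = true) (hc : (p : ℤ) ∣ w - sgn p d) : w ∈ valsC p C d := by
  have h' := h
  simp only [okv, Bool.and_eq_true, beq_iff_eq, decide_eq_true_eq] at h'
  obtain ⟨hr, h4, hm⟩ := classOf_spec hp d
  refine List.mem_filter.2 ⟨mem_progression (by omega) hr ?_
    (le_min (by omega) (le_isqGo (by norm_num; omega) (by omega))), h⟩
  have h44 := h'.1.1.1
  unfold sgn at hc
  rcases hp with rfl | rfl | rfl | rfl <;> (revert hm hc; split_ifs <;> intro hc hm) <;> omega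

end CfsgLib.Blocks.Order244823040
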